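import Cfsg.Agent.Lib.Characters.LThreeThree.Plane
import Cfsg.Agent.Lib.Classical.LinearCard

/-!
# Recognition of `L₃(3)` from the plane of order three
-/

set_option autoImplicit false
set_option linter.style.haveILetI false

namespace Cfsg.Agent.Lib.Characters.LThreeThree

open Cfsg Cfsg.Agent.Lib.Characters Cfsg.Agent.Lib.Characters.GLTwoThree
open MulAction Matrix

universe u

variable {G : Type u} [Group G] [Finite G] {t : G} {E M : Subgroup G}

theorem Hyp.exists_geo (h : Hyp G t) (hG : Nat.card G = 5616) : ∃ E M : Subgroup G, Geo E M := by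
  haveI := h.simple
  obtain ⟨x, E, M, -, -, hE, hM, hMc, hel, hcomm, hcount⟩ := h.exists_local hG
  refine ⟨E, M, ⟨hG, hE, hMc, hM, hel, hcomm, fun v w => h.el_conj, ?_, hcount, ?_⟩⟩
  · rintro v ⟨h3, s, hs, hc⟩
    obtain ⟨h'⟩ := h.conj hs
    exact h'.cent_fifty_four hG h3 hc.eq.symm
  · intro g hg
    rcases (MonoidHom.normal_ker (MulAction.toPermHom G (G ⧸ M))).eq_bot_or_eq_top with e | e
    · have hm : g ∈ (MulAction.toPermHom G (G ⧸ M)).ker := by
        rw [MonoidHom.mem_ker]; exact Equiv.ext hg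
      rw [e, Subgroup.mem_bot] at hm
      exact hm
    · exfalso
      have htop : M = ⊤ := eq_top_iff.2 fun k _ => by
        have hk : k ∈ (MulAction.toPermHom G (G ⧸ M)).ker := e ▸ Subgroup.mem_top k
        have h1 : k • ((1 : G) : G ⧸ M) = ((1 : G) : G ⧸ M) := by
          simpa using Equiv.congr_fun (MonoidHom.mem_ker.1 hk) ((1 : G) : G ⧸ M)
        rw [fix_iff] at h1
        simpa using h1
      rw [htop, Subgroup.card_top, hG] at hMc
      norm_num at hMc

/-! ### Automorphisms of the model -/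

/-- The automorphism group of the model. -/
def planeAut : Subgroup (Equiv.Perm (Fin 13)) where
  carrier := {σ | ∀ i j k, i ≠ j → i ≠ k → j ≠ k → detB (σ i) (σ j) (σ k) = detB i j k}
  one_mem' := fun _ _ _ _ _ _ => rfl
  mul_mem' {σ τ} hσ hτ := fun i j k a b c =>
    (hσ _ _ _ (τ.injective.ne a) (τ.injective.ne b) (τ.injective.ne c)).trans (hτ i j k a b c)
  inv_mem' {σ} hσ := fun i j k a b c => by
    have := hσ (σ⁻¹ i) (σ⁻¹ j) (σ⁻¹ k) (σ⁻¹.injective.ne a) (σ⁻¹.injective.ne b) (σ⁻¹.injective.ne c)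
    simpa using this.symm

/-- Four points in general position. -/
def genB (i j k l : Fin 13) : Bool :=
  decide (i ≠ j) && decide (i ≠ k) && decide (j ≠ k) && decide (i ≠ l) && decide (j ≠ l) && decide (k ≠ l) &&
    !detB i j k && !detB i j l && !detB i k l && !detB j k l

set_option maxRecDepth 100000 in
theorem card_frames : (∑ i : Fin 13, ∑ j : Fin 13, ∑ k : Fin 13, ∑ l : Fin 13,
    if genB i j k l then 1 else 0) = 5616 := by decide +kernel

theorem card_genB : Nat.card {p : Fin 13 × Fin 13 × Fin 13 × Fin 13 // genB p.1 p.2.1 p.2.2.1 p.2.2.2} =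
    5616 := by
  rw [Nat.card_eq_fintype_card, Fintype.card_subtype, Finset.card_filter]
  simp only [Fintype.sum_prod_type]
  exact card_frames

theorem fix_step {σ : Equiv.Perm (Fin 13)} (hσ : σ ∈ planeAut) {a b c d n : Fin 13}
    (ha : σ a = a) (hb : σ b = b) (hc : σ c = c) (hd : σ d = d)
    (hdist : a ≠ b ∧ a ≠ n ∧ b ≠ n ∧ c ≠ d ∧ c ≠ n ∧ d ≠ n ∧ detB a b n = true ∧ detB c d n = true)
    (hu : ∀ m, m ≠ a → m ≠ b → m ≠ c → m ≠ d → detB a b m = true → detB c d m = true → m = n) :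
    σ n = n := by
  obtain ⟨h1, h2, h3, h4, h5, h6, h7, h8⟩ := hdist
  refine hu _ (ha ▸ σ.injective.ne h2.symm) (hb ▸ σ.injective.ne h3.symm) (hc ▸ σ.injective.ne h5.symm)
    (hd ▸ σ.injective.ne h6.symm) ?_ ?_
  · have := hσ a b n h1 h2 h3
    rw [ha, hb, h7] at this
    exact this
  · have := hσ c d n h4 h5 h6
    rw [hc, hd, h8] at this
    exact this

theorem planeAut_frame {σ : Equiv.Perm (Fin 13)} (hσ : σ ∈ planeAut) (h0 : σ 0 = 0) (h9 : σ 9 = 9)
    (h10 : σ 10 = 10) (h4 : σ 4 = 4) : σ = 1 := by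
  have h11 : σ 11 = 11 := fix_step hσ h0 h4 h9 h10 (by decide +kernel) (by decide +kernel)
  have h1 : σ 1 = 1 := fix_step hσ h0 h9 h4 h10 (by decide +kernel) (by decide +kernel)
  have h3 : σ 3 = 3 := fix_step hσ h0 h10 h4 h9 (by decide +kernel) (by decide +kernel)
  have h12 : σ 12 = 12 := fix_step hσ h1 h3 h9 h10 (by decide +kernel) (by decide +kernel)
  have h5 : σ 5 = 5 := fix_step hσ h3 h4 h0 h12 (by decide +kernel) (by decide +kernel)
  have h7 : σ 7 = 7 := fix_step hσ h1 h4 h0 h12 (by decide +kernel) (by decide +kernel)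
  have h2 : σ 2 = 2 := fix_step hσ h0 h1 h4 h12 (by decide +kernel) (by decide +kernel)
  have h6 : σ 6 = 6 := fix_step hσ h0 h3 h4 h12 (by decide +kernel) (by decide +kernel)
  have h8 : σ 8 = 8 := fix_step hσ h0 h4 h2 h5 (by decide +kernel) (by decide +kernel)
  ext n
  fin_cases n <;> simp [h0, h1, h2, h3, h4, h5, h6, h7, h8, h9, h10, h11, h12]

theorem card_planeAut : Nat.card planeAut ≤ 5616 := by
  have hf : ∀ σ : planeAut, genB (σ.1 0) (σ.1 9) (σ.1 10) (σ.1 4) = true := by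
    intro σ
    have base : genB 0 9 10 4 = true := by decide +kernel
    simp only [genB, Bool.and_eq_true, decide_eq_true_eq, Bool.not_eq_true'] at base ⊢
    obtain ⟨⟨⟨⟨⟨⟨⟨⟨⟨a, b⟩, c⟩, d⟩, e⟩, f⟩, p⟩, q⟩, r⟩, s⟩ := base
    refine ⟨⟨⟨⟨⟨⟨⟨⟨⟨σ.1.injective.ne a, σ.1.injective.ne b⟩, σ.1.injective.ne c⟩, σ.1.injective.ne d⟩,
      σ.1.injective.ne e⟩, σ.1.injective.ne f⟩, ?_⟩, ?_⟩, ?_⟩, ?_⟩
    · rw [σ.2 0 9 10 a b c, p]
    · rw [σ.2 0 9 4 a d e, q]
    · rw [σ.2 0 10 4 b d f, r]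
    · rw [σ.2 9 10 4 c e f, s]
  rw [← card_genB]
  refine Nat.card_le_card_of_injective
    (fun σ : planeAut => ⟨(σ.1 0, σ.1 9, σ.1 10, σ.1 4), hf σ⟩) fun σ τ e => ?_
  obtain ⟨e0, e9, e10, e4⟩ : σ.1 0 = τ.1 0 ∧ σ.1 9 = τ.1 9 ∧ σ.1 10 = τ.1 10 ∧ σ.1 4 = τ.1 4 := by
    simpa using congrArg Subtype.val e
  have := planeAut_frame (planeAut.mul_mem (planeAut.inv_mem τ.2) σ.2) (by simp [e0]) (by simp [e9])
    (by simp [e10]) (by simp [e4])
  exact Subtype.ext (inv_mul_eq_one.1 this).symm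

theorem Geo.exists_embedding (h : Geo E M) : ∃ f : G →* planeAut, Function.Injective f := by
  obtain ⟨ψ, hψ⟩ := exists_coordinates h
  have hcoll : ∀ (g : G) {a b c : G ⧸ M}, Coll M a b c → Coll M (g • a) (g • b) (g • c) := by
    rintro g a b c ⟨w, hw, h1, h2, h3⟩
    refine ⟨g * w * g⁻¹, hw.conj g, ?_, ?_, ?_⟩ <;>
      · rw [mem_fixSet, ← mul_smul, inv_mul_cancel_right, mul_smul]
        simp only [mem_fixSet] at h1 h2 h3
        first | rw [h1] | rw [h2] | rw [h3]
  have hiff : ∀ (g : G) (a b c : G ⧸ M), Coll M (g • a) (g • b) (g • c) ↔ Coll M a b c := fun g a b c =>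
    ⟨fun hc => by simpa using hcoll g⁻¹ hc, hcoll g⟩
  let F : G → Equiv.Perm (Fin 13) := fun g => (ψ.trans (MulAction.toPerm g)).trans ψ.symm
  have hF : ∀ g n, ψ (F g n) = g • ψ n := fun g n => by simp [F]
  have hmem : ∀ g, F g ∈ planeAut := fun g i j k a b c => by
    rw [Bool.eq_iff_iff, hψ _ _ _ ((F g).injective.ne a) ((F g).injective.ne b) ((F g).injective.ne c),
      hF, hF, hF, hiff, hψ i j k a b c]
  refine ⟨MonoidHom.mk' (fun g => ⟨F g, hmem g⟩) fun g k => Subtype.ext (Equiv.ext fun n =>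
    ψ.injective ?_), (injective_iff_map_eq_one _).2 fun g hg => h.faithful g fun q => ?_⟩
  · show ψ (F (g * k) n) = ψ (F g (F k n))
    rw [hF, hF, hF, mul_smul]
  · have h1 : F g (ψ.symm q) = ψ.symm q := Equiv.congr_fun (congrArg Subtype.val hg) (ψ.symm q)
    have h2 := hF g (ψ.symm q)
    rw [h1, Equiv.apply_symm_apply] at h2
    exact h2.symm

/-! ### The special linear group on the model -/

/-- The point of a non-zero vector. -/
def idxOf (v : Fin 3 → ZMod 3) : Fin 13 :=
  ((List.finRange 13).find? fun n => decide (col n = v ∨ col n = -v)).getD 0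

theorem idxOf_spec : ∀ v : Fin 3 → ZMod 3, v ≠ 0 → col (idxOf v) = v ∨ col (idxOf v) = -v := by
  decide +kernel

theorem idxOf_col : ∀ n : Fin 13, idxOf (col n) = n := by decide +kernel

theorem idxOf_neg : ∀ v : Fin 3 → ZMod 3, idxOf (-v) = idxOf v := by decide +kernel

theorem col_ne_zero : ∀ n : Fin 13, col n ≠ 0 := by decide +kernel

/-- The determinant of three vectors. -/
def det3 (u v w : Fin 3 → ZMod 3) : ZMod 3 :=
  u 0 * (v 1 * w 2 - v 2 * w 1) - u 1 * (v 0 * w 2 - v 2 * w 0) + u 2 * (v 0 * w 1 - v 1 * w 0)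

theorem det3_mulVec (A : Matrix (Fin 3) (Fin 3) (ZMod 3)) (u v w : Fin 3 → ZMod 3) :
    det3 (A *ᵥ u) (A *ᵥ v) (A *ᵥ w) = A.det * det3 u v w := by
  simp only [det3, Matrix.det_fin_three, Matrix.mulVec, dotProduct, Fin.sum_univ_three]
  ring

theorem detB_iff (i j k : Fin 13) : detB i j k = true ↔ det3 (col i) (col j) (col k) = 0 := by
  simp [detB, det3]

abbrev S33 := Matrix.SpecialLinearGroup (Fin 3) (ZMod 3)

theorem mulVec_ne (A : S33) {v : Fin 3 → ZMod 3} (hv : v ≠ 0) : A.1 *ᵥ v ≠ 0 := fun e => hv (by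
  have := congrArg (fun x => (A⁻¹).1 *ᵥ x) e
  simp only [Matrix.mulVec_mulVec, Matrix.mulVec_zero, ← Matrix.SpecialLinearGroup.coe_mul, inv_mul_cancel,
    Matrix.SpecialLinearGroup.coe_one, Matrix.one_mulVec] at this
  exact this)

/-- The image of a point. -/
def pointMap (A : S33) (n : Fin 13) : Fin 13 := idxOf (A.1 *ᵥ col n)

theorem pointMap_mul (A B : S33) (n : Fin 13) : pointMap (A * B) n = pointMap A (pointMap B n) := by
  simp only [pointMap, Matrix.SpecialLinearGroup.coe_mul, ← Matrix.mulVec_mulVec]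
  rcases idxOf_spec _ (mulVec_ne B (col_ne_zero n)) with e | e <;> rw [e]
  rw [Matrix.mulVec_neg, idxOf_neg]

theorem pointMap_one (n : Fin 13) : pointMap 1 n = n := by
  simp [pointMap, idxOf_col]

/-- The permutation of the points. -/
def pointPerm (A : S33) : Equiv.Perm (Fin 13) where
  toFun := pointMap A
  invFun := pointMap A⁻¹
  left_inv n := by rw [← pointMap_mul, inv_mul_cancel, pointMap_one]
  right_inv n := by rw [← pointMap_mul, mul_inv_cancel, pointMap_one]

theorem pointPerm_mem (A : S33) : pointPerm A ∈ planeAut := by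
  intro i j k _ _ _
  rw [Bool.eq_iff_iff, detB_iff, detB_iff]
  show det3 (col (idxOf (A.1 *ᵥ col i))) (col (idxOf (A.1 *ᵥ col j))) (col (idxOf (A.1 *ᵥ col k))) = 0 ↔ _
  have key : det3 (A.1 *ᵥ col i) (A.1 *ᵥ col j) (A.1 *ᵥ col k) = det3 (col i) (col j) (col k) := by
    rw [det3_mulVec, A.2, one_mul]
  rw [← key]
  have s1 : ∀ u v w, det3 (-u) v w = -det3 u v w := fun u v w => by simp only [det3, Pi.neg_apply]; ring
  have s2 : ∀ u v w, det3 u (-v) w = -det3 u v w := fun u v w => by simp only [det3, Pi.neg_apply]; ring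
  have s3 : ∀ u v w, det3 u v (-w) = -det3 u v w := fun u v w => by simp only [det3, Pi.neg_apply]; ring
  rcases idxOf_spec _ (mulVec_ne A (col_ne_zero i)) with e1 | e1 <;>
    rcases idxOf_spec _ (mulVec_ne A (col_ne_zero j)) with e2 | e2 <;>
    rcases idxOf_spec _ (mulVec_ne A (col_ne_zero k)) with e3 | e3 <;>
    simp [e1, e2, e3, s1, s2, s3]

theorem col_unit : ∀ j : Fin 3, col (![9, 10, 0] j) = Pi.single j 1 := by decide +kernel

theorem diag_check : ∀ d : Fin 3 → ZMod 3, (Matrix.diagonal d *ᵥ col 4 = col 4 ∨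
    Matrix.diagonal d *ᵥ col 4 = -col 4) → (Matrix.diagonal d).det = 1 → Matrix.diagonal d = 1 := by
  decide +kernel

/-- The homomorphism to the automorphisms of the model. -/
def linHom : S33 →* planeAut :=
  MonoidHom.mk' (fun A => ⟨pointPerm A, pointPerm_mem A⟩) fun A B =>
    Subtype.ext (Equiv.ext fun n => pointMap_mul A B n)

theorem linHom_injective : Function.Injective linHom := by
  rw [injective_iff_map_eq_one]
  intro A hA
  have hfix : ∀ n, A.1 *ᵥ col n = col n ∨ A.1 *ᵥ col n = -col n := by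
    intro n
    have h1 : idxOf (A.1 *ᵥ col n) = n := Equiv.congr_fun (congrArg Subtype.val hA) n
    rcases idxOf_spec _ (mulVec_ne A (col_ne_zero n)) with e | e <;> rw [h1] at e
    · exact Or.inl e.symm
    · exact Or.inr (neg_eq_iff_eq_neg.2 e).symm
  have hdiag : ∀ j i, i ≠ j → A.1 i j = 0 := by
    intro j i hij
    have hj := hfix (![9, 10, 0] j)
    rw [col_unit j, Matrix.mulVec_single_one] at hj
    rcases hj with e | e
    · simpa [Matrix.col, Pi.single_eq_of_ne hij] using congrFun e i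
    · simpa [Matrix.col, Pi.single_eq_of_ne hij] using congrFun e i
  have hA' : A.1 = Matrix.diagonal fun i => A.1 i i := by
    ext i j
    by_cases hij : i = j
    · subst hij; simp
    · rw [Matrix.diagonal_apply_ne _ hij, hdiag j i hij]
  refine Subtype.ext ?_
  show A.1 = 1
  rw [hA']
  exact diag_check _ (hA' ▸ hfix 4) (hA' ▸ A.2)

theorem card_S33 : Nat.card (Matrix.SpecialLinearGroup (Fin 3) (ZMod 3)) = 5616 := by
  have h := Cfsg.Agent.Lib.Classical.card_SL_mul (F := ZMod 3) (n := 3) (by norm_num)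
  rw [ZMod.card, Fin.prod_univ_three] at h
  generalize Nat.card _ = c at h ⊢
  norm_num at h
  omega

theorem card_PSL33 : Nat.card (Matrix.ProjectiveSpecialLinearGroup (Fin 3) (ZMod 3)) = 5616 := by
  have h := Cfsg.Agent.Lib.Classical.card_PSL_mul (F := ZMod 3) (n := 3) (by norm_num)
  rw [ZMod.card, Fin.prod_univ_three] at h
  generalize Nat.card _ = c at h ⊢
  norm_num at h
  omega

theorem Hyp.iso_psl (h : Hyp G t) (hG : Nat.card G = 5616) :
    Nonempty (G ≃* Matrix.ProjectiveSpecialLinearGroup (Fin 3) (ZMod 3)) := by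
  obtain ⟨E, M, hgeo⟩ := h.exists_geo hG
  obtain ⟨f, hf⟩ := hgeo.exists_embedding
  have hfb := hf.bijective_of_nat_card_le (card_planeAut.trans hG.ge)
  have hlb := linHom_injective.bijective_of_nat_card_le (card_planeAut.trans card_S33.ge)
  let π := QuotientGroup.mk' (Subgroup.center S33)
  have hπ : Function.Bijective π := (Function.Surjective.bijective_of_nat_card_le
    (QuotientGroup.mk'_surjective (Subgroup.center S33)) (by
      show Nat.card S33 ≤ Nat.card (Matrix.ProjectiveSpecialLinearGroup (Fin 3) (ZMod 3))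
      rw [card_S33, card_PSL33]))
  exact ⟨((MulEquiv.ofBijective f hfb).trans (MulEquiv.ofBijective linHom hlb).symm).trans
    (MulEquiv.ofBijective π hπ)⟩

end Cfsg.Agent.Lib.Characters.LThreeThree
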