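import Cfsg.Agent.Lib.Characters.LThreeThree.GLRecognition
import Cfsg.Agent.Lib.Characters.LThreeThree.Final

/-!
# The commuting graph of `L₃(3)` determines the group
-/

set_option autoImplicit false
set_option linter.style.haveILetI false

namespace Cfsg.Agent.Lib.Characters.LThreeThree.CommGraph

open Cfsg Cfsg.Agent.Lib.Characters Cfsg.Agent.Lib.Characters.GLTwoThree
open Cfsg.Agent.Lib.Characters.LThreeThree Matrix

abbrev P33 := Matrix.ProjectiveSpecialLinearGroup (Fin 3) (ZMod 3)

/-- The projection. -/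
def π : S33 →* P33 := QuotientGroup.mk' (Subgroup.center S33)

theorem π_bijective : Function.Bijective π :=
  Function.Surjective.bijective_of_nat_card_le
    (QuotientGroup.mk'_surjective (Subgroup.center S33)) (by
      show Nat.card S33 ≤ Nat.card P33
      rw [card_S33, card_PSL33])

theorem qdet_cases : ∀ q : G23, qdet q.1 * qdet q.1 = 1 := by decide +kernel

/-- The matrix of an element of the model. -/
def blockMat (q : G23) : Matrix (Fin 3) (Fin 3) (ZMod 3) :=
  !![qdet q.1, 0, 0; 0, q.1.1, q.1.2.1; 0, q.1.2.2.1, q.1.2.2.2]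

/-- The embedding of the model. -/
def ι₀ : G23 →* S33 :=
  MonoidHom.mk' (fun q => ⟨blockMat q, by
    have h := qdet_cases q
    rw [Matrix.det_fin_three]
    simp only [blockMat, qdet] at h ⊢
    simp
    linear_combination h⟩) fun a b => by
    refine Subtype.ext ?_
    show blockMat (a * b) = blockMat a * blockMat b
    have h : qdet (a * b).1 = qdet a.1 * qdet b.1 := qdet_qmul a.1 b.1
    ext i j
    fin_cases i <;> fin_cases j <;>
      first
        | (simpa [blockMat, Matrix.mul_apply, Fin.sum_univ_three] using h)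
        | (simp [blockMat, Matrix.mul_apply, Fin.sum_univ_three]; rfl)

/-- The embedding into the projective group. -/
def emb : G23 →* P33 := π.comp ι₀

theorem emb_injective : Function.Injective emb := by
  intro a b h
  have h' : blockMat a = blockMat b := congrArg Subtype.val (π_bijective.1 h)
  refine Subtype.ext (Prod.ext ?_ (Prod.ext ?_ (Prod.ext ?_ ?_)))
  · exact congrFun (congrFun h' 1) 1
  · exact congrFun (congrFun h' 1) 2
  · exact congrFun (congrFun h' 2) 1
  · exact congrFun (congrFun h' 2) 2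

/-- The distinguished involution. -/
def tt : P33 := emb neg1

theorem zero_of_twice : ∀ x : ZMod 3, x * 2 = x → x = 0 := by decide
theorem zero_of_twice' : ∀ x : ZMod 3, x = 2 * x → x = 0 := by decide
theorem det_eq : ∀ a d : ZMod 3, a * d = 1 → d = a := by decide

theorem exists_emb {y : P33} (hy : y * tt = tt * y) : ∃ q, emb q = y := by
  obtain ⟨A, rfl⟩ := π_bijective.2 y
  have h : A * ι₀ neg1 = ι₀ neg1 * A := π_bijective.1 (by rw [map_mul, map_mul]; exact hy)
  have he : ∀ i j, (A.1 * blockMat neg1) i j = (blockMat neg1 * A.1) i j := fun i j =>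
    congrFun (congrFun (congrArg Subtype.val h) i) j
  have e01 := he 0 1
  have e02 := he 0 2
  have e10 := he 1 0
  have e20 := he 2 0
  simp [blockMat, neg1, qdet, Matrix.mul_apply, Fin.sum_univ_three,
    show (2 : ZMod 3) * 2 = 1 by decide] at e01 e02 e10 e20
  have z01 : A.1 0 1 = 0 := zero_of_twice _ e01
  have z02 : A.1 0 2 = 0 := zero_of_twice _ e02
  have z10 : A.1 1 0 = 0 := zero_of_twice' _ e10
  have z20 : A.1 2 0 = 0 := zero_of_twice' _ e20
  have hd := A.2
  rw [Matrix.det_fin_three, z01, z02, z10, z20] at hd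
  have hd' : A.1 0 0 * qdet (A.1 1 1, A.1 1 2, A.1 2 1, A.1 2 2) = 1 := by
    simp only [qdet]; linear_combination hd
  have hq := det_eq _ _ hd'
  refine ⟨⟨(A.1 1 1, A.1 1 2, A.1 2 1, A.1 2 2), fun e => ?_⟩, congrArg π (Subtype.ext ?_)⟩
  · rw [e, mul_zero] at hd'
    exact zero_ne_one hd'
  · show blockMat _ = A.1
    ext i j
    fin_cases i <;> fin_cases j <;> simp [blockMat, hq, z01, z02, z10, z20]

/-- A signed permutation matrix. -/
def swapMat : S33 := ⟨!![0, 2, 0; 1, 0, 0; 0, 0, 1], by decide +kernel⟩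
/-- A transvection. -/
def shearMat : S33 := ⟨!![1, 1, 0; 0, 1, 0; 0, 0, 1], by decide +kernel⟩

theorem swap_conj : swapMat.1 * blockMat neg1 = blockMat (rep 2) * swapMat.1 := by decide +kernel

theorem cls_involution : ∀ q : G23, q * q = 1 → q ≠ 1 → q ≠ neg1 → cls q = 2 := by decide +kernel

theorem reflection_conj {q : G23} (h2 : q * q = 1) (h1 : q ≠ 1) (hn : q ≠ neg1) :
    ∃ σ : P33, σ * tt * σ⁻¹ = emb q := by
  obtain ⟨n, hn'⟩ := exists_conj_rep q
  rw [cls_involution q h2 h1 hn] at hn'
  have e : swapMat * ι₀ neg1 = ι₀ (rep 2) * swapMat := Subtype.ext swap_conj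
  refine ⟨emb n * π swapMat, ?_⟩
  have e' : π swapMat * tt = emb (rep 2) * π swapMat := by
    show π swapMat * π (ι₀ neg1) = π (ι₀ (rep 2)) * π swapMat
    rw [← map_mul, ← map_mul, e]
  rw [← hn', map_mul, map_mul, map_inv, _root_.mul_inv_rev]
  calc emb n * π swapMat * tt * ((π swapMat)⁻¹ * (emb n)⁻¹)
      = emb n * (π swapMat * tt) * (π swapMat)⁻¹ * (emb n)⁻¹ := by simp only [mul_assoc]
    _ = emb n * emb (rep 2) * (emb n)⁻¹ := by rw [e']; simp only [mul_assoc, mul_inv_cancel_left]

theorem shear_conj : shearMat.1 * blockMat neg1 =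
    !![1, 1, 0; 0, 2, 0; 0, 0, 2] * shearMat.1 := by decide +kernel

/-- A second conjugate of the distinguished involution. -/
theorem exists_other : ∃ σ : P33, (σ * tt * σ⁻¹) * tt ≠ tt * (σ * tt * σ⁻¹) := by
  let U : S33 := ⟨!![1, 1, 0; 0, 2, 0; 0, 0, 2], by decide +kernel⟩
  have e : shearMat * ι₀ neg1 = U * shearMat := Subtype.ext shear_conj
  refine ⟨π shearMat, fun h => ?_⟩
  have eU : π shearMat * tt * (π shearMat)⁻¹ = π U := by
    show π shearMat * π (ι₀ neg1) * (π shearMat)⁻¹ = _
    rw [← map_mul, e, map_mul, mul_inv_cancel_right]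
  rw [eU] at h
  have h' : U * ι₀ neg1 = ι₀ neg1 * U := π_bijective.1 (by rw [map_mul, map_mul]; exact h)
  have := congrFun (congrFun (congrArg Subtype.val h') 0) 1
  revert this
  show ((!![1, 1, 0; 0, 2, 0; 0, 0, 2] : Matrix (Fin 3) (Fin 3) (ZMod 3)) * blockMat neg1) 0 1 =
    (blockMat neg1 * (!![1, 1, 0; 0, 2, 0; 0, 0, 2] : Matrix (Fin 3) (Fin 3) (ZMod 3))) 0 1 → False
  decide +kernel

/-! ### Facts about the model -/

theorem model_center : ∀ q : G23, (∀ k : G23, k * q = q * k) → q = 1 ∨ q = neg1 := by decide +kernel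

theorem model_cent_card : ∀ q : G23, q ≠ 1 → q ≠ neg1 →
    ((cls q = 2 ∧ (Finset.univ.filter fun k : G23 => k * q = q * k).card = 4) ∨
     ((cls q = 6 ∨ cls q = 7) ∧ (Finset.univ.filter fun k : G23 => k * q = q * k).card = 6) ∨
     ((cls q = 3 ∨ cls q = 4 ∨ cls q = 5) ∧
       (Finset.univ.filter fun k : G23 => k * q = q * k).card = 8)) := by decide +kernel

theorem model_involution : ∀ q : G23, cls q = 2 → q * q = 1 := by decide +kernel

set_option synthInstance.maxSize 4096 in
set_option synthInstance.maxHeartbeats 400000 in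
theorem model_eight_cent : ∀ q k : G23, (cls q = 3 ∨ cls q = 4 ∨ cls q = 5) → k * q = q * k →
    k = 1 ∨ k = neg1 ∨ Spec k := by decide +kernel

set_option synthInstance.maxSize 4096 in
set_option synthInstance.maxHeartbeats 400000 in
theorem model_abelian : ∀ q : G23, q * q ≠ 1 → ∀ a : G23, a * q = q * a → ∀ b : G23,
    b * q = q * b → a * b = b * a := by decide +kernel

theorem model_count : (Finset.univ.filter fun q : G23 => q * q = 1 ∧ q ≠ 1 ∧ q ≠ neg1).card = 12 := by
  decide +kernel

set_option synthInstance.maxSize 4096 in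
set_option synthInstance.maxHeartbeats 400000 in
theorem model_three : ∃ a b c : G23, (a ^ 3 = 1 ∧ b ^ 3 = 1 ∧ c ^ 3 = 1) ∧ a * b * c = neg1 := by
  decide +kernel

/-! ### Transfer -/

variable {H : Type*} [Group H] [Finite H]

/-- A bijection preserving the identity and commutation. -/
structure CommIso (H : Type*) [Group H] where
  Φ : P33 ≃ H
  apply_one : Φ 1 = 1
  comm : ∀ x y, x * y = y * x ↔ Φ x * Φ y = Φ y * Φ x

/-- Precomposition with an inner automorphism. -/
def CommIso.shift (I : CommIso H) (σ : P33) : CommIso H where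
  Φ := (MulAut.conj σ).toEquiv.trans I.Φ
  apply_one := by simp [I.apply_one]
  comm x y := by
    show _ ↔ I.Φ (MulAut.conj σ x) * I.Φ (MulAut.conj σ y) =
      I.Φ (MulAut.conj σ y) * I.Φ (MulAut.conj σ x)
    rw [← I.comm, ← map_mul, ← map_mul]
    exact (EmbeddingLike.apply_eq_iff_eq (MulAut.conj σ)).symm

variable (I : CommIso H)

theorem CommIso.card_cent (g : P33) :
    Nat.card (Subgroup.centralizer ({I.Φ g} : Set H)) = Nat.card {x : P33 // x * g = g * x} :=
  Nat.card_congr ((Equiv.subtypeEquiv I.Φ fun x => by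
    rw [Subgroup.mem_centralizer_singleton_iff]; exact I.comm x g).symm)

theorem CommIso.ne_one {g : P33} (hg : g ≠ 1) : I.Φ g ≠ 1 := fun e =>
  hg (I.Φ.injective (e.trans I.apply_one.symm))

theorem tt_ne_one : tt ≠ 1 := fun e => neg1_ne_one (emb_injective (e.trans emb.map_one.symm))

theorem emb_comm (q : G23) : emb q * tt = tt * emb q := by
  have : ∀ q : G23, q * neg1 = neg1 * q := by decide +kernel
  rw [tt, ← map_mul, ← map_mul, this]

/-- The image of the distinguished involution is an involution. -/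
theorem CommIso.inv_tt : I.Φ tt * I.Φ tt = 1 := by
  set h := I.Φ tt with hh
  obtain ⟨w, hw⟩ := I.Φ.surjective (h * h)
  have hcw : ∀ q : G23, emb q * w = w * emb q := by
    intro q
    rw [I.comm, hw]
    have : I.Φ (emb q) * h = h * I.Φ (emb q) := (I.comm _ _).1 (emb_comm q)
    rw [← mul_assoc, this, mul_assoc, this, mul_assoc]
  obtain ⟨k, rfl⟩ := exists_emb (y := w) ((hcw neg1).symm)
  have hk := model_center k fun j => emb_injective (by rw [map_mul, map_mul, hcw j])
  rcases hk with rfl | rfl
  · rw [map_one, I.apply_one] at hw; exact hw.symm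
  · change h = h * h at hw
    exact absurd (mul_eq_left.1 hw.symm) (I.ne_one tt_ne_one)

/-- The model onto the centraliser, as a bijection. -/
noncomputable def CommIso.toCent : G23 ≃ Subgroup.centralizer ({I.Φ tt} : Set H) :=
  Equiv.ofBijective (fun q => ⟨I.Φ (emb q),
    Subgroup.mem_centralizer_singleton_iff.2 ((I.comm _ _).1 (emb_comm q))⟩) ⟨fun a b e =>
      emb_injective (I.Φ.injective (congrArg Subtype.val e)), fun x => by
    obtain ⟨y, hy⟩ := I.Φ.surjective x.1
    obtain ⟨q, rfl⟩ := exists_emb (y := y) ((I.comm _ _).2 (by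
      rw [hy]; exact Subgroup.mem_centralizer_singleton_iff.1 x.2))
    exact ⟨q, Subtype.ext hy⟩⟩

theorem CommIso.toCent_comm (a b : G23) :
    a * b = b * a ↔ I.toCent a * I.toCent b = I.toCent b * I.toCent a := by
  refine Iff.trans ?_ Subtype.ext_iff.symm
  show _ ↔ I.Φ (emb a) * I.Φ (emb b) = I.Φ (emb b) * I.Φ (emb a)
  rw [← I.comm, ← map_mul, ← map_mul]
  exact emb_injective.eq_iff.symm

theorem CommIso.card_toCent (q : G23) :
    Nat.card (Subgroup.centralizer ({I.toCent q} : Set _)) =
      (Finset.univ.filter fun k : G23 => k * q = q * k).card := by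
  rw [← Fintype.card_subtype, ← Nat.card_eq_fintype_card]
  exact Nat.card_congr ((Equiv.subtypeEquiv I.toCent fun k => by
    rw [Subgroup.mem_centralizer_singleton_iff]; exact I.toCent_comm k q).symm)

theorem CommIso.toCent_sq {q : G23} (h2 : q * q = 1) : I.toCent q * I.toCent q = 1 := by
  refine Subtype.ext ?_
  show I.Φ (emb q) * I.Φ (emb q) = 1
  by_cases h1 : q = 1
  · subst h1; simp [I.apply_one]
  by_cases hn : q = neg1
  · subst hn; exact I.inv_tt
  obtain ⟨σ, hσ⟩ := reflection_conj h2 h1 hn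
  have := (I.shift σ).inv_tt
  rwa [show (I.shift σ).Φ tt = I.Φ (σ * tt * σ⁻¹) from rfl, hσ] at this

theorem CommIso.toCent_eight_ne {q : G23} (hq : cls q = 3 ∨ cls q = 4 ∨ cls q = 5) :
    I.toCent q * I.toCent q ≠ 1 := by
  intro h2
  have hspec : Spec q := by rcases hq with h | h | h <;> simp [Spec, h]
  have hpow : ∀ k : G23, Spec k → ∀ y : P33, y * emb k = emb k * y → y * tt = tt * y := by
    intro k hk y hy
    rcases spec_pow k hk with e | e | e | e <;>
      (rw [tt, ← e, map_pow]; exact ((show Commute y (emb k) from hy).pow_right _))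
  obtain ⟨σ, hσ⟩ := exists_other
  set u := σ * tt * σ⁻¹ with hu
  set x := I.Φ (emb q) with hx
  set v := I.Φ u with hv
  have hx2 : x * x = 1 := congrArg Subtype.val h2
  have hv2 : v * v = 1 := (I.shift σ).inv_tt
  have cx : Nat.card (Subgroup.centralizer ({x} : Set H)) = 8 := by
    rw [hx, I.card_cent]
    have hc := model_cent_card q (by intro e; subst e; simp [cls] at hq)
      (by intro e; subst e; revert hq; decide +kernel)
    have : (Finset.univ.filter fun k : G23 => k * q = q * k).card = 8 := by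
      rcases hc with ⟨e, -⟩ | ⟨e, -⟩ | ⟨-, e⟩
      · omega
      · omega
      · exact e
    rw [← this, ← Fintype.card_subtype, ← Nat.card_eq_fintype_card]
    refine (Nat.card_congr (Equiv.ofBijective (fun k : {k : G23 // k * q = q * k} =>
      (⟨emb k.1, by rw [← map_mul, ← map_mul, k.2]⟩ : {y : P33 // y * emb q = emb q * y}))
      ⟨fun a b e => Subtype.ext (emb_injective (congrArg Subtype.val e)), fun y => ?_⟩)).symm
    obtain ⟨k, hk⟩ := exists_emb (hpow q hspec y.1 y.2)
    exact ⟨⟨k, emb_injective (by rw [map_mul, map_mul, hk, y.2])⟩, Subtype.ext hk⟩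
  have cv : Nat.card (Subgroup.centralizer ({v} : Set H)) = 48 := by
    rw [show v = (I.shift σ).Φ tt from rfl, Nat.card_congr (I.shift σ).toCent.symm,
      Nat.card_eq_fintype_card, card_g23]
  set d := x * v with hd
  have hxi : x⁻¹ = x := inv_eq_of_mul_eq_one_right hx2
  have hvi : v⁻¹ = v := inv_eq_of_mul_eq_one_right hv2
  have hdi : d⁻¹ = v * x := by rw [hd, _root_.mul_inv_rev, hxi, hvi]
  have hinvx : ∀ n : ℕ, x * d ^ n * x⁻¹ = (d ^ n)⁻¹ := by
    intro n
    rw [← conj_pow, ← inv_pow, hdi, hd, hxi, ← mul_assoc x x, hx2, one_mul]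
  rcases Nat.even_or_odd (orderOf d) with ⟨m, hm⟩ | ⟨m, hm⟩
  · set j := d ^ m with hj
    have hpos : 0 < orderOf d := orderOf_pos d
    have hj1 : j ≠ 1 := pow_ne_one_of_lt_orderOf (by omega) (by omega)
    have hj2 : j⁻¹ = j := inv_eq_of_mul_eq_one_right (by
      rw [hj, ← pow_add, ← hm, pow_orderOf_eq_one])
    have hjx : j * x = x * j := by
      have := hinvx m
      rw [← hj, hj2] at this
      exact (mul_inv_eq_iff_eq_mul.1 this).symm
    have hjv : j * v = v * j := by
      have h3 : v = x * d := by rw [hd, ← mul_assoc, hx2, one_mul]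
      have h4 : j * d = d * j := ((Commute.refl d).pow_left m).eq
      have h5 : j * (x * d) = x * d * j := (Commute.mul_right (show Commute j x from hjx) h4).eq
      rwa [← h3] at h5
    obtain ⟨g, hg⟩ := I.Φ.surjective j
    have hgq : g * emb q = emb q * g := (I.comm _ _).2 (by rw [hg]; exact hjx)
    obtain ⟨k, rfl⟩ := exists_emb (hpow q hspec g hgq)
    have hkq : k * q = q * k := emb_injective (by rw [map_mul, map_mul, hgq])
    have hku : u * emb k = emb k * u := (I.comm _ _).2 (by rw [hg]; exact hjv.symm)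
    rcases model_eight_cent q k hq hkq with e | e | e
    · exact hj1 (by rw [← hg, e, map_one, I.apply_one])
    · subst e; exact hσ hku
    · exact hσ (hpow k e u hku)
  · -- conjugate involutions
    have h1 : d ^ m * x * (d ^ m)⁻¹ = v := by
      have e0 : x * (d ^ m)⁻¹ = d ^ m * x := by
        have := hinvx m
        rw [← this, ← mul_assoc, ← mul_assoc, hx2, one_mul, hxi]
      rw [mul_assoc, e0, ← mul_assoc, ← pow_add]
      have e1 : d ^ (m + m) = d⁻¹ := eq_inv_of_mul_eq_one_left (by
        rw [← pow_succ, show m + m + 1 = orderOf d by omega, pow_orderOf_eq_one])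
      rw [e1, hdi, mul_assoc, hx2, mul_one]
    have : Nat.card (Subgroup.centralizer ({v} : Set H)) =
        Nat.card (Subgroup.centralizer ({x} : Set H)) := by
      refine (Nat.card_congr (Equiv.subtypeEquiv (MulAut.conj (d ^ m)).toEquiv fun y => ?_)).symm
      simp only [Subgroup.mem_centralizer_singleton_iff]
      show _ ↔ MulAut.conj (d ^ m) y * v = v * MulAut.conj (d ^ m) y
      rw [← h1, ← MulAut.conj_apply, ← map_mul, ← map_mul, EmbeddingLike.apply_eq_iff_eq]
    omega

/-- The involutions of the centraliser correspond to those of the model. -/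
theorem CommIso.involution_iff (q : G23) : I.toCent q * I.toCent q = 1 ↔ q * q = 1 := by
  classical
  set K := Subgroup.centralizer ({I.Φ tt} : Set H)
  set h : K := I.toCent neg1 with hh
  have hone : I.toCent 1 = 1 := Subtype.ext (by
    show I.Φ (emb 1) = 1
    rw [map_one, I.apply_one])
  have hh1 : h ≠ 1 := fun e => neg1_ne_one (I.toCent.injective (e.trans hone.symm))
  have hcen : ∀ x : K, x * h = h * x := by
    intro x
    obtain ⟨a, rfl⟩ := I.toCent.surjective x
    exact (I.toCent_comm a neg1).1 ((by decide +kernel : ∀ a : G23, a * neg1 = neg1 * a) a)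
  have hh2 : h * h = 1 := I.toCent_sq neg1_sq
  refine ⟨fun h2 => ?_, I.toCent_sq⟩
  by_cases h1 : q = 1
  · subst h1; exact one_mul 1
  by_cases hn : q = neg1
  · subst hn; exact neg1_sq
  rcases model_cent_card q h1 hn with ⟨e, -⟩ | ⟨-, e⟩ | ⟨e, -⟩
  · exact model_involution q e
  · exfalso
    set x := I.toCent q
    have hx1 : x ≠ 1 := fun e' => h1 (I.toCent.injective (e'.trans hone.symm))
    have hxh : x ≠ h := fun e' => hn (I.toCent.injective e')
    let V : Subgroup K :=
      { carrier := {y | y = 1 ∨ y = h ∨ y = x ∨ y = h * x}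
        one_mem' := Or.inl rfl
        mul_mem' := by
          have hxh' : x * h = h * x := hcen x
          have hxy : ∀ y : K, x * (h * y) = h * (x * y) := fun y => by
            rw [← mul_assoc, hcen x, mul_assoc]
          have hhh : ∀ y : K, h * (h * y) = y := fun y => by rw [← mul_assoc, hh2, one_mul]
          rintro a b (rfl | rfl | rfl | rfl) (rfl | rfl | rfl | rfl) <;>
            simp [mul_assoc, hh2, h2, hxh', hhh, hxy]
        inv_mem' := by
          have hi : ∀ y : K, y * y = 1 → y⁻¹ = y := fun y => inv_eq_of_mul_eq_one_right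
          rintro a (rfl | rfl | rfl | rfl)
          · exact Or.inl inv_one
          · exact Or.inr (Or.inl (hi _ hh2))
          · exact Or.inr (Or.inr (Or.inl (hi _ h2)))
          · refine Or.inr (Or.inr (Or.inr ?_))
            rw [_root_.mul_inv_rev, hi _ hh2, hi _ h2, hcen] }
    have hV : Nat.card V = 4 := by
      have n1 : h * x ≠ 1 := fun e' => hxh (by
        calc x = (h * h) * x := by rw [hh2, one_mul]
          _ = h := by rw [mul_assoc, e', mul_one])
      have n2 : h * x ≠ h := fun e' => hx1 (mul_eq_left.1 e')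
      have n3 : h * x ≠ x := fun e' => hh1 (mul_eq_right.1 e')
      have : (V : Set K) = (({1, h, x, h * x} : Finset K) : Set K) := by
        ext y; simp [V]
      rw [← SetLike.coe_sort_coe, this, Nat.card_coe_set_eq, Set.ncard_coe_finset]
      simp [hh1.symm, hx1.symm, n1.symm, n2.symm, n3.symm, Ne.symm hxh]
    have hle : V ≤ Subgroup.centralizer ({x} : Set K) := by
      rintro y (rfl | rfl | rfl | rfl) <;> rw [Subgroup.mem_centralizer_singleton_iff]
      · simp
      · exact (hcen x).symm
      · rw [mul_assoc, ← mul_assoc x h x, hcen x, mul_assoc]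
    have := Subgroup.card_dvd_of_le hle
    rw [hV, I.card_toCent, e] at this
    omega
  · exact absurd h2 (I.toCent_eight_ne e)

theorem CommIso.cent_iso : Nonempty (Subgroup.centralizer ({I.Φ tt} : Set H) ≃* G23) := by
  classical
  set K := Subgroup.centralizer ({I.Φ tt} : Set H)
  set h : K := I.toCent neg1 with hh
  have hcard : Nat.card K = 48 := by
    rw [← Nat.card_congr I.toCent, Nat.card_eq_fintype_card, card_g23]
  have hone : I.toCent 1 = 1 := Subtype.ext (by
    show I.Φ (emb 1) = 1
    rw [map_one, I.apply_one])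
  have hh1 : h ≠ 1 := fun e => neg1_ne_one (I.toCent.injective (e.trans hone.symm))
  have hcen : ∀ x : K, x * h = h * x := by
    intro x
    obtain ⟨a, rfl⟩ := I.toCent.surjective x
    exact (I.toCent_comm a neg1).1 ((by decide +kernel : ∀ a : G23, a * neg1 = neg1 * a) a)
  have hh2 : h * h = 1 := I.toCent_sq neg1_sq
  have hiff := I.involution_iff
  refine Recog.iso_of_data hcard hh1 hh2 hcen ?_ ?_ ?_ ?_ ?_
  · rw [← model_count, ← Fintype.card_subtype, ← Nat.card_eq_fintype_card]
    refine (Nat.card_congr (Equiv.subtypeEquiv I.toCent fun q => ?_)).symm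
    refine and_congr (hiff q).symm (and_congr (not_congr ?_) (not_congr ?_))
    · rw [← hone]; exact I.toCent.apply_eq_iff_eq.symm
    · exact I.toCent.apply_eq_iff_eq.symm
  · intro a ha ha1 hah
    obtain ⟨q, rfl⟩ := I.toCent.surjective a
    have h1 : q ≠ 1 := fun e => ha1 (by rw [e, hone])
    have hn : q ≠ neg1 := fun e => hah (by rw [e])
    rw [I.card_toCent]
    have hc2 := cls_involution q ((hiff q).1 ha) h1 hn
    rcases model_cent_card q h1 hn with ⟨-, e⟩ | ⟨e, -⟩ | ⟨e, -⟩
    · exact e
    · omega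
    · omega
  · intro x
    obtain ⟨q, rfl⟩ := I.toCent.surjective x
    by_cases h2 : q * q = 1
    · exact Or.inl ((hiff q).2 h2)
    right
    have h1 : q ≠ 1 := fun e => h2 (by rw [e, one_mul])
    have hn : q ≠ neg1 := fun e => h2 (by rw [e, neg1_sq])
    have hpow : I.toCent q ^ Nat.card (Subgroup.centralizer ({I.toCent q} : Set K)) = 1 := by
      have := pow_card_eq_one' (x := (⟨I.toCent q, Subgroup.mem_centralizer_singleton_iff.2 rfl⟩ :
        Subgroup.centralizer ({I.toCent q} : Set K)))
      exact congrArg Subtype.val this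
    rw [I.card_toCent] at hpow
    rcases model_cent_card q h1 hn with ⟨e, -⟩ | ⟨-, e⟩ | ⟨-, e⟩
    · exact absurd (model_involution q e) h2
    · exact Or.inl (by rwa [e] at hpow)
    · exact Or.inr (by rwa [e] at hpow)
  · intro x hx
    obtain ⟨q, rfl⟩ := I.toCent.surjective x
    have h2 : ¬ q * q = 1 := fun e => hx ((hiff q).2 e)
    have h1 : q ≠ 1 := fun e => h2 (by rw [e, one_mul])
    have hn : q ≠ neg1 := fun e => h2 (by rw [e, neg1_sq])
    rw [I.card_toCent]
    rcases model_cent_card q h1 hn with ⟨-, e⟩ | ⟨-, e⟩ | ⟨-, e⟩ <;> omega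
  · intro x a b hx hax hbx
    obtain ⟨q, rfl⟩ := I.toCent.surjective x
    obtain ⟨i, rfl⟩ := I.toCent.surjective a
    obtain ⟨j, rfl⟩ := I.toCent.surjective b
    exact (I.toCent_comm i j).1 (model_abelian q (fun e => hx ((hiff q).2 e)) i
      ((I.toCent_comm i q).2 hax) j ((I.toCent_comm j q).2 hbx))

theorem CommIso.orderOf_tt : orderOf (I.Φ tt) = 2 :=
  orderOf_eq_prime (by rw [pow_two]; exact I.inv_tt) (I.ne_one tt_ne_one)

theorem CommIso.tt_mem_residual : I.Φ tt ∈ Cfsg.pResidual 2 H := by
  obtain ⟨e⟩ := I.cent_iso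
  obtain ⟨a, b, c, ⟨ha, hb, hc⟩, habc⟩ := model_three
  have hodd : ∀ k : G23, k ^ 3 = 1 → ((e.symm k : _) : H) ∈ Cfsg.pResidual 2 H := by
    intro k hk
    refine Subgroup.subset_closure ?_
    show Nat.Coprime _ 2
    refine Nat.Coprime.coprime_dvd_left ?_ (by norm_num : Nat.Coprime 3 2)
    apply orderOf_dvd_of_pow_eq_one
    rw [← SubgroupClass.coe_pow, ← map_pow, hk, map_one]
    rfl
  have := mul_mem (mul_mem (hodd a ha) (hodd b hb)) (hodd c hc)
  rw [← Subgroup.coe_mul, ← Subgroup.coe_mul, ← map_mul, ← map_mul, habc,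
    ← eq_neg1_iff I.orderOf_tt e, e.symm_apply_apply] at this
  exact this

include I in
theorem CommIso.residual_top (hG : Nat.card H = 5616) : Cfsg.pResidual 2 H = ⊤ := by
  classical
  set N := Cfsg.pResidual 2 H with hN
  obtain ⟨e⟩ := I.cent_iso
  have hinv : ∀ x : Subgroup.centralizer ({I.Φ tt} : Set H), x * x = 1 → (x : H) ∈ N := by
    intro x hx
    obtain ⟨q, rfl⟩ := I.toCent.surjective x
    show I.Φ (emb q) ∈ N
    by_cases h1 : q = 1
    · subst h1; rw [map_one, I.apply_one]; exact one_mem _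
    by_cases hn : q = neg1
    · subst hn; exact I.tt_mem_residual
    rcases model_cent_card q h1 hn with ⟨c, -⟩ | ⟨c, -⟩ | ⟨c, -⟩
    · obtain ⟨σ, hσ⟩ := reflection_conj (model_involution q c) h1 hn
      rw [← hσ]
      exact (I.shift σ).tt_mem_residual
    · exfalso
      have h3 : ∀ y : G23, (cls y = 6 ∨ cls y = 7) → ¬ y * y = 1 := by decide +kernel
      have : q * q = 1 := (I.involution_iff q).1 hx
      exact h3 q c this
    · exact absurd hx (I.toCent_eight_ne c)
  have hK : ∀ k : G23, ((e.symm k : _) : H) ∈ N := by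
    intro k
    obtain ⟨a, b, c, ⟨ha, hb, hc⟩, rfl⟩ := three_reflections k
    rw [map_mul, map_mul, Subgroup.coe_mul, Subgroup.coe_mul]
    exact mul_mem (mul_mem (hinv _ (by rw [← map_mul, ha, map_one]))
      (hinv _ (by rw [← map_mul, hb, map_one]))) (hinv _ (by rw [← map_mul, hc, map_one]))
  have hle : Subgroup.centralizer ({I.Φ tt} : Set H) ≤ N := fun x hx => by
    have := hK (e ⟨x, hx⟩)
    rwa [e.symm_apply_apply] at this
  have h48 : 48 ∣ Nat.card N := by
    have := Subgroup.card_dvd_of_le hle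
    rwa [Nat.card_congr e.toEquiv, Nat.card_eq_fintype_card, card_g23] at this
  have hsyl : ∀ p : ℕ, p.Prime → p ≠ 2 → p ^ (Nat.card H).factorization p ∣ Nat.card N := by
    intro p hp hp2
    have := Fact.mk hp
    let P : Sylow p H := default
    rw [← P.card_eq_multiplicity]
    refine Subgroup.card_dvd_of_le fun x hx => Subgroup.subset_closure ?_
    show Nat.Coprime (orderOf x) 2
    obtain ⟨k, hk⟩ := P.isPGroup' ⟨x, hx⟩
    refine Nat.Coprime.coprime_dvd_left (orderOf_dvd_of_pow_eq_one (congrArg Subtype.val hk)) ?_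
    exact Nat.Coprime.pow_left k ((Nat.coprime_primes hp Nat.prime_two).2 hp2)
  have h27 := hsyl 3 Nat.prime_three (by norm_num)
  have h13 := hsyl 13 (by norm_num) (by norm_num)
  have f3 : (5616 : ℕ).factorization 3 = 3 := by
    rw [show (5616 : ℕ) = 208 * 3 ^ 3 by norm_num, Nat.factorization_mul (by norm_num) (by norm_num)]
    rw [Finsupp.add_apply, Nat.factorization_eq_zero_of_not_dvd (show ¬ 3 ∣ 208 by norm_num),
      Nat.Prime.factorization_pow Nat.prime_three, Finsupp.single_eq_same]
  have f13 : (5616 : ℕ).factorization 13 = 1 := by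
    rw [show (5616 : ℕ) = 432 * 13 by norm_num, Nat.factorization_mul (by norm_num) (by norm_num)]
    simp [Nat.Prime.factorization (show Nat.Prime 13 by norm_num),
      Nat.factorization_eq_zero_of_not_dvd (show ¬ 13 ∣ 432 by norm_num)]
  rw [hG, f3] at h27
  rw [hG, f13] at h13
  norm_num at h27 h13
  refine Subgroup.eq_top_of_card_eq _ (Nat.dvd_antisymm (Subgroup.card_subgroup_dvd_card _) ?_)
  rw [hG, show (5616 : ℕ) = Nat.lcm (Nat.lcm 48 27) 13 by decide +kernel]
  exact Nat.lcm_dvd (Nat.lcm_dvd h48 h27) h13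

include I in
theorem CommIso.iso_psl : Nonempty (H ≃* P33) := by
  have hG : Nat.card H = 5616 := by rw [← Nat.card_congr I.Φ, card_PSL33]
  obtain ⟨e⟩ := I.cent_iso
  exact (⟨I.residual_top hG, I.orderOf_tt, e⟩ : Hyp H (I.Φ tt)).iso_psl hG

omit [Finite H] in
/-- A graph isomorphism gives a bijection of the groups. -/
theorem exists_commIso (f : {h : H // h ≠ 1} ≃ {g : P33 // g ≠ 1})
    (hf : ∀ x y : {h : H // h ≠ 1}, (x : H) * y = y * x ↔
      ((f x) : P33) * (f y) = (f y) * (f x)) : Nonempty (CommIso H) := by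
  classical
  let F : P33 → H := fun g => if hg : g = 1 then 1 else (f.symm ⟨g, hg⟩ : H)
  have hval : ∀ g : {g : P33 // g ≠ 1}, F g.1 = f.symm g := fun g => dif_neg g.2
  have h1 : F 1 = 1 := dif_pos rfl
  have hbij : Function.Bijective F := by
    refine ⟨fun a b e => ?_, fun x => ?_⟩
    · by_cases ha : a = 1
      · by_cases hb : b = 1
        · rw [ha, hb]
        · rw [ha, h1, hval ⟨b, hb⟩] at e
          exact absurd e.symm (f.symm ⟨b, hb⟩).2
      · by_cases hb : b = 1
        · rw [hb, h1, hval ⟨a, ha⟩] at e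
          exact absurd e (f.symm ⟨a, ha⟩).2
        · rw [hval ⟨a, ha⟩, hval ⟨b, hb⟩] at e
          exact congrArg Subtype.val (f.symm.injective (Subtype.ext e))
    · by_cases hx : x = 1
      · exact ⟨1, h1.trans hx.symm⟩
      · exact ⟨(f ⟨x, hx⟩).1, (hval _).trans (by rw [f.symm_apply_apply])⟩
  refine ⟨⟨Equiv.ofBijective F hbij, h1, fun a b => ?_⟩⟩
  show _ ↔ F a * F b = F b * F a
  by_cases ha : a = 1
  · subst ha; simp [h1]
  by_cases hb : b = 1
  · subst hb; simp [h1]
  rw [hval ⟨a, ha⟩, hval ⟨b, hb⟩, hf, f.apply_symm_apply, f.apply_symm_apply]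

end Cfsg.Agent.Lib.Characters.LThreeThree.CommGraph
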