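import Cfsg.Agent.Lib.Characters.GLTwoThree
import Cfsg.Agent.Lib.InvChar.ZStarTheorem
import Cfsg.Agent.Lib.Cores.PCore

/-!
# Groups with an involution centraliser isomorphic to `GL(2, 3)`: local facts and simplicity
-/

set_option autoImplicit false
set_option linter.style.haveILetI false

namespace Cfsg.Agent.Lib.Characters.LThreeThree

open Cfsg Cfsg.Agent.Lib.Characters Cfsg.Agent.Lib.Characters.GLTwoThree

/-! ### Computations in the model -/

set_option synthInstance.maxSize 4096 in
set_option synthInstance.maxHeartbeats 400000 in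
theorem three_reflections : ∀ g : G23, ∃ a b c : G23, (a * a = 1 ∧ b * b = 1 ∧ c * c = 1) ∧
    g = a * b * c := by decide +kernel

theorem order_three_class : ∀ g : G23, g * g * g = 1 → g ≠ 1 → cls g = 6 := by decide +kernel

theorem three_centralizer : ∀ g : G23, cls g = 6 →
    (Finset.univ.filter fun h : G23 => h * g = g * h).card = 6 := by decide +kernel

set_option synthInstance.maxSize 4096 in
set_option synthInstance.maxHeartbeats 400000 in
theorem three_centralizer_involution : ∀ g h : G23, cls g = 6 → h * h = 1 → h ≠ 1 →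
    h * g = g * h → h = neg1 := by decide +kernel

set_option synthInstance.maxSize 4096 in
set_option synthInstance.maxHeartbeats 400000 in
theorem three_inverter : ∀ g : G23, cls g = 6 → ∃ h : G23, h * h = 1 ∧ h ≠ 1 ∧ h ≠ neg1 ∧
    h * g * h = g⁻¹ := by decide +kernel

theorem reflection_centralizer : ∀ g : G23, g * g = 1 → g ≠ 1 → g ≠ neg1 →
    (Finset.univ.filter fun h : G23 => h * g = g * h).card ≤ 4 := by decide +kernel

theorem det_mul : ∀ g h : G23, (qdet (g * h).1 = 1) ↔ ((qdet g.1 = 1) ↔ (qdet h.1 = 1)) := by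
  decide +kernel

theorem exponent_24 : ∀ g : G23, g ^ 24 = 1 := by decide +kernel

set_option synthInstance.maxSize 4096 in
set_option synthInstance.maxHeartbeats 400000 in
theorem three_moved : ∀ g : G23, g ^ 3 = 1 → g ≠ 1 → ∃ n : G23, (n * g * n⁻¹ * g⁻¹) ^ 3 ≠ 1 := by
  decide +kernel

theorem det_reflection : ∃ g : G23, qdet g.1 ≠ 1 := by decide +kernel

/-- A group with an involution centraliser isomorphic to the model and no subgroup of index two. -/
structure Hyp (G : Type*) [Group G] (t : G) where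
  res : Cfsg.pResidual 2 G = ⊤
  inv : orderOf t = 2
  e : Subgroup.centralizer ({t} : Set G) ≃* G23

variable {G : Type*} [Group G] [Finite G] {t : G}

theorem Hyp.index_ne_two (h : Hyp G t) (M : Subgroup G) : M.index ≠ 2 := by
  intro hM
  have hle : Cfsg.pResidual 2 G ≤ M := by
    rw [Cfsg.pResidual, Subgroup.closure_le]
    intro g hg
    have hodd : Odd (orderOf g) := Nat.coprime_two_right.1 hg
    obtain ⟨k, hk⟩ := hodd
    have e : g = g ^ (k + 1) * g ^ (k + 1) := by
      rw [← pow_add, show k + 1 + (k + 1) = orderOf g + 1 by omega, pow_succ, pow_orderOf_eq_one,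
        one_mul]
    rw [e]
    exact Subgroup.mul_self_mem_of_index_two hM _
  rw [h.res, top_le_iff] at hle
  rw [hle, Subgroup.index_top] at hM
  norm_num at hM

/-- The embedding of the model. -/
def Hyp.ι (h : Hyp G t) : G23 →* G :=
  (Subgroup.centralizer ({t} : Set G)).subtype.comp h.e.symm.toMonoidHom

theorem Hyp.ι_injective (h : Hyp G t) : Function.Injective h.ι := fun _ _ e =>
  h.e.symm.injective (Subtype.ext e)

theorem Hyp.ι_mem (h : Hyp G t) (q : G23) : h.ι q ∈ Subgroup.centralizer ({t} : Set G) :=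
  (h.e.symm q).2

theorem Hyp.ι_neg (h : Hyp G t) : h.ι neg1 = t := by
  show ((h.e.symm neg1 : Subgroup.centralizer ({t} : Set G)) : G) = t
  rw [← eq_neg1_iff h.inv h.e, h.e.symm_apply_apply]

theorem Hyp.exists_ι (h : Hyp G t) {g : G} (hg : g * t = t * g) : ∃ q, h.ι q = g :=
  ⟨h.e ⟨g, Subgroup.mem_centralizer_singleton_iff.2 hg⟩, by
    show ((h.e.symm (h.e _) : Subgroup.centralizer ({t} : Set G)) : G) = g
    rw [h.e.symm_apply_apply]⟩

theorem Hyp.ι_comm (h : Hyp G t) (q : G23) : h.ι q * t = t * h.ι q :=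
  Subgroup.mem_centralizer_singleton_iff.1 (h.ι_mem q)

theorem inv_eq_self_of_orderOf_two {s : G} (hs : orderOf s = 2) : s⁻¹ = s :=
  inv_eq_of_mul_eq_one_right ((orderOf_two_iff.1 hs).1)

theorem Hyp.card_cent (h : Hyp G t) :
    Nat.card (Subgroup.centralizer ({t} : Set G)) = 48 := by
  rw [Nat.card_congr h.e.toEquiv, Nat.card_eq_fintype_card, card_g23]

/-- The model meets every normal subgroup of odd order trivially. -/
theorem Hyp.ι_notMem (h : Hyp G t) (N : Subgroup G) [N.Normal] (hN : ¬ 2 ∣ Nat.card N) {q : G23}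
    (hq : h.ι q ∈ N) : q = 1 := by
  have key : ∀ w : G23, h.ι w ∈ N → w ^ 3 = 1 := by
    intro w hw
    have h1 : orderOf (h.ι w) ∣ 24 := orderOf_dvd_iff_pow_eq_one.2 (by rw [← map_pow, exponent_24, map_one])
    have h2 : orderOf (h.ι w) ∣ Nat.card N := N.orderOf_dvd_natCard hw
    have h8 : Nat.Coprime (orderOf (h.ι w)) 8 := Nat.Coprime.coprime_dvd_left h2
      (Nat.Coprime.pow_right 3 ((Nat.Prime.coprime_iff_not_dvd Nat.prime_two).2 hN).symm)
    have h3 : orderOf (h.ι w) ∣ 3 := h8.dvd_of_dvd_mul_left (show orderOf (h.ι w) ∣ 8 * 3 from h1)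
    exact h.ι_injective (by rw [map_pow, map_one]; exact orderOf_dvd_iff_pow_eq_one.1 h3)
  by_contra hq1
  obtain ⟨n, hn⟩ := three_moved q (key q hq) hq1
  refine hn (key _ ?_)
  rw [map_mul, map_mul, map_mul, map_inv, map_inv]
  exact N.mul_mem (Subgroup.Normal.conj_mem ‹N.Normal› _ hq _) (N.inv_mem hq)

/-- The involution `t` is not isolated. -/
theorem Hyp.exists_conj (h : Hyp G t) : ∃ g : G, Commute t (g * t * g⁻¹) ∧ g * t * g⁻¹ ≠ t := by
  classical
  by_contra hc
  push Not at hc
  have hz : Cfsg.InZStar 2 t := Cfsg.Agent.Lib.InvChar.inZStar_of_isIsolated h.inv hc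
  set O := Cfsg.pPrimeCore 2 G with hO
  haveI hOn : O.Normal := by
    haveI := Cfsg.Agent.Lib.Cores.pPrimeCore_characteristic 2 G
    infer_instance
  have hodd : Odd (Nat.card O) :=
    Nat.coprime_two_right.1 (Cfsg.Agent.Lib.Cores.pPrimeCore_coprime 2 G)
  let φ : G23 →* G ⧸ O := (QuotientGroup.mk' O).comp h.ι
  -- the centraliser covers the quotient
  have hsurj : Function.Surjective φ := by
    intro v
    obtain ⟨g, rfl⟩ := QuotientGroup.mk'_surjective O v
    set m := g * t * g⁻¹ * t⁻¹ with hm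
    have hmO : m ∈ O := hz g
    have ht2 : t * t = 1 := (orderOf_two_iff.1 h.inv).1
    have hti : t⁻¹ = t := inv_eq_self_of_orderOf_two h.inv
    have hinv : t * m * t⁻¹ = m⁻¹ := by
      rw [hm]; simp [mul_inv_rev, mul_assoc, hti, ht2]
    obtain ⟨k, hk⟩ := hodd
    have hmord : m ^ (2 * k + 1) = 1 := by
      rw [← hk]; exact orderOf_dvd_iff_pow_eq_one.1 (O.orderOf_dvd_natCard hmO)
    set s := m ^ (k + 1) with hs
    have hs2 : s * s = m := by
      rw [hs, ← pow_add, show k + 1 + (k + 1) = 2 * k + 1 + 1 by omega, pow_succ, hmord, one_mul]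
    have hts : t * s * t⁻¹ = s⁻¹ := by
      rw [hs, ← MulAut.conj_apply, map_pow, MulAut.conj_apply, hinv, inv_pow]
    have hc' : (s⁻¹ * g) * t = t * (s⁻¹ * g) := by
      have hgt : g * t = m * t * g := by rw [hm]; group
      have hst : t * s⁻¹ = s * t := by
        have e : t * s⁻¹ * t⁻¹ = s := by
          rw [show t * s⁻¹ * t⁻¹ = (t * s * t⁻¹)⁻¹ by group, hts, inv_inv]
        exact mul_inv_eq_iff_eq_mul.1 e
      calc (s⁻¹ * g) * t = s⁻¹ * (m * t * g) := by rw [mul_assoc, hgt]
        _ = s * t * g := by rw [← hs2]; group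
        _ = t * s⁻¹ * g := by rw [hst]
        _ = t * (s⁻¹ * g) := mul_assoc _ _ _
    obtain ⟨q, hq⟩ := h.exists_ι hc'
    refine ⟨q, ?_⟩
    show ((h.ι q : G) : G ⧸ O) = (g : G ⧸ O)
    rw [hq, QuotientGroup.eq]
    have : s ∈ O := O.pow_mem hmO _
    simpa [mul_assoc] using hOn.conj_mem s this g⁻¹
  have hinj : Function.Injective φ := by
    rw [injective_iff_map_eq_one]
    intro q hq
    have hqO : h.ι q ∈ O := (QuotientGroup.eq_one_iff _).1 hq
    exact h.ι_notMem O (Nat.two_dvd_ne_zero.2 (Nat.odd_iff.1 hodd)) hqO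
  -- the determinant
  let ψ : G ⧸ O →* G23 := (MulEquiv.ofBijective φ ⟨hinj, hsurj⟩).symm.toMonoidHom
  let θ : G →* G23 := ψ.comp (QuotientGroup.mk' O)
  have hθ : Function.Surjective θ :=
    (MulEquiv.ofBijective φ ⟨hinj, hsurj⟩).symm.surjective.comp (QuotientGroup.mk'_surjective O)
  let M : Subgroup G :=
    { carrier := {g | qdet (θ g).1 = 1}
      one_mem' := by show qdet (θ 1).1 = 1; rw [map_one]; decide
      mul_mem' := fun {a b} ha hb => by
        show qdet (θ (a * b)).1 = 1
        rw [map_mul, det_mul]; exact ⟨fun _ => hb, fun _ => ha⟩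
      inv_mem' := fun {a} ha => by
        show qdet (θ a⁻¹).1 = 1
        have h1 : qdet (θ (a⁻¹ * a)).1 = 1 := by rw [inv_mul_cancel, map_one]; decide
        rw [map_mul, det_mul] at h1
        exact h1.2 ha }
  refine h.index_ne_two M (Subgroup.index_eq_two_iff.2 ?_)
  obtain ⟨p, hp⟩ := det_reflection
  obtain ⟨a, ha⟩ := hθ p
  refine ⟨a, fun b => ?_⟩
  have hmul : b * a ∈ M ↔ ((qdet (θ b).1 = 1) ↔ (qdet (θ a).1 = 1)) := by
    show qdet (θ (b * a)).1 = 1 ↔ _
    rw [map_mul, det_mul]
  rw [ha] at hmul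
  show Xor (b * a ∈ M) (qdet (θ b).1 = 1)
  rw [xor_iff_iff_not, hmul]
  tauto

/-- All involutions are conjugate. -/
theorem Hyp.involutions (h : Hyp G t) {y : G} (hy : orderOf y = 2) : IsConj t y := by
  classical
  obtain ⟨ht2, ht1⟩ := orderOf_two_iff.1 h.inv
  -- reflections are conjugate to the central involution
  have hrefl : ∀ {y : G}, orderOf y = 2 → y * t = t * y → IsConj t y := by
    intro y hy hc
    obtain ⟨g, hg, hgne⟩ := h.exists_conj
    obtain ⟨q, rfl⟩ := h.exists_ι hc
    obtain ⟨hy2, hy1⟩ := orderOf_two_iff.1 hy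
    have hq2 : q * q = 1 := h.ι_injective (by rw [map_mul, map_one]; exact hy2)
    rcases involution_cases q hq2 (fun e => hy1 (by rw [e, map_one])) with e | e
    · rw [e, h.ι_neg]
    · obtain ⟨r, hr⟩ := h.exists_ι (g := g * t * g⁻¹) hg.eq.symm
      have hr2 : r * r = 1 := h.ι_injective (by
        rw [map_mul, map_one, hr, show g * t * g⁻¹ * (g * t * g⁻¹) = g * (t * t) * g⁻¹ by group, ht2,
          mul_one, mul_inv_cancel])
      have hr1 : r ≠ 1 := fun e' => ht1 (by
        rw [e', map_one] at hr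
        calc t = g⁻¹ * (g * t * g⁻¹) * g := by group
          _ = 1 := by rw [← hr]; group)
      have hrc : cls r = 2 := (involution_cases r hr2 hr1).resolve_left fun e' => hgne (by
        rw [← hr, e', h.ι_neg])
      obtain ⟨a, ha⟩ := exists_conj_rep q
      obtain ⟨b, hb⟩ := exists_conj_rep r
      rw [e] at ha; rw [hrc] at hb
      have h1 : IsConj t (h.ι r) := by rw [hr]; exact isConj_iff.2 ⟨g, rfl⟩
      have h2 : IsConj (h.ι r) (h.ι q) := by
        rw [← ha, ← hb]
        exact h.ι.map_isConj (((isConj_iff.2 ⟨b, rfl⟩ : IsConj (rep 2) _).symm).trans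
          (isConj_iff.2 ⟨a, rfl⟩))
      exact h1.trans h2
  obtain ⟨hy2, hy1⟩ := orderOf_two_iff.1 hy
  set d := t * y with hd
  have hti := inv_eq_self_of_orderOf_two h.inv
  have hyi := inv_eq_self_of_orderOf_two hy
  have hdinv : t * d * t⁻¹ = d⁻¹ := by
    rw [hd, mul_inv_rev, hti, hyi, ← mul_assoc t t y, ht2, one_mul]
  have hdinv' : y * d * y⁻¹ = d⁻¹ := by
    rw [hd, mul_inv_rev, hti, hyi, mul_assoc y (t * y) y, mul_assoc t y y, hy2, mul_one]
  rcases Nat.even_or_odd (orderOf d) with hev | hodd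
  · obtain ⟨k, hk⟩ := hev
    set z := d ^ k with hz
    have hk0 : k ≠ 0 := fun e => by
      rw [e] at hk; exact (orderOf_pos d).ne' hk
    have hzo : orderOf z = 2 := by
      rw [hz, orderOf_pow' _ hk0, hk, show k + k = k * 2 by ring, Nat.gcd_mul_right_left,
        Nat.mul_div_cancel_left _ (Nat.pos_of_ne_zero hk0)]
    have hzinv : z⁻¹ = z := inv_eq_self_of_orderOf_two hzo
    have hconj : ∀ s : G, s * d * s⁻¹ = d⁻¹ → z * s = s * z := by
      intro s hs
      have e : s * z * s⁻¹ = z := by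
        rw [hz, ← MulAut.conj_apply, map_pow, MulAut.conj_apply, hs, inv_pow]; exact hzinv
      exact (mul_inv_eq_iff_eq_mul.1 e).symm
    have hzt := hrefl hzo (hconj t hdinv)
    obtain ⟨g, hg⟩ := isConj_iff.1 hzt.symm
    have hy' : orderOf (g * y * g⁻¹) = 2 := (orderOf_conj' g y).trans hy
    have hcy : g * y * g⁻¹ * t = t * (g * y * g⁻¹) := by
      rw [← hg, show g * y * g⁻¹ * (g * z * g⁻¹) = g * (y * z) * g⁻¹ by group, ← hconj y hdinv']
      group
    exact (hrefl hy' hcy).trans (isConj_iff.2 ⟨g, rfl⟩ : IsConj y (g * y * g⁻¹)).symm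
  · obtain ⟨k, hk⟩ := hodd
    refine isConj_iff.2 ⟨d ^ k, ?_⟩
    have hts : t * (d ^ k)⁻¹ = d ^ k * t := by
      have e : t * (d ^ k)⁻¹ * t⁻¹ = d ^ k := by
        rw [← MulAut.conj_apply, map_inv, map_pow, MulAut.conj_apply, hdinv, inv_pow, inv_inv]
      exact mul_inv_eq_iff_eq_mul.1 e
    have h2 : d ^ k * d ^ k = d⁻¹ := by
      rw [eq_inv_iff_mul_eq_one, ← pow_add, ← pow_succ, show k + k + 1 = orderOf d by omega,
        pow_orderOf_eq_one]
    calc d ^ k * t * (d ^ k)⁻¹ = d ^ k * (t * (d ^ k)⁻¹) := mul_assoc _ _ _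
      _ = d⁻¹ * t := by rw [hts, ← mul_assoc, h2]
      _ = y := by rw [hd, mul_inv_rev, hti, hyi, mul_assoc, ht2, mul_one]

/-- Every involution centraliser is a conjugate of the given one. -/
theorem Hyp.conj (h : Hyp G t) {y : G} (hy : orderOf y = 2) : Nonempty (Hyp G y) := by
  obtain ⟨g, hg⟩ := isConj_iff.1 (h.involutions hy)
  refine ⟨⟨h.res, hy, MulEquiv.trans ?_ h.e⟩⟩
  have e : (Subgroup.centralizer ({t} : Set G)).map (MulAut.conj g).toMonoidHom =
      Subgroup.centralizer ({y} : Set G) := by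
    ext v
    rw [Subgroup.mem_centralizer_singleton_iff, ← hg]
    constructor
    · rintro ⟨w, hw, rfl⟩
      have hw' := Subgroup.mem_centralizer_singleton_iff.1 hw
      show g * w * g⁻¹ * (g * t * g⁻¹) = g * t * g⁻¹ * (g * w * g⁻¹)
      rw [show g * w * g⁻¹ * (g * t * g⁻¹) = g * (w * t) * g⁻¹ by group, hw']
      group
    · intro hv
      refine ⟨g⁻¹ * v * g, Subgroup.mem_centralizer_singleton_iff.2 ?_, by
        show g * (g⁻¹ * v * g) * g⁻¹ = v
        group⟩
      calc g⁻¹ * v * g * t = g⁻¹ * (v * (g * t * g⁻¹)) * g := by group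
        _ = t * (g⁻¹ * v * g) := by rw [hv]; group
  exact ((MulEquiv.subgroupCongr e.symm).trans
    ((Subgroup.centralizer ({t} : Set G)).equivMapOfInjective _ (MulEquiv.injective _)).symm)

/-- A group with such a centraliser is simple. -/
theorem Hyp.simple (h : Hyp G t) : IsSimpleGroup G := by
  classical
  haveI : Fact (Nat.Prime 2) := ⟨Nat.prime_two⟩
  obtain ⟨ht2, ht1⟩ := orderOf_two_iff.1 h.inv
  haveI : Nontrivial G := ⟨⟨t, 1, ht1⟩⟩
  refine ⟨fun N hN => or_iff_not_imp_left.2 fun hne => ?_⟩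
  haveI := hN
  -- N has even order
  have hNev : 2 ∣ Nat.card N := by
    by_contra hodd
    have hfree : ∀ s : G, orderOf s = 2 → ∀ n ∈ N, s * n * s⁻¹ = n → n = 1 := by
      intro s hs n hn hc
      obtain ⟨h'⟩ := h.conj hs
      by_contra hn1
      obtain ⟨q, hq⟩ := h'.exists_ι (mul_inv_eq_iff_eq_mul.1 hc).symm
      exact hn1 (by rw [← hq, h'.ι_notMem N hodd (q := q) (by rw [hq]; exact hn), map_one])
    have hinv : ∀ s : G, orderOf s = 2 → ∀ n ∈ N, s * n * s⁻¹ = n⁻¹ := by
      intro s hs n hn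
      obtain ⟨hs2, -⟩ := orderOf_two_iff.1 hs
      have hsi := inv_eq_self_of_orderOf_two hs
      let φ : N →* N :=
        { toFun := fun x => ⟨s * x * s⁻¹, hN.conj_mem _ x.2 s⟩
          map_one' := Subtype.ext (by simp)
          map_mul' := fun x y => Subtype.ext (by simp [mul_assoc]) }
      have hφ : MonoidHom.FixedPointFree φ := fun x hx =>
        Subtype.ext (hfree s hs x x.2 (congrArg Subtype.val hx))
      have h2 : Function.Involutive φ := fun x => Subtype.ext (by
        show s * (s * (x : G) * s⁻¹) * s⁻¹ = x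
        rw [hsi]
        calc s * (s * (x : G) * s) * s = (s * s) * x * (s * s) := by group
          _ = x := by rw [hs2, one_mul, mul_one])
      exact congrArg Subtype.val (congrFun (hφ.coe_eq_inv_of_involutive h2) ⟨n, hn⟩)
    obtain ⟨g, hg, hgne⟩ := h.exists_conj
    set r := g * t * g⁻¹ with hr
    have hr2 : orderOf r = 2 := (orderOf_conj' g t).trans h.inv
    obtain ⟨hr2', -⟩ := orderOf_two_iff.1 hr2
    have htr : orderOf (t * r) = 2 := by
      refine orderOf_two_iff.2 ⟨?_, fun e => hgne ?_⟩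
      · calc t * r * (t * r) = t * (r * t) * r := by group
          _ = (t * t) * (r * r) := by rw [hg.eq.symm]; group
          _ = 1 := by rw [ht2, hr2', one_mul]
      · rw [← inv_eq_of_mul_eq_one_right e]; exact inv_eq_self_of_orderOf_two h.inv
    apply hne
    rw [Subgroup.eq_bot_iff_forall]
    intro n hn
    have h3 := hinv _ htr n hn
    have h4 : t * r * n * (t * r)⁻¹ = n := by
      calc t * r * n * (t * r)⁻¹ = t * (r * n * r⁻¹) * t⁻¹ := by group
        _ = n := by rw [hinv r hr2 n hn, hinv t h.inv _ (N.inv_mem hn), inv_inv]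
    by_contra hn1
    exact hn1 (hfree _ htr n hn h4)
  -- N contains every involution and their centralisers
  obtain ⟨⟨z, hzN⟩, hz⟩ := exists_prime_orderOf_dvd_card' 2 hNev
  rw [Subgroup.orderOf_mk] at hz
  have hinvN : ∀ y : G, orderOf y = 2 → y ∈ N := by
    intro y hy
    obtain ⟨g, rfl⟩ := isConj_iff.1 ((h.involutions hz).symm.trans (h.involutions hy))
    exact hN.conj_mem z hzN g
  have hcentN : ∀ {s : G}, Hyp G s → ∀ g : G, g * s = s * g → g ∈ N := by
    intro s h' g hg
    obtain ⟨q, rfl⟩ := h'.exists_ι hg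
    obtain ⟨a, b, c, ⟨ha, hb, hc⟩, rfl⟩ := three_reflections q
    have key : ∀ a : G23, a * a = 1 → h'.ι a ∈ N := by
      intro a ha
      by_cases h1 : a = 1
      · rw [h1, map_one]; exact N.one_mem
      refine hinvN _ (orderOf_two_iff.2 ⟨by rw [← map_mul, ha, map_one], fun e => h1 ?_⟩)
      exact h'.ι_injective (e.trans (map_one _).symm)
    rw [map_mul, map_mul]
    exact N.mul_mem (N.mul_mem (key a ha) (key b hb)) (key c hc)
  -- the Frattini argument
  let P : Sylow 2 N := default
  have htop := Sylow.normalizer_sup_eq_top P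
  set S := (P : Subgroup N).map N.subtype with hS
  haveI hPnt : Nontrivial (P : Subgroup N) := by
    rw [← Finite.one_lt_card_iff_nontrivial]
    exact Nat.lt_of_lt_of_le Nat.one_lt_two (Nat.le_of_dvd Nat.card_pos
      (P.dvd_card_of_dvd_card hNev))
  haveI hcn := P.2.center_nontrivial
  obtain ⟨c0, hc0⟩ := exists_prime_orderOf_dvd_card' 2 (G := Subgroup.center (P : Subgroup N)) (by
    obtain ⟨j, hj⟩ := IsPGroup.iff_card.1 (P.2.to_subgroup (Subgroup.center (P : Subgroup N)))
    rcases j with - | j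
    · exact absurd hj (by simpa using Finite.one_lt_card (α := Subgroup.center (P : Subgroup N)) |>.ne')
    · exact ⟨2 ^ j, by rw [hj, pow_succ, mul_comm]⟩)
  set c : G := (((c0 : (P : Subgroup N)) : N) : G) with hc
  have hco : orderOf c = 2 := by
    rw [hc, Subgroup.orderOf_coe, Subgroup.orderOf_coe, Subgroup.orderOf_coe, hc0]
  obtain ⟨h'⟩ := h.conj hco
  have hcS : ∀ v ∈ S, v * c = c * v := by
    rintro _ ⟨v, hv, rfl⟩
    exact congrArg (fun w : (P : Subgroup N) => ((w : N) : G)) (Subgroup.mem_center_iff.1 c0.2 ⟨v, hv⟩)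
  have hcin : c ∈ S := ⟨((c0 : (P : Subgroup N)) : N), (c0 : (P : Subgroup N)).2, rfl⟩
  have h16 : 16 ∣ Nat.card S := by
    rw [hS, Subgroup.card_map_of_injective N.subtype_injective]
    have h48 : 48 ∣ Nat.card N := by
      rw [← h'.card_cent]
      exact Subgroup.card_dvd_of_le fun v hv => hcentN h' v (Subgroup.mem_centralizer_singleton_iff.1 hv)
    exact (P.pow_dvd_card_of_pow_dvd_card (n := 4)) ((by norm_num : 2 ^ 4 ∣ 48).trans h48)
  have huniq : ∀ c' ∈ S, orderOf c' = 2 → (∀ v ∈ S, v * c' = c' * v) → c' = c := by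
    intro c' hc' hc'o hc'S
    obtain ⟨q, rfl⟩ := h'.exists_ι (hcS c' hc')
    by_contra hne'
    obtain ⟨e1, e2⟩ := orderOf_two_iff.1 hc'o
    have hq2 : q * q = 1 := h'.ι_injective (by rw [map_mul, map_one]; exact e1)
    have hqne : q ≠ neg1 := fun e => hne' (by rw [e, h'.ι_neg])
    have hq1 : q ≠ 1 := fun e => e2 (by rw [e, map_one])
    have hle := reflection_centralizer q hq2 hq1 hqne
    let f : S → {w : G23 // w * q = q * w} := fun v =>
      ⟨Classical.choose (h'.exists_ι (hcS v v.2)), h'.ι_injective (by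
        rw [map_mul, map_mul, Classical.choose_spec (h'.exists_ι (hcS v v.2))]
        exact hc'S v v.2)⟩
    have hf : Function.Injective f := fun v w e => Subtype.ext (by
      rw [← Classical.choose_spec (h'.exists_ι (hcS v v.2)),
        ← Classical.choose_spec (h'.exists_ι (hcS w w.2))]
      exact congrArg (fun u : {w : G23 // w * q = q * w} => h'.ι u.1) e)
    have h1 := Nat.card_le_card_of_injective f hf
    rw [Nat.card_eq_fintype_card (α := {w : G23 // w * q = q * w}), Fintype.card_subtype] at h1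
    have := Nat.le_of_dvd Nat.card_pos h16
    omega
  rw [eq_top_iff, ← htop]
  refine sup_le (fun g hg => ?_) le_rfl
  refine hcentN h' g ?_
  have hgc : g * c * g⁻¹ = c := by
    refine huniq _ ((Subgroup.mem_normalizer_iff.1 hg c).1 hcin) ((orderOf_conj' g c).trans hco)
      fun v hv => ?_
    have hv' : g⁻¹ * v * g ∈ S := by
      have := (Subgroup.mem_normalizer_iff.1 ((Subgroup.normalizer (S : Set G)).inv_mem hg) v).1 hv
      simpa using this
    calc v * (g * c * g⁻¹) = g * ((g⁻¹ * v * g) * c) * g⁻¹ := by group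
      _ = g * (c * (g⁻¹ * v * g)) * g⁻¹ := by rw [hcS _ hv']
      _ = g * c * g⁻¹ * v := by group
  exact mul_inv_eq_iff_eq_mul.1 hgc

end Cfsg.Agent.Lib.Characters.LThreeThree
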