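import Cfsg.Agent.Lib.Characters.GLTwoThreeTable

/-!
# Recognition of `GL(2,3)` from involution and centraliser data
-/

set_option autoImplicit false
set_option linter.style.haveILetI false

namespace Cfsg.Agent.Lib.Characters.LThreeThree.Recog

open Cfsg.Agent.Lib.Characters.GLTwoThree

section Words

variable {P : Type*} [Group P] (s1 s2 s3 z : P)

/-- Power of the central element. -/
def zP : Fin 2 → P := ![1, z]
/-- Coset representatives. -/
def tW : Fin 4 → P := ![1, s3, s2 * s3, s1 * (s2 * s3)]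
/-- The small symmetric group. -/
def sW : Fin 6 → P := ![1, s1, s2, s1 * s2, s2 * s1, s1 * (s2 * s1)]
/-- Normal forms. -/
def nf (i : Fin 2 × Fin 4 × Fin 6) : P := zP z i.1 * tW s1 s2 s3 i.2.1 * sW s1 s2 i.2.2

/-- The relations. -/
structure Rel : Prop where
  q1 : s1 * s1 = 1
  q2 : s2 * s2 = 1
  q3 : s3 * s3 = 1
  qz : z * z = 1
  c1 : s1 * z = z * s1
  c2 : s2 * z = z * s2
  c3 : s3 * z = z * s3
  b12 : s1 * (s2 * s1) = s2 * (s1 * s2)
  b23 : s2 * (s3 * s2) = s3 * (s2 * s3)
  a13 : s1 * s3 = z * (s3 * s1)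

variable {s1 s2 s3 z}

theorem Rel.step (r : Rel s1 s2 s3 z) {s : P} (hs : s = s1 ∨ s = s2 ∨ s = s3)
    (i : Fin 2 × Fin 4 × Fin 6) : s * nf s1 s2 s3 z i ∈ Set.range (nf s1 s2 s3 z) := by
  obtain ⟨e, v, w⟩ := i
  have hzz : ∀ a b : Fin 2, zP z a * zP z b = zP z (a + b) := by
    intro a b; fin_cases a <;> fin_cases b <;> simp [zP, r.qz]
  have hsz : s * zP z e = zP z e * s := by
    rcases hs with rfl | rfl | rfl <;> fin_cases e <;> simp [zP, r.c1, r.c2, r.c3]
  have u1 : ∀ w, ∃ w', s1 * sW s1 s2 w = sW s1 s2 w' := by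
    intro w
    fin_cases w
    · exact ⟨1, by simp [sW]⟩
    · exact ⟨0, by simp [sW, r.q1]⟩
    · exact ⟨3, by simp [sW]⟩
    · exact ⟨2, by simp [sW, ← mul_assoc, r.q1]⟩
    · exact ⟨5, by simp [sW]⟩
    · exact ⟨4, by simp [sW, ← mul_assoc, r.q1]⟩
  have u2 : ∀ w, ∃ w', s2 * sW s1 s2 w = sW s1 s2 w' := by
    intro w
    fin_cases w
    · exact ⟨2, by simp [sW]⟩
    · exact ⟨4, by simp [sW]⟩
    · exact ⟨0, by simp [sW, r.q2]⟩
    · exact ⟨5, by simp [sW, r.b12]⟩
    · exact ⟨1, by simp [sW, ← mul_assoc, r.q2]⟩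
    · exact ⟨3, by simp [sW, r.b12, ← mul_assoc, r.q2]⟩
  suffices H : ∃ a v' τ, (τ = 1 ∨ τ = s1 ∨ τ = s2) ∧
      s * tW s1 s2 s3 v = zP z a * tW s1 s2 s3 v' * τ by
    obtain ⟨a, v', τ, hτ, he⟩ := H
    have : ∃ w', τ * sW s1 s2 w = sW s1 s2 w' := by
      rcases hτ with h | h | h <;> subst h
      · exact ⟨w, one_mul _⟩
      · exact u1 w
      · exact u2 w
    obtain ⟨w', hw⟩ := this
    refine ⟨(e + a, v', w'), ?_⟩
    simp only [nf]
    rw [← hzz, ← hw]
    calc zP z e * zP z a * tW s1 s2 s3 v' * (τ * sW s1 s2 w)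
        = zP z e * (zP z a * tW s1 s2 s3 v' * τ) * sW s1 s2 w := by simp only [mul_assoc]
      _ = zP z e * (s * tW s1 s2 s3 v) * sW s1 s2 w := by rw [he]
      _ = s * (zP z e * tW s1 s2 s3 v * sW s1 s2 w) := by
          simp only [← mul_assoc]; rw [hsz]
  rcases hs with rfl | rfl | rfl <;> fin_cases v
  · exact ⟨0, 0, _, .inr (.inl rfl), by simp [zP, tW]⟩
  · exact ⟨1, 1, _, .inr (.inl rfl), by simp [zP, tW, r.a13, mul_assoc]⟩
  · exact ⟨0, 3, _, .inl rfl, by simp [zP, tW]⟩
  · exact ⟨0, 2, _, .inl rfl, by simp [zP, tW, ← mul_assoc, r.q1]⟩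
  · exact ⟨0, 0, _, .inr (.inr rfl), by simp [zP, tW]⟩
  · exact ⟨0, 2, _, .inl rfl, by simp [zP, tW]⟩
  · exact ⟨0, 1, _, .inl rfl, by simp [zP, tW, ← mul_assoc, r.q2]⟩
  · refine ⟨1, 3, _, .inr (.inl rfl), ?_⟩
    show s * (s1 * (s * s3)) = z * (s1 * (s * s3)) * s1
    calc s * (s1 * (s * s3)) = s * (s1 * s) * s3 := by simp only [mul_assoc]
      _ = s1 * s * (s1 * s3) := by rw [← r.b12]; simp only [mul_assoc]
      _ = s1 * s * (z * (s3 * s1)) := by rw [r.a13]
      _ = s1 * (s * z) * (s3 * s1) := by simp only [mul_assoc]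
      _ = (s1 * z) * s * (s3 * s1) := by rw [r.c2]; simp only [mul_assoc]
      _ = z * (s1 * (s * s3)) * s1 := by rw [r.c1]; simp only [mul_assoc]
  · exact ⟨0, 1, _, .inl rfl, by simp [zP, tW]⟩
  · exact ⟨0, 0, _, .inl rfl, by simp [zP, tW, r.q3]⟩
  · refine ⟨0, 2, _, .inr (.inr rfl), ?_⟩
    simp [zP, tW, mul_assoc, r.b23]
  · refine ⟨1, 3, _, .inr (.inr rfl), ?_⟩
    show s * (s1 * (s2 * s)) = z * (s1 * (s2 * s)) * s2
    have hz : s * s1 = z * (s1 * s) := by
      rw [r.a13, ← mul_assoc z z, r.qz, one_mul]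
    calc s * (s1 * (s2 * s)) = z * (s1 * s) * (s2 * s) := by rw [← hz]; simp only [mul_assoc]
      _ = z * s1 * (s * (s2 * s)) := by simp only [mul_assoc]
      _ = z * (s1 * (s2 * s)) * s2 := by rw [← r.b23]; simp only [mul_assoc]

theorem Rel.closure_le (r : Rel s1 s2 s3 z) :
    ((Subgroup.closure ({s1, s2, s3} : Set P) : Subgroup P) : Set P) ⊆ Set.range (nf s1 s2 s3 z) := by
  have hinv : ∀ s : P, (s = s1 ∨ s = s2 ∨ s = s3) → s⁻¹ = s := by
    rintro s (rfl | rfl | rfl)
    · exact inv_eq_of_mul_eq_one_right r.q1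
    · exact inv_eq_of_mul_eq_one_right r.q2
    · exact inv_eq_of_mul_eq_one_right r.q3
  intro x hx
  induction hx using Subgroup.closure_induction_left with
  | one => exact ⟨(0, 0, 0), by simp [nf, zP, tW, sW]⟩
  | mul_left y hy w _ hw =>
    obtain ⟨i, rfl⟩ := hw
    exact r.step (by simpa using hy) i
  | inv_mul_cancel y hy w _ hw =>
    obtain ⟨i, rfl⟩ := hw
    rw [hinv y (by simpa using hy)]
    exact r.step (by simpa using hy) i

theorem Rel.nf_mem (r : Rel s1 s2 s3 z) (i : Fin 2 × Fin 4 × Fin 6) :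
    nf s1 s2 s3 z i ∈ Subgroup.closure ({s1, s2, s3} : Set P) := by
  set C := Subgroup.closure ({s1, s2, s3} : Set P)
  have h1 : s1 ∈ C := Subgroup.subset_closure (by simp)
  have h2 : s2 ∈ C := Subgroup.subset_closure (by simp)
  have h3 : s3 ∈ C := Subgroup.subset_closure (by simp)
  have hz : z ∈ C := by
    have : z = s1 * s3 * (s3 * s1)⁻¹ := by rw [r.a13, mul_inv_cancel_right]
    rw [this]
    exact mul_mem (mul_mem h1 h3) (inv_mem (mul_mem h3 h1))
  obtain ⟨e, v, w⟩ := i
  refine mul_mem (mul_mem ?_ ?_) ?_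
  · fin_cases e <;> simp [zP, hz]
  · fin_cases v <;> simp [tW, one_mem, h1, h2, h3, mul_mem]
  · fin_cases w <;> simp [sW, one_mem, h1, h2, mul_mem]

end Words

/-- The three reflections in the model. -/
def r1 : G23 := ⟨(1, 0, 0, 2), by decide⟩
/-- The second reflection. -/
def r2 : G23 := ⟨(1, 1, 0, 2), by decide⟩
/-- The third reflection. -/
def r3 : G23 := ⟨(0, 2, 2, 0), by decide⟩

theorem model_rel : Rel r1 r2 r3 neg1 := by
  constructor <;> decide +kernel

set_option synthInstance.maxSize 4096 in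
set_option synthInstance.maxHeartbeats 400000 in
theorem model_nf : ∀ g : G23, ∃ i, nf r1 r2 r3 neg1 i = g := by decide +kernel

set_option synthInstance.maxSize 4096 in
set_option synthInstance.maxHeartbeats 400000 in
theorem model_normal : ∀ g : G23, g ≠ 1 → g ≠ neg1 → ∃ n : G23,
    n * g * n⁻¹ * g⁻¹ = neg1 ∨ (n * g * n⁻¹ * g⁻¹) * (n * g * n⁻¹ * g⁻¹) = neg1 := by
  decide +kernel

theorem iso_of_rel {K : Type*} [Group K] [Finite K] (hK : Nat.card K = 48) {a b g h : K}
    (r : Rel a b g h) (hh : h ≠ 1) : Nonempty (K ≃* G23) := by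
  have rp : Rel ((r1, a) : G23 × K) (r2, b) (r3, g) (neg1, h) := by
    obtain ⟨x1, x2, x3, x4, x5, x6, x7, x8, x9, x10⟩ := model_rel
    obtain ⟨y1, y2, y3, y4, y5, y6, y7, y8, y9, y10⟩ := r
    constructor <;> simp only [Prod.mk_mul_mk, Prod.mk_eq_one, Prod.mk.injEq] <;>
      constructor <;> assumption
  set D := Subgroup.closure ({((r1, a) : G23 × K), (r2, b), (r3, g)} : Set (G23 × K)) with hD
  let π : D →* G23 := (MonoidHom.fst G23 K).comp D.subtype
  have hsurj : Function.Surjective π := by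
    intro q
    obtain ⟨i, hi⟩ := model_nf q
    refine ⟨⟨nf ((r1, a) : G23 × K) (r2, b) (r3, g) (neg1, h) i, rp.nf_mem i⟩, ?_⟩
    show (nf ((r1, a) : G23 × K) (r2, b) (r3, g) (neg1, h) i).1 = q
    rw [← hi]
    obtain ⟨e, v, w⟩ := i
    fin_cases e <;> fin_cases v <;> fin_cases w <;> rfl
  have hcard : Nat.card D ≤ Nat.card G23 := by
    have e48 : Nat.card G23 = 48 := by rw [Nat.card_eq_fintype_card, card_g23]
    rw [e48]
    calc Nat.card D ≤ Nat.card (Set.range (nf ((r1, a) : G23 × K) (r2, b) (r3, g) (neg1, h))) :=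
          Nat.card_mono (Set.toFinite _) rp.closure_le
      _ ≤ Nat.card (Fin 2 × Fin 4 × Fin 6) := Finite.card_range_le _
      _ = 48 := by simp
  have hbij := hsurj.bijective_of_nat_card_le hcard
  let e := MulEquiv.ofBijective π hbij
  let ψ : G23 →* K := ((MonoidHom.snd G23 K).comp D.subtype).comp e.symm.toMonoidHom
  have hψ : ψ neg1 = h := by
    have hm : ((neg1, h) : G23 × K) ∈ D := by
      have := rp.nf_mem (1, 0, 0)
      simpa [nf, zP, tW, sW] using this
    have : e.symm neg1 = ⟨_, hm⟩ := (e.symm_apply_eq).2 rfl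
    show ((e.symm neg1 : D) : G23 × K).2 = h
    rw [this]
  have hinj : Function.Injective ψ := by
    rw [injective_iff_map_eq_one]
    intro q hq
    by_contra hne
    by_cases hn : q = neg1
    · exact hh (by rw [← hψ, ← hn, hq])
    obtain ⟨n, hn'⟩ := model_normal q hne hn
    have h1 : ψ (n * q * n⁻¹ * q⁻¹) = 1 := by simp [hq]
    rcases hn' with hn' | hn'
    · exact hh (by rw [← hψ, ← hn', h1])
    · exact hh (by rw [← hψ, ← hn', map_mul, h1, mul_one])
  have hb : Function.Bijective ψ := hinj.bijective_of_nat_card_le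
    (by rw [hK, Nat.card_eq_fintype_card, card_g23])
  exact ⟨(MulEquiv.ofBijective ψ hb).symm⟩

/-- Elementary consequence: `GL(2,3)` from centraliser data. -/
theorem iso_of_data {K : Type*} [Group K] [Finite K] {h : K} (hK : Nat.card K = 48)
    (hh : h ≠ 1) (hh2 : h * h = 1) (hz : ∀ x : K, x * h = h * x)
    (hR : Nat.card {x : K // x * x = 1 ∧ x ≠ 1 ∧ x ≠ h} = 12)
    (hC : ∀ a : K, a * a = 1 → a ≠ 1 → a ≠ h →
      Nat.card (Subgroup.centralizer ({a} : Set K)) = 4)
    (hord : ∀ x : K, x * x = 1 ∨ x ^ 6 = 1 ∨ x ^ 8 = 1)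
    (hsmall : ∀ x : K, x * x ≠ 1 → Nat.card (Subgroup.centralizer ({x} : Set K)) ≤ 8)
    (habel : ∀ x p q : K, x * x ≠ 1 → p * x = x * p → q * x = x * q → p * q = q * p) :
    Nonempty (K ≃* G23) := by
  classical
  have := Fintype.ofFinite K
  -- centraliser of a reflection
  have hCmem : ∀ a : K, a * a = 1 → a ≠ 1 → a ≠ h → ∀ y, y * a = a * y →
      y = 1 ∨ y = h ∨ y = a ∨ y = h * a := by
    intro a ha ha1 hah y hy
    have hc := hC a ha ha1 hah
    let S : Finset K := {1, h, a, h * a}
    have hS : S.card = 4 := by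
      have n1 : h * a ≠ 1 := fun e => hah ((mul_eq_one_iff_eq_inv.1 e ▸
        (inv_eq_of_mul_eq_one_right ha).symm ▸ rfl : h = a).symm)
      have n2 : h * a ≠ h := fun e => ha1 (mul_eq_left.1 e)
      have n3 : h * a ≠ a := fun e => hh (mul_eq_right.1 e)
      simp [S, hh.symm, ha1.symm, n1.symm, n2.symm, n3.symm, Ne.symm hah]
    have hsub : S ⊆ (Subgroup.centralizer ({a} : Set K) : Set K).toFinset := by
      intro u hu
      simp only [S, Finset.mem_insert, Finset.mem_singleton] at hu
      simp only [Set.mem_toFinset, SetLike.mem_coe, Subgroup.mem_centralizer_singleton_iff]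
      rcases hu with rfl | rfl | rfl | rfl
      · simp
      · exact (hz a).symm
      · rfl
      · rw [mul_assoc, ← mul_assoc a h a, hz a, mul_assoc]
    have heq := Finset.eq_of_subset_of_card_le hsub (by
      rw [hS, Set.toFinset_card, ← Nat.card_eq_fintype_card]
      exact le_of_eq hc)
    have : y ∈ S := by
      rw [heq]
      simpa [Subgroup.mem_centralizer_singleton_iff] using hy
    simpa [S] using this
  -- involutions commuting with a non-involution are central
  have huniq : ∀ x j : K, x * x ≠ 1 → j * j = 1 → j ≠ 1 → x * j = j * x → j = h := by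
    intro x j hx hj hj1 hc
    by_contra hjh
    rcases hCmem j hj hj1 hjh x hc with rfl | rfl | rfl | rfl
    · simp at hx
    · exact hx hh2
    · exact hx hj
    · exact hx (by rw [mul_assoc, ← mul_assoc j h j, hz j, mul_assoc, hj, mul_one, hh2])
  have hinvol : ∀ a b : K, a * a = 1 → b * b = 1 → a * (a * b) * a = (a * b)⁻¹ := by
    intro a b ha hb
    rw [← mul_assoc a a, ha, one_mul, mul_inv_rev, inv_eq_of_mul_eq_one_right ha,
      inv_eq_of_mul_eq_one_right hb]
  obtain ⟨⟨a, ha, ha1, hah⟩⟩ : Nonempty {x : K // x * x = 1 ∧ x ≠ 1 ∧ x ≠ h} :=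
    (Nat.card_pos_iff.1 (by omega)).1
  -- `a` is conjugate to `h * a`
  obtain ⟨g, hg, hga⟩ : ∃ g : K, g * g = 1 ∧ a * g = h * (g * a) := by
    -- conjugates of `a`
    have horb : ∀ x : K, x * x = 1 → x ≠ 1 → x ≠ h → ∃ k : K, k * a * k⁻¹ = x := by
      intro x hx hx1 hxh
      let R := Finset.univ.filter fun x : K => x * x = 1 ∧ x ≠ 1 ∧ x ≠ h
      let O := Finset.univ.image fun k : K => k * a * k⁻¹
      have hsubO : O ⊆ R := by
        intro u hu
        obtain ⟨k, -, rfl⟩ := Finset.mem_image.1 hu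
        refine Finset.mem_filter.2 ⟨Finset.mem_univ _, ?_, ?_, ?_⟩
        · rw [conj_mul, ha, mul_one, mul_inv_cancel]
        · simpa using ha1
        · intro e
          apply hah
          calc a = k⁻¹ * (k * a * k⁻¹) * k := by simp [mul_assoc]
            _ = k⁻¹ * (h * k) := by rw [e, mul_assoc]
            _ = h := by rw [← hz k, ← mul_assoc, inv_mul_cancel, one_mul]
      have hOcard : O.card * 4 = 48 := by
        rw [← hK, ← hC a ha ha1 hah, Nat.card_eq_fintype_card (α := K),
          Nat.card_eq_fintype_card, ← Finset.card_univ (α := K),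
          Finset.card_eq_sum_card_image (fun k : K => k * a * k⁻¹) Finset.univ]
        rw [Finset.sum_const_nat (m := Fintype.card (Subgroup.centralizer ({a} : Set K)))]
        intro u hu
        obtain ⟨k, -, rfl⟩ := Finset.mem_image.1 hu
        rw [← Fintype.card_coe]
        refine Fintype.card_congr
          ⟨fun l => ⟨k⁻¹ * l.1, ?_⟩, fun c => ⟨k * c.1, ?_⟩, fun l => by simp, fun c => by simp⟩
        · have h2 := (Finset.mem_filter.1 l.2).2
          rw [Subgroup.mem_centralizer_singleton_iff]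
          calc k⁻¹ * l.1 * a = k⁻¹ * (l.1 * a * l.1⁻¹) * l.1 := by simp [mul_assoc]
            _ = k⁻¹ * (k * a * k⁻¹) * l.1 := by rw [h2]
            _ = a * (k⁻¹ * l.1) := by simp [mul_assoc]
        · have h2 := Subgroup.mem_centralizer_singleton_iff.1 c.2
          refine Finset.mem_filter.2 ⟨Finset.mem_univ _, ?_⟩
          calc k * c.1 * a * (k * c.1)⁻¹ = k * (c.1 * a * c.1⁻¹) * k⁻¹ := by simp [mul_assoc]
            _ = k * a * k⁻¹ := by rw [h2]; simp
      have hRle : R.card = 12 := by
        rw [← hR, Nat.card_eq_fintype_card, Fintype.card_subtype]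
      have heq : O = R := Finset.eq_of_subset_of_card_le hsubO (by omega)
      have : x ∈ O := heq ▸ Finset.mem_filter.2 ⟨Finset.mem_univ _, hx, hx1, hxh⟩
      obtain ⟨k, -, hk⟩ := Finset.mem_image.1 this
      exact ⟨k, hk⟩
    have hha : h * a ≠ 1 ∧ h * a ≠ h := ⟨fun e => hah (by
      calc a = (h * h) * a := by rw [hh2, one_mul]
        _ = h := by rw [mul_assoc, e, mul_one]), fun e => ha1 (mul_eq_left.1 e)⟩
    obtain ⟨k, hk⟩ := horb (h * a) (by
      rw [mul_assoc, ← mul_assoc a h a, hz a, mul_assoc, ha, mul_one, hh2]) hha.1 hha.2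
    have hk' : k * a = h * (a * k) := by
      rw [mul_inv_eq_iff_eq_mul.mp hk, mul_assoc]
    by_cases hk2 : k * k = 1
    · refine ⟨k, hk2, ?_⟩
      rw [hk', ← mul_assoc h h, hh2, one_mul]
    · -- then `k * k = h`
      have hcomm : k * k * a = a * (k * k) := by
        calc k * k * a = k * (h * (a * k)) := by rw [mul_assoc, hk']
          _ = h * ((k * a) * k) := by rw [← mul_assoc, hz k, mul_assoc, mul_assoc]
          _ = a * (k * k) := by rw [hk']; simp only [← mul_assoc]; rw [hh2, one_mul]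
      have hkk : k * k = h := by
        have hkc : k * (k * k) = k * k * k := (mul_assoc k k k).symm
        rcases hCmem a ha ha1 hah (k * k) hcomm with e | e | e | e
        · exact absurd e hk2
        · exact e
        · exfalso
          rw [e] at hkc
          rw [hkc] at hk'
          exact hh (mul_eq_right.1 hk'.symm)
        · exfalso
          rw [e, ← mul_assoc k h a, hz k, mul_assoc, mul_assoc] at hkc
          rw [mul_left_cancel hkc] at hk'
          exact hh (mul_eq_right.1 hk'.symm)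
      refine ⟨k * a, ?_, ?_⟩
      · calc k * a * (k * a) = h * (a * k) * (k * a) := by rw [← hk']
          _ = h * (a * (k * k) * a) := by simp only [mul_assoc]
          _ = 1 := by rw [hkk, hz a, mul_assoc, ha, mul_one, hh2]
      · calc a * (k * a) = (a * k) * a := (mul_assoc _ _ _).symm
          _ = (h * h) * (a * k) * a := by rw [hh2, one_mul]
          _ = h * (k * a * a) := by rw [hk']; simp only [mul_assoc]
  have hgh : g ≠ h := by
    intro e
    apply hh
    have e2 : a * h = h * (h * a) := by rw [e] at hga; exact hga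
    rw [← mul_assoc, hh2, one_mul] at e2
    exact mul_eq_left.1 e2
  have hg1 : g ≠ 1 := fun e => hh (by subst e; simpa using hga)
  have hga' : g * a = h * (a * g) := by rw [hga, ← mul_assoc, hh2, one_mul]
  obtain ⟨w, hw⟩ : ∃ w, w = a * g := ⟨_, rfl⟩
  have hgaw : g * a = h * w := by rw [hw]; exact hga'
  have hanti : ∀ c d : K, c * c = 1 → d * d = 1 → c * d = h * (d * c) → (c * d) * (c * d) = h := by
    intro c d hc hd he
    conv_lhs => arg 1; rw [he]
    rw [mul_assoc, mul_assoc d c, ← mul_assoc c c, hc, one_mul, hd, mul_one]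
  have hww : w * w = h := by rw [hw]; exact hanti a g ha hg hga
  have hw2 : w * w ≠ 1 := hww ▸ hh
  -- partners
  have hpartner : ∀ c d u : K, c * c = 1 → c ≠ 1 → c ≠ h → d * d = 1 → c * d = h * (d * c) →
      u * u = 1 → c * u = h * (u * c) → (c * u) * (c * d) = (c * d) * (c * u) := by
    intro c d u hc hc1 hch hd hcd hu hcu
    have hdc : d * c = h * (c * d) := by rw [hcd, ← mul_assoc, hh2, one_mul]
    have hcom : u * d * c = c * (u * d) := by
      calc u * d * c = u * (h * (c * d)) := by rw [mul_assoc, hdc]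
        _ = h * (u * c) * d := by rw [← mul_assoc u h, hz u]; simp only [mul_assoc]
        _ = c * (u * d) := by rw [← hcu, mul_assoc]
    have hu' : u = u * d * d := by rw [mul_assoc, hd, mul_one]
    have hsq := hanti c d hc hd hcd
    rcases hCmem c hc hc1 hch (u * d) hcom with e | e | e | e <;> rw [e] at hu'
    · rw [hu', one_mul]
    · rw [hu', ← mul_assoc c h d, hz c, mul_assoc h c d, mul_assoc h,
        ← mul_assoc (c * d) h, hz (c * d), mul_assoc h (c * d)]
    · exfalso
      rw [hu', hsq] at hu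
      exact hh hu
    · exfalso
      apply hh
      rw [← hu, hu', mul_assoc h c d]
      rw [mul_assoc h (c * d), ← mul_assoc (c * d) h, hz (c * d), mul_assoc h (c * d), hsq,
        hh2, mul_one]
  -- choose the third reflection
  set C := Subgroup.centralizer ({w} : Set K)
  obtain ⟨b, hb, hb1, hbh, hab⟩ : ∃ b : K, b * b = 1 ∧ b ≠ 1 ∧ b ≠ h ∧ a * b ∉ C := by
    by_contra hcon
    push Not at hcon
    have : Nat.card {x : K // x * x = 1 ∧ x ≠ 1 ∧ x ≠ h} ≤ Nat.card C :=
      Nat.card_le_card_of_injective (fun x => ⟨a * x.1, hcon x.1 x.2.1 x.2.2.1 x.2.2.2⟩)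
        fun x y e => Subtype.ext (mul_left_cancel (Subtype.mk_eq_mk.1 e))
    have h8 : Nat.card C ≤ 8 := hsmall w hw2
    omega
  -- products have order dividing six
  have key : ∀ c : K, c * c = 1 → (c = a ∨ c = g) → (c * b) ^ 6 = 1 := by
    intro c hc hcag
    have hcC : c * b ∉ C := by
      rcases hcag with rfl | rfl
      · exact hab
      · intro hmem
        apply hab
        have : a * b = w * (c * b) := by rw [hw, mul_assoc, ← mul_assoc c c, hc, one_mul]
        rw [this]
        exact mul_mem (Subgroup.mem_centralizer_singleton_iff.2 rfl) hmem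
    have hinv := hinvol c b hc hb
    set x := c * b with hx
    -- elements inverted by `c`, of order four, commute with `w`
    have hfour : ∀ y : K, c * y * c = y⁻¹ → y * y = h → y * w = w * y := by
      intro y hy hyy
      have hu2 : c * y * (c * y) = 1 := by rw [← mul_assoc, hy, inv_mul_cancel]
      have hcy : y⁻¹ = h * y := by
        apply inv_eq_of_mul_eq_one_right
        rw [← mul_assoc, hz y, mul_assoc, hyy, hh2]
      have hrel : c * (c * y) = h * ((c * y) * c) := by
        rw [hy, hcy, ← mul_assoc c c, hc, one_mul, ← mul_assoc, hh2, one_mul]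
      have hyc : y = c * (c * y) := by rw [← mul_assoc, hc, one_mul]
      rcases hcag with rfl | rfl
      · have := hpartner c g (c * y) hc ha1 hah hg hga hu2 hrel
        rw [← hyc] at this; rw [hw]; exact this
      · have := hpartner c a (c * y) hc hg1 hgh ha hga' hu2 hrel
        rw [← hyc, hgaw, ← mul_assoc, hz y, mul_assoc, mul_assoc h w y] at this
        exact mul_left_cancel this
    have hc1 : c ≠ 1 ∧ c ≠ h := by rcases hcag with rfl | rfl <;> exact ⟨‹_›, ‹_›⟩
    have h22 : x * x ≠ 1 := by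
      intro h22
      have hcb : b * c = c * b := by
        have hxi := inv_eq_of_mul_eq_one_right h22
        rw [hx, mul_inv_rev, inv_eq_of_mul_eq_one_right hb, inv_eq_of_mul_eq_one_right hc] at hxi
        exact hxi
      apply hcC
      rw [Subgroup.mem_centralizer_singleton_iff]
      rcases hCmem c hc hc1.1 hc1.2 b hcb with e | e | e | e
      · exact absurd e hb1
      · exact absurd e hbh
      · simp [hx, e, hc]
      · have hxh : x = h := by rw [hx, e, ← mul_assoc, hz c, mul_assoc, hc, mul_one]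
        rw [hxh]; exact (hz w).symm
    rcases hord x with h2 | h6 | h8
    · exact absurd h2 h22
    · exact h6
    · exfalso
      apply hcC
      have hxinv : ∀ n : ℕ, c * x ^ n * c = (x ^ n)⁻¹ := by
        intro n
        have e0 : c * x * c⁻¹ = x⁻¹ := by rw [inv_eq_of_mul_eq_one_right hc]; exact hinv
        have := congrArg (· ^ n) e0
        rw [conj_pow, inv_pow, inv_eq_of_mul_eq_one_right hc] at this
        exact this
      rw [Subgroup.mem_centralizer_singleton_iff]
      by_cases h44 : x ^ 4 = 1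
      · have e : x * x = h := huniq x (x * x) h22 (by rw [← h44, show x ^ 4 = x * x * (x * x) by simp [pow_succ, mul_assoc]]) h22
          (mul_assoc x x x).symm
        exact hfour x hinv e
      · have hy4 : x ^ 4 * x ^ 4 = 1 := by rw [← pow_add]; exact h8
        have e : x ^ 4 = h := huniq x (x ^ 4) h22 hy4 h44 (by rw [← pow_succ', ← pow_succ])
        have e2 : x ^ 2 * x ^ 2 = h := by rw [← pow_add]; exact e
        -- `x` and `w` commute with `x ^ 2`
        exact habel (x ^ 2) x w (by rw [e2]; exact hh) (by rw [← pow_succ', ← pow_succ])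
          (hfour (x ^ 2) (hxinv 2) e2).symm
  -- adjust the sign and conclude
  have hgg : g * g = 1 := hg
  have cube : ∀ c : K, c * c = 1 → (c = a ∨ c = g) → (c * b) ^ 3 = 1 ∨ (c * b) ^ 3 = h := by
    intro c hc hcag
    by_cases h3 : (c * b) ^ 3 = 1
    · exact Or.inl h3
    · refine Or.inr (huniq (c * b) _ ?_ ?_ h3 (by rw [← pow_succ', ← pow_succ]))
      · intro h22
        have h6 := key c hc hcag
        apply h3
        have : (c * b) ^ 3 = c * b := by rw [pow_succ, pow_two, h22, one_mul]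
        have hxi := inv_eq_of_mul_eq_one_right h22
        exfalso
        have hcb : b * c = c * b := by
          rw [mul_inv_rev, inv_eq_of_mul_eq_one_right hb, inv_eq_of_mul_eq_one_right hc] at hxi
          exact hxi
        have hc1 : c ≠ 1 ∧ c ≠ h := by rcases hcag with rfl | rfl <;> exact ⟨‹_›, ‹_›⟩
        apply hab
        rw [Subgroup.mem_centralizer_singleton_iff]
        have hbw : b = c ∨ b = h * c := by
          rcases hCmem c hc hc1.1 hc1.2 b hcb with e | e | e | e
          · exact absurd e hb1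
          · exact absurd e hbh
          · exact Or.inl e
          · exact Or.inr e
        have hgoal : ∀ u : K, (u = 1 ∨ u = h ∨ u = w ∨ u = h * w) → u * w = w * u := by
          rintro u (rfl | rfl | rfl | rfl)
          · simp
          · exact (hz w).symm
          · rfl
          · rw [mul_assoc, ← mul_assoc w h w, hz w, mul_assoc]
        apply hgoal
        rcases hcag with rfl | rfl <;> rcases hbw with rfl | rfl
        · exact Or.inl ha
        · right; left
          rw [← mul_assoc, hz c, mul_assoc, ha, mul_one]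
        · exact Or.inr (Or.inr (Or.inl hw.symm))
        · right; right; right
          rw [← mul_assoc, hz a, mul_assoc, ← hw]
      · rw [← pow_add]; exact key c hc hcag
  have braid : ∀ p q : K, p * p = 1 → q * q = 1 → (p * q) ^ 3 = 1 →
      p * (q * p) = q * (p * q) := by
    intro p q hp hq h3
    have e : p * (q * p) * (q * (p * q)) = 1 := by
      rw [← h3, pow_succ, pow_two]; simp only [mul_assoc]
    rw [mul_eq_one_iff_eq_inv.1 e]
    simp only [mul_inv_rev, inv_eq_of_mul_eq_one_right hp, inv_eq_of_mul_eq_one_right hq, mul_assoc]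
  have hsign : ∀ p q : K, (h * p * q) ^ 3 = h * (p * q) ^ 3 := by
    intro p q
    rw [mul_assoc, (show Commute h (p * q) from (hz _).symm).mul_pow, pow_succ h 2, pow_two, hh2, one_mul]
  have hswap : ∀ p q : K, (p * (h * q)) ^ 3 = h * (p * q) ^ 3 := by
    intro p q
    rw [← mul_assoc, hz p, hsign]
  obtain ⟨b', hb', hab'⟩ : ∃ b' : K, (b' = b ∨ b' = h * b) ∧ (a * b') ^ 3 = 1 := by
    rcases cube a ha (Or.inl rfl) with e | e
    · exact ⟨b, Or.inl rfl, e⟩
    · exact ⟨h * b, Or.inr rfl, by rw [hswap, e, hh2]⟩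
  have hb'2 : b' * b' = 1 := by
    rcases hb' with rfl | rfl
    · exact hb
    · rw [mul_assoc, ← mul_assoc b h b, hz b, mul_assoc, hb, mul_one, hh2]
  have hcube' : (g * b') ^ 3 = 1 ∨ (g * b') ^ 3 = h := by
    rcases hb' with rfl | rfl
    · exact cube g hg (Or.inr rfl)
    · rw [hswap]
      rcases cube g hg (Or.inr rfl) with e | e
      · exact Or.inr (by rw [e, mul_one])
      · exact Or.inl (by rw [e, hh2])
  obtain ⟨g', hg', hgb'⟩ : ∃ g' : K, (g' = g ∨ g' = h * g) ∧ (g' * b') ^ 3 = 1 := by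
    rcases hcube' with e | e
    · exact ⟨g, Or.inl rfl, e⟩
    · exact ⟨h * g, Or.inr rfl, by rw [hsign, e, hh2]⟩
  have hg'2 : g' * g' = 1 := by
    rcases hg' with rfl | rfl
    · exact hg
    · rw [mul_assoc, ← mul_assoc g h g, hz g, mul_assoc, hg, mul_one, hh2]
  have hag' : a * g' = h * (g' * a) := by
    rcases hg' with rfl | rfl
    · exact hga
    · rw [← mul_assoc a h g, hz a, mul_assoc h a g, hga, mul_assoc h g a]
  refine iso_of_rel hK (a := a) (b := b') (g := g') (h := h)
    ⟨ha, hb'2, hg'2, hh2, hz a, hz b', hz g', braid a b' ha hb'2 hab', ?_, hag'⟩ hh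
  exact (braid g' b' hg'2 hb'2 hgb').symm

end Cfsg.Agent.Lib.Characters.LThreeThree.Recog
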