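import Cfsg.Agent.Lib.Characters.LThreeThree.Three
import Cfsg.Agent.S0985

/-!
# A subgroup of index thirteen
-/

set_option autoImplicit false
set_option linter.style.haveILetI false

namespace Cfsg.Agent.Lib.Characters.LThreeThree

open Cfsg Cfsg.Agent.Lib.Characters Cfsg.Agent.Lib.Characters.GLTwoThree
open Cfsg.Agent.Lib.SylowCounting

variable {G : Type*} [Group G] [Finite G] {t : G} [IsSimpleGroup G]

/-- The properties of the odd part of the centraliser. -/
structure Core (x : G) (O : Subgroup G) : Prop where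
  card : Nat.card O = 27
  le : ∀ v ∈ O, Commute v x
  mem : x ∈ O
  all : ∀ g : G, Commute g x → orderOf g ∣ 27 → g ∈ O
  conj : ∀ g : G, (g * x * g⁻¹ = x ∨ g * x * g⁻¹ = x⁻¹) → ∀ v ∈ O, g * v * g⁻¹ ∈ O
  comm : ∀ v ∈ O, ∀ w ∈ O, v * w * v⁻¹ * w⁻¹ ∈ Subgroup.zpowers x
  centre : ∀ v ∈ O, (∀ w ∈ O, Commute w v) → v ∈ Subgroup.zpowers x
  noncomm : ∃ v ∈ O, ∃ w ∈ O, ¬ Commute v w

omit [IsSimpleGroup G] in
/-- The part of a three-group in an involution centraliser has order at most three. -/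
theorem Hyp.inter_three (h : Hyp G t) {O : Subgroup G} (hO : Nat.card O = 27) {s : G} (hs : orderOf s = 2)
    {v w : G} (hv : v ∈ O) (hvs : Commute v s) (hw : w ∈ O) (hws : Commute w s) (hv1 : v ≠ 1) :
    orderOf v = 3 ∧ w ∈ Subgroup.zpowers v := by
  obtain ⟨h'⟩ := h.conj hs
  set D := O ⊓ Subgroup.centralizer ({s} : Set G) with hD
  have hd : Nat.card D ∣ 3 := by
    have h1 : Nat.card D ∣ 27 := hO ▸ Subgroup.card_dvd_of_le inf_le_left
    have h2 : Nat.card D ∣ 48 := h'.card_cent ▸ Subgroup.card_dvd_of_le inf_le_right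
    exact (Nat.dvd_gcd h1 h2).trans (by norm_num)
  have hvD : v ∈ D := ⟨hv, Subgroup.mem_centralizer_singleton_iff.2 hvs.eq⟩
  have hwD : w ∈ D := ⟨hw, Subgroup.mem_centralizer_singleton_iff.2 hws.eq⟩
  have hvo : orderOf v = 3 := ((Nat.dvd_prime Nat.prime_three).1
    ((D.orderOf_dvd_natCard hvD).trans hd)).resolve_left fun e => hv1 (orderOf_eq_one_iff.1 e)
  refine ⟨hvo, ?_⟩
  rw [Subgroup.eq_of_le_of_card_ge (Subgroup.zpowers_le.2 hvD)
    (by rw [Nat.card_zpowers, hvo]; exact Nat.le_of_dvd (by norm_num) hd)]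
  exact hwD

theorem Hyp.core (h : Hyp G t) (hG : Nat.card G = 5616) {x : G} (hx : orderOf x = 3)
    (hxt : x * t = t * x) : ∃ O : Subgroup G, Core x O := by
  classical
  haveI : Fact (Nat.Prime 3) := ⟨Nat.prime_three⟩
  obtain ⟨O, a, -, -, hO, hOC, hxO, hC, hall, hnorm⟩ := h.exists_core hG hx hxt
  rw [h.cent_fifty_four hG hx hxt] at hC
  have ha : 3 ^ a = 27 := by omega
  rw [ha] at hO
  let P : Sylow 3 G := Sylow.ofCard O (by
    rw [hO, hG, show (5616 : ℕ) = 3 ^ 3 * 208 by norm_num,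
      Nat.factorization_mul (by norm_num) (by norm_num), Finsupp.add_apply,
      Nat.Prime.factorization_pow Nat.prime_three, Finsupp.single_eq_same,
      Nat.factorization_eq_zero_of_not_dvd (by norm_num : ¬ 3 ∣ 208)]
    norm_num)
  have hPO : (P : Subgroup G) = O := rfl
  -- the Sylow group is not commutative
  have hnc : ∃ v ∈ O, ∃ w ∈ O, ¬ Commute v w := by
    by_contra hc
    push Not at hc
    have hmod : Nat.card (Sylow 3 G) ≡ 1 [MOD 3 ^ 3] := by
      by_contra hm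
      obtain ⟨Q, R, hQR, hi⟩ := Cfsg.Agent.S0985.result 3 3 hm
      have habel : ∀ S : Sylow 3 G, ∀ v ∈ (S : Subgroup G), ∀ w ∈ (S : Subgroup G), Commute v w := by
        intro S v hv w hw
        obtain ⟨g, hg⟩ := MulAction.exists_smul_eq G S P
        have key : ∀ z ∈ (S : Subgroup G), g * z * g⁻¹ ∈ O := fun z hz => by
          rw [← hPO, ← hg]; exact ⟨z, hz, rfl⟩
        have := (hc _ (key v hv) _ (key w hw)).eq
        show v * w = w * v
        calc v * w = g⁻¹ * (g * v * g⁻¹ * (g * w * g⁻¹)) * g := by group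
          _ = w * v := by rw [this]; group
      have hDc := ((R : Subgroup G).subgroupOf (Q : Subgroup G)).card_mul_index
      rw [h.sylow_three_card hG Q] at hDc
      have h1 : 1 < Nat.card ((R : Subgroup G).subgroupOf (Q : Subgroup G)) := by
        by_contra hle
        push Not at hle
        have := Nat.mul_le_mul hle hi
        rw [hDc] at this
        norm_num at this
      haveI := Finite.one_lt_card_iff_nontrivial.1 h1
      obtain ⟨w, hw⟩ := exists_prime_orderOf_dvd_card' 3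
        (G := ((R : Subgroup G).subgroupOf (Q : Subgroup G))) (by
          obtain ⟨j, hj⟩ := IsPGroup.iff_card.1 (Q.2.to_subgroup ((R : Subgroup G).subgroupOf (Q : Subgroup G)))
          rcases j with - | j
          · omega
          · exact ⟨3 ^ j, by rw [hj, pow_succ, mul_comm]⟩)
      set w' : G := ((w : (Q : Subgroup G)) : G) with hw'
      have hw3 : orderOf w' = 3 := by rw [hw', Subgroup.orderOf_coe, Subgroup.orderOf_coe, hw]
      have hQw : (Q : Subgroup G) ≤ Subgroup.centralizer ({w'} : Set G) := fun v hv =>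
        Subgroup.mem_centralizer_singleton_iff.2 (habel Q v hv _ (w : (Q : Subgroup G)).2).eq
      have hRw : (R : Subgroup G) ≤ Subgroup.centralizer ({w'} : Set G) := fun v hv =>
        Subgroup.mem_centralizer_singleton_iff.2 (habel R v hv _ (Subgroup.mem_subgroupOf.1 w.2)).eq
      apply hQR
      set D := Subgroup.centralizer ({w'} : Set G) with hD
      by_cases h2 : 2 ∣ Nat.card D
      · haveI : Fact (Nat.Prime 2) := ⟨Nat.prime_two⟩
        obtain ⟨⟨s, hs⟩, hso⟩ := exists_prime_orderOf_dvd_card' 2 h2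
        rw [Subgroup.orderOf_mk] at hso
        obtain ⟨h'⟩ := h.conj hso
        have hws : w' * s = s * w' := (Subgroup.mem_centralizer_singleton_iff.1 hs).symm
        obtain ⟨O', a', -, -, hO', -, -, -, hall', -⟩ := h'.exists_core hG hw3 hws
        have hO'27 : Nat.card O' ∣ 27 := by
          rw [← h.sylow_three_card hG Q]
          obtain ⟨S, hS⟩ := (IsPGroup.of_card hO').exists_le_sylow
          rw [h.sylow_three_card hG Q, ← h.sylow_three_card hG S]
          exact Subgroup.card_dvd_of_le hS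
        have hle : ∀ S : Sylow 3 G, (S : Subgroup G) ≤ D → (S : Subgroup G) = O' := fun S hS =>
          Subgroup.eq_of_le_of_card_ge (fun v hv => hall' v (hS hv)
            (h.sylow_three_card hG S ▸ (S : Subgroup G).orderOf_dvd_natCard hv))
            (by rw [h.sylow_three_card hG S]; exact Nat.le_of_dvd (by norm_num) hO'27)
        exact Sylow.ext ((hle Q hQw).trans (hle R hRw).symm)
      · haveI : Fact (Nat.Prime 13) := ⟨by norm_num⟩
        have h13 : ¬ 13 ∣ Nat.card D := fun h13 => by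
          obtain ⟨⟨d, hd⟩, hdo⟩ := exists_prime_orderOf_dvd_card' 13 h13
          rw [Subgroup.orderOf_mk] at hdo
          exact h.no_thirteen hG hw3 hdo (Subgroup.mem_centralizer_singleton_iff.1 hd).symm
        have hD27 : Nat.card D ∣ 27 := by
          have h1 : Nat.card D ∣ 2 ^ 4 * 13 * 27 := by
            rw [show 2 ^ 4 * 13 * 27 = 5616 by norm_num, ← hG]; exact D.card_subgroup_dvd_card
          have hc1 : (Nat.card D).Coprime (2 ^ 4 * 13) := Nat.Coprime.mul_right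
            (Nat.Coprime.pow_right 4 ((Nat.Prime.coprime_iff_not_dvd Nat.prime_two).2 h2).symm)
            ((Nat.Prime.coprime_iff_not_dvd (by norm_num)).2 h13).symm
          exact hc1.dvd_of_dvd_mul_left h1
        have hle : ∀ S : Sylow 3 G, (S : Subgroup G) ≤ D → (S : Subgroup G) = D := fun S hS =>
          Subgroup.eq_of_le_of_card_ge hS
            (by rw [h.sylow_three_card hG S]; exact Nat.le_of_dvd (by norm_num) hD27)
        exact Sylow.ext ((hle Q hQw).trans (hle R hRw).symm)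
    have hmem : Nat.card (Sylow 3 G) ∈ Nat.divisors 208 :=
      Nat.mem_divisors.2 ⟨sylow_count_dvd (p := 3) (k := 3) (m := 208) (by rw [hG]; norm_num) (by norm_num),
        by norm_num⟩
    have hlist : ∀ n ∈ Nat.divisors 208, n % 27 = 1 → n = 1 := by decide +kernel
    exact sylow_count_ne_one (p := 3) (k := 3) (m := 208) (by rw [hG]; norm_num) (by norm_num)
      (by norm_num) (by norm_num) (hlist _ hmem hmod)
  -- the centre
  have hcen : (Subgroup.center O).map O.subtype = Subgroup.zpowers x := by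
    have hxc : Subgroup.zpowers x ≤ (Subgroup.center O).map O.subtype := Subgroup.zpowers_le.2
      ⟨⟨x, hxO⟩, Subgroup.mem_center_iff.2 fun v => Subtype.ext
        (Subgroup.mem_centralizer_singleton_iff.1 (hOC v.2)), rfl⟩
    refine (Subgroup.eq_of_le_of_card_ge hxc ?_).symm
    rw [Subgroup.card_map_of_injective O.subtype_injective, Nat.card_zpowers, hx]
    by_contra hlt
    have h1 := (Subgroup.center O).card_mul_index
    rw [hO] at h1
    have hd : (Subgroup.center O).index ∈ Nat.divisors 27 := Nat.mem_divisors.2 ⟨Dvd.intro_left _ h1, by norm_num⟩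
    rw [show Nat.divisors 27 = {1, 3, 9, 27} by decide +kernel] at hd
    simp only [Finset.mem_insert, Finset.mem_singleton] at hd
    have hcyc : IsCyclic (O ⧸ Subgroup.center O) := by
      rcases hd with e | e | e | e <;> rw [e] at h1
      · haveI : Subsingleton (O ⧸ Subgroup.center O) := (Nat.card_eq_one_iff_unique.1 e).1
        infer_instance
      · exact isCyclic_of_prime_card (p := 3) e
      · omega
      · omega
    obtain ⟨v, hv, w, hw, hvw⟩ := hnc
    have := MonoidHom.isMulCommutative_of_isCyclic_of_ker_le_center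
      (QuotientGroup.mk' (Subgroup.center O)) (by simp)
    exact hvw (congrArg Subtype.val (this.is_comm.comm (⟨v, hv⟩ : O) ⟨w, hw⟩) :)
  refine ⟨O, hO, fun v hv => Subgroup.mem_centralizer_singleton_iff.1 (hOC hv), hxO,
    fun g hg hd => hall g (Subgroup.mem_centralizer_singleton_iff.2 hg.eq) hd, hnorm,
    fun v hv w hw => ?_, fun v hv hc => ?_, hnc⟩
  · have hq : Nat.card (O ⧸ Subgroup.center O) = 3 ^ 2 := by
      have h1 := (Subgroup.center O).card_mul_index
      have h3 : Nat.card (Subgroup.center O) = 3 := by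
        rw [← Subgroup.card_map_of_injective O.subtype_injective, hcen, Nat.card_zpowers, hx]
      rw [h3, hO] at h1
      show (Subgroup.center O).index = 3 ^ 2
      omega
    have hab := IsPGroup.commutative_of_card_eq_prime_sq hq
    rw [← hcen]
    refine ⟨⟨v, hv⟩ * ⟨w, hw⟩ * ⟨v, hv⟩⁻¹ * ⟨w, hw⟩⁻¹, ?_, rfl⟩
    rw [SetLike.mem_coe, ← QuotientGroup.eq_one_iff]
    simp only [QuotientGroup.mk_mul, QuotientGroup.mk_inv]
    rw [hab (QuotientGroup.mk (⟨v, hv⟩ : O)) (QuotientGroup.mk ⟨w, hw⟩)]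
    group
  · rw [← hcen]
    exact ⟨⟨v, hv⟩, Subgroup.mem_center_iff.2 fun w => Subtype.ext (hc w w.2), rfl⟩

omit [Finite G] [IsSimpleGroup G] in
theorem pow_three_inj {y : G} (hy : orderOf y = 3) {x : G} (hy' : y ∉ Subgroup.zpowers x)
    {j l : Fin 3} (h : ∃ i : ℤ, x ^ i = y ^ ((j : ℤ) - l)) : j = l := by
  obtain ⟨i, hi⟩ := h
  by_contra hne
  apply hy'
  have := j.isLt; have := l.isLt
  have hd : (j : ℤ) - l = 1 ∨ (j : ℤ) - l = 2 ∨ (j : ℤ) - l = -1 ∨ (j : ℤ) - l = -2 := by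
    have : (j : ℕ) ≠ l := fun e => hne (Fin.ext e)
    omega
  have h3 : y ^ (3 : ℤ) = 1 := orderOf_dvd_iff_zpow_eq_one.1 (by rw [hy]; norm_num)
  rcases hd with e | e | e | e <;> rw [e] at hi
  · exact ⟨i, by simpa using hi⟩
  · refine ⟨-i, ?_⟩
    show x ^ (-i) = y
    rw [zpow_neg, hi, ← zpow_neg, show (-2 : ℤ) = 1 - 3 by norm_num, zpow_sub, h3, inv_one, mul_one, zpow_one]
  · exact ⟨-i, by show x ^ (-i) = y; rw [zpow_neg, hi, ← zpow_neg]; simp⟩
  · refine ⟨i, ?_⟩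
    show x ^ i = y
    rw [hi, show (-2 : ℤ) = 1 - 3 by norm_num, zpow_sub, h3, inv_one, mul_one, zpow_one]

omit [IsSimpleGroup G] in
/-- Normal forms in a commutative group of order nine. -/
theorem span_nine {E : Subgroup G} (hE : Nat.card E = 9) {x y : G} (hx : orderOf x = 3) (hy : orderOf y = 3)
    (hxE : x ∈ E) (hyE : y ∈ E) (hyx : y ∉ Subgroup.zpowers x) (hc : Commute x y) :
    Function.Bijective (fun p : Fin 3 × Fin 3 => (⟨x ^ (p.1 : ℕ) * y ^ (p.2 : ℕ),
      E.mul_mem (E.pow_mem hxE _) (E.pow_mem hyE _)⟩ : E)) := by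
  refine Function.Injective.bijective_of_nat_card_le ?_ (by rw [hE]; simp)
  rintro ⟨i, j⟩ ⟨k, l⟩ e
  have e' : x ^ (i : ℕ) * y ^ (j : ℕ) = x ^ (k : ℕ) * y ^ (l : ℕ) := congrArg Subtype.val e
  have hjl : j = l := pow_three_inj hy hyx ⟨(k : ℤ) - i, by
    rw [zpow_sub, zpow_sub, zpow_natCast, zpow_natCast, zpow_natCast, zpow_natCast]
    calc x ^ (k : ℕ) * (x ^ (i : ℕ))⁻¹ = (x ^ (i : ℕ))⁻¹ * x ^ (k : ℕ) :=
          ((Commute.refl x).pow_pow _ _).inv_right.eq
      _ = (x ^ (i : ℕ))⁻¹ * (x ^ (i : ℕ) * y ^ (j : ℕ) * (y ^ (l : ℕ))⁻¹) := by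
          rw [e', mul_inv_cancel_right]
      _ = y ^ (j : ℕ) * (y ^ (l : ℕ))⁻¹ := by group⟩
  subst hjl
  have hik : x ^ (i : ℕ) = x ^ (k : ℕ) := mul_right_cancel e'
  rw [pow_eq_pow_iff_modEq, hx] at hik
  refine Prod.ext (Fin.ext ?_) rfl
  show (i : ℕ) = (k : ℕ)
  unfold Nat.ModEq at hik
  rwa [Nat.mod_eq_of_lt i.isLt, Nat.mod_eq_of_lt k.isLt] at hik

omit [Finite G] [IsSimpleGroup G] in
/-- A central commutator generates the coset. -/
theorem orbit_coset {x y k : G} (hx : orderOf x = 3) (hkx : Commute k x)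
    (hc : k * y * k⁻¹ * y⁻¹ ∈ Subgroup.zpowers x) (hne : k * y * k⁻¹ ≠ y) (i : ℕ) :
    ∃ n : ℕ, k ^ n * y * (k ^ n)⁻¹ = x ^ i * y := by
  obtain ⟨a, ha⟩ := hc
  have hk : k * y * k⁻¹ = x ^ a * y := by
    rw [show x ^ a = k * y * k⁻¹ * y⁻¹ from ha, inv_mul_cancel_right]
  have hn : ∀ n : ℕ, k ^ n * y * (k ^ n)⁻¹ = x ^ (a * n) * y := by
    intro n
    induction n with
    | zero => simp
    | succ n ih =>
      have hkn : Commute (k ^ n) (x ^ a) := (hkx.zpow_right a).pow_left n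
      calc k ^ (n + 1) * y * (k ^ (n + 1))⁻¹ = k ^ n * (k * y * k⁻¹) * (k ^ n)⁻¹ := by
            rw [pow_succ, mul_inv_rev]; group
        _ = x ^ a * (k ^ n * y * (k ^ n)⁻¹) := by
            rw [hk, ← mul_assoc, hkn.eq]; group
        _ = x ^ (a * ((n + 1 : ℕ) : ℤ)) * y := by
            rw [ih, ← mul_assoc, ← zpow_add]; congr 2; push_cast; ring
  have ha3 : ¬ (3 : ℤ) ∣ a := fun hd => hne (by
    rw [hk, orderOf_dvd_iff_zpow_eq_one.1 (by rw [hx]; exact_mod_cast hd), one_mul])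
  obtain ⟨n, hn'⟩ : ∃ n : ℕ, (3 : ℤ) ∣ a * n - i := by
    rcases (show a % 3 = 1 ∨ a % 3 = 2 by omega) with e | e
    · exact ⟨i, by have : a * (i : ℤ) - i = (a - 1) * i := (by ring); rw [this]; exact Dvd.dvd.mul_right (by omega) _⟩
    · exact ⟨2 * i, by
        push_cast
        rw [show a * (2 * (i : ℤ)) - i = (2 * a - 1) * i by ring]
        exact Dvd.dvd.mul_right (by omega) _⟩
  refine ⟨n, ?_⟩
  rw [hn, show a * (n : ℤ) = (a * n - i) + i by ring, zpow_add, zpow_natCast,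
    orderOf_dvd_iff_zpow_eq_one.1 (by rw [hx]; exact_mod_cast hn'), one_mul]

/-- The local subgroup. -/
theorem Hyp.exists_local (h : Hyp G t) (hG : Nat.card G = 5616) : ∃ (x : G) (E M : Subgroup G),
    El x ∧ x ∈ E ∧ Nat.card E = 9 ∧ M = Subgroup.normalizer (E : Set G) ∧ Nat.card M = 432 ∧
    (∀ v ∈ E, v ≠ 1 → El v) ∧ (∀ v ∈ E, ∀ w ∈ E, Commute v w) ∧
    (Nat.card {w : G // El w ∧ w ∈ M} = 32 ∨ Nat.card {w : G // El w ∧ w ∈ M} = 80) := by
  classical
  haveI : Fact (Nat.Prime 3) := ⟨Nat.prime_three⟩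
  obtain ⟨x, u, hx, hxt, hu, hut, hut2, hux⟩ := h.exists_pair
  obtain ⟨P, hP⟩ := h.core hG hx hxt
  obtain ⟨ht2, -⟩ := orderOf_two_iff.1 h.inv
  have htx : t * x * t⁻¹ = x := by rw [← hxt, mul_inv_cancel_right]
  have hutx : u * t * x * (u * t)⁻¹ = x⁻¹ := by
    calc u * t * x * (u * t)⁻¹ = u * (t * x * t⁻¹) * u⁻¹ := by group
      _ = x⁻¹ := by rw [htx, hux]
  have htn := hP.conj t (Or.inl htx)
  have hun := hP.conj u (Or.inr hux)
  have hutn := hP.conj (u * t) (Or.inr hutx)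
  have hfixed : ∀ s : G, orderOf s = 2 → (∀ v ∈ P, s * v * s⁻¹ ∈ P) →
      ∃ v ∈ P, v ≠ 1 ∧ s * v * s⁻¹ = v := by
    intro s hs hsn
    refine (fixed_or_inverts hs P hsn).resolve_right fun hi => ?_
    obtain ⟨v, hv, w, hw, hvw⟩ := hP.noncomm
    apply hvw
    have e := hi (v * w) (P.mul_mem hv hw)
    rw [show s * (v * w) * s⁻¹ = s * v * s⁻¹ * (s * w * s⁻¹) by group, hi v hv, hi w hw, ← mul_inv_rev] at e
    exact (inv_injective e).symm
  obtain ⟨y₁, hy₁P, hy₁1, hy₁⟩ := hfixed u hu hun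
  obtain ⟨y₂, hy₂P, hy₂1, hy₂⟩ := hfixed (u * t) hut2 hutn
  have hy₁u : Commute y₁ u := (mul_inv_eq_iff_eq_mul.1 hy₁).symm
  have hy₂u : Commute y₂ (u * t) := (mul_inv_eq_iff_eq_mul.1 hy₂).symm
  have hy₁3 := (h.inter_three hP.card hu hy₁P hy₁u hy₁P hy₁u hy₁1).1
  have hy₂3 := (h.inter_three hP.card hut2 hy₂P hy₂u hy₂P hy₂u hy₂1).1
  have hinvne : ∀ {w : G}, orderOf w = 3 → w⁻¹ ≠ w := fun {w} hw e => by
    have : orderOf w ∣ 2 := orderOf_dvd_iff_pow_eq_one.2 (by rw [sq]; exact eq_inv_iff_mul_eq_one.1 e.symm)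
    rw [hw] at this; norm_num at this
  -- not in the centre
  have hnotx : ∀ s y : G, s * x * s⁻¹ = x⁻¹ → orderOf y = 3 → s * y * s⁻¹ = y → y ∉ Subgroup.zpowers x := by
    rintro s y hsx hy3 hsy ⟨i, rfl⟩
    rw [← MulAut.conj_apply, map_zpow, MulAut.conj_apply, hsx, inv_zpow] at hsy
    exact hinvne hy3 hsy
  have hy₁x := hnotx u y₁ hux hy₁3 hy₁
  have hy₂x := hnotx (u * t) y₂ hutx hy₂3 hy₂
  -- t inverts
  have htinv : ∀ s y : G, orderOf s = 2 → s * t = t * s → y ∈ P → orderOf y = 3 → Commute y s →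
      y ∉ Subgroup.zpowers x → t * y * t⁻¹ = y⁻¹ := by
    intro s y hs hst hy hy3 hys hyx
    have hs' : Commute (t * y * t⁻¹) s := by
      show t * y * t⁻¹ * s = s * (t * y * t⁻¹)
      calc t * y * t⁻¹ * s = t * y * (t⁻¹ * s * t) * t⁻¹ := by group
        _ = t * (y * s) * t⁻¹ := by rw [show t⁻¹ * s * t = s by rw [mul_assoc, hst, inv_mul_cancel_left]]; group
        _ = (t * s * t⁻¹) * (t * y * t⁻¹) := by rw [hys.eq]; group
        _ = s * (t * y * t⁻¹) := by rw [← hst, mul_inv_cancel_right]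
    obtain ⟨i, hi⟩ := (h.inter_three hP.card hs hy hys (htn y hy) hs' (fun e => hyx (e ▸ one_mem _))).2
    have hi' : t * y * t⁻¹ = y ^ i := hi.symm
    rw [← zpow_mod_orderOf, hy3] at hi'
    rcases (show i % 3 = 0 ∨ i % 3 = 1 ∨ i % 3 = 2 by omega) with e3 | e3 | e3 <;>
      simp only [Nat.cast_ofNat, e3, zpow_zero, zpow_one] at hi'
    · exact absurd (conj_eq_one_iff.1 hi') (fun e => hyx (e ▸ one_mem _))
    · exact absurd (h.inter_three hP.card h.inv hP.mem hxt hy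
        (mul_inv_eq_iff_eq_mul.1 hi').symm (fun e => by rw [e, orderOf_one] at hx; norm_num at hx)).2 hyx
    · rw [hi', zpow_two, eq_inv_iff_mul_eq_one, ← pow_three', ← hy3, pow_orderOf_eq_one]
  have hty₁ := htinv u y₁ hu hut hy₁P hy₁3 hy₁u hy₁x
  have hty₂ := htinv (u * t) y₂ hut2 (by rw [mul_assoc, ← mul_assoc t u t, ← hut, mul_assoc u t t]) hy₂P
    hy₂3 hy₂u hy₂x
  have huy₂ : u * y₂ * u⁻¹ = y₂⁻¹ := by
    calc u * y₂ * u⁻¹ = (u * t) * (t⁻¹ * y₂ * t) * (u * t)⁻¹ := by group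
      _ = y₂⁻¹ := by
        rw [show t⁻¹ * y₂ * t = y₂⁻¹ by rw [← hty₂, inv_eq_self_of_orderOf_two h.inv],
          show u * t * y₂⁻¹ * (u * t)⁻¹ = (u * t * y₂ * (u * t)⁻¹)⁻¹ by group, hy₂]
  have hel₁ : El y₁ := ⟨hy₁3, u, hu, hy₁u.symm⟩
  have hel₂ : El y₂ := ⟨hy₂3, u * t, hut2, hy₂u.symm⟩
  have helx : El x := ⟨hx, t, h.inv, hxt.symm⟩
  -- moving elements
  have hmove : ∀ y ∈ P, y ∉ Subgroup.zpowers x → ∃ k ∈ P, k * y * k⁻¹ ≠ y := by
    intro y hy hyx
    by_contra hc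
    push Not at hc
    exact hyx (hP.centre y hy fun w hw => mul_inv_eq_iff_eq_mul.1 (hc w hw))
  have hcoset : ∀ y ∈ P, y ∉ Subgroup.zpowers x → ∀ i : ℕ, ∃ k ∈ P, k * y * k⁻¹ = x ^ i * y := by
    intro y hy hyx i
    obtain ⟨k, hk, hne⟩ := hmove y hy hyx
    obtain ⟨n, hn⟩ := orbit_coset hx (hP.le k hk) (hP.comm k hk y hy) hne i
    exact ⟨k ^ n, P.pow_mem hk n, hn⟩
  -- the elementary subgroup
  set E := Subgroup.closure ({x, y₁} : Set G) with hEdef
  have hxE : x ∈ E := Subgroup.subset_closure (Set.mem_insert _ _)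
  have hyE : y₁ ∈ E := Subgroup.subset_closure (Set.mem_insert_of_mem _ rfl)
  have hEP : E ≤ P := (Subgroup.closure_le _).2 (by
    rintro v (rfl | rfl)
    exacts [hP.mem, hy₁P])
  have hxy : Commute x y₁ := (hP.le y₁ hy₁P).symm
  have hEcomm : ∀ v ∈ E, ∀ w ∈ E, Commute v w := by
    have hC : E ≤ Subgroup.centralizer (E : Set G) := by
      rw [hEdef, Subgroup.centralizer_closure, Subgroup.closure_le]
      rintro v hv
      rw [SetLike.mem_coe, Subgroup.mem_centralizer_iff]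
      rintro w hw
      rcases hv with rfl | rfl <;> rcases hw with rfl | rfl
      exacts [rfl, hxy.symm.eq, hxy.eq, rfl]
    exact fun v hv w hw => (Subgroup.mem_centralizer_iff.1 (hC hv) w hw).symm
  have hE : Nat.card E = 9 := by
    have h1 : Nat.card E ∈ Nat.divisors 27 := Nat.mem_divisors.2 ⟨hP.card ▸ Subgroup.card_dvd_of_le hEP, by norm_num⟩
    have h3 : 3 < Nat.card E := by
      by_contra hle
      push Not at hle
      have he : Subgroup.zpowers x = E := Subgroup.eq_of_le_of_card_ge (Subgroup.zpowers_le.2 hxE)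
        (by rw [Nat.card_zpowers, hx]; exact hle)
      exact hy₁x (he.ge hyE)
    have h27 : Nat.card E ≠ 27 := fun e => by
      have he : E = P := Subgroup.eq_of_le_of_card_ge hEP (by rw [e, hP.card])
      obtain ⟨v, hv, w, hw, hvw⟩ := hP.noncomm
      exact hvw (hEcomm v (he.ge hv) w (he.ge hw))
    rw [show Nat.divisors 27 = {1, 3, 9, 27} by decide +kernel] at h1
    simp only [Finset.mem_insert, Finset.mem_singleton] at h1
    omega
  have hspan := span_nine hE hx hy₁3 hxE hyE hy₁x hxy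
  have hform : ∀ v ∈ E, ∃ i j : Fin 3, v = x ^ (i : ℕ) * y₁ ^ (j : ℕ) := fun v hv => by
    obtain ⟨⟨i, j⟩, e⟩ := hspan.2 ⟨v, hv⟩
    exact ⟨i, j, (congrArg Subtype.val e).symm⟩
  have hp2 : ∀ {w : G}, orderOf w = 3 → w ^ 2 = w⁻¹ := fun hw => by
    rw [eq_inv_iff_mul_eq_one, ← pow_succ, show 2 + 1 = orderOf _ from hw.symm, pow_orderOf_eq_one]
  have hpowne : ∀ (y : G), y ∉ Subgroup.zpowers x → orderOf y = 3 → ∀ j : Fin 3, j ≠ 0 →
      y ^ (j : ℕ) ∉ Subgroup.zpowers x ∧ (El y → El (y ^ (j : ℕ))) := by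
    intro y hy hy3 j hj
    fin_cases j
    · exact absurd rfl hj
    · exact ⟨by simpa using hy, fun he => by simpa using he⟩
    · show y ^ 2 ∉ _ ∧ (_ → El (y ^ 2))
      rw [hp2 hy3]
      exact ⟨fun hm => hy (by simpa using Subgroup.inv_mem _ hm), fun he => he.inv⟩
  have hEel : ∀ v ∈ E, v ≠ 1 → El v := by
    intro v hv hv1
    obtain ⟨i, j, rfl⟩ := hform v hv
    by_cases hj : j = 0
    · subst hj
      fin_cases i
      · exact absurd (by simp) hv1
      · simpa using helx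
      · simpa [hp2 hx] using helx.inv
    · obtain ⟨hnx, hjel⟩ := hpowne y₁ hy₁x hy₁3 j hj
      obtain ⟨k, -, hk⟩ := hcoset _ (P.pow_mem hy₁P _) hnx (i : ℕ)
      rw [← hk]
      exact (hjel hel₁).conj k
  -- normalising E
  set M := Subgroup.normalizer (E : Set G) with hM
  have hnormE : ∀ g : G, g * x * g⁻¹ ∈ E → g * y₁ * g⁻¹ ∈ E → g ∈ M := by
    intro g h1 h2
    rw [hM, Subgroup.mem_normalizer_iff]
    have hsub : E.map (MulAut.conj g).toMonoidHom ≤ E := by
      rw [hEdef, MonoidHom.map_closure, Subgroup.closure_le]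
      rintro _ ⟨v, hv, rfl⟩
      rcases hv with rfl | rfl
      exacts [h1, h2]
    have heq : E.map (MulAut.conj g).toMonoidHom = E := Subgroup.eq_of_le_of_card_ge hsub
      (le_of_eq (Subgroup.card_map_of_injective (MulAut.conj g).injective).symm)
    intro v
    constructor
    · intro hv; rw [← heq]; exact ⟨v, hv, rfl⟩
    · intro hv
      rw [← heq] at hv
      obtain ⟨w, hw, e⟩ := hv
      have : w = v := (MulAut.conj g).injective e
      rwa [← this]
  have hPM : P ≤ M := fun k hk => by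
    refine hnormE k (by rw [(hP.le k hk).eq, mul_inv_cancel_right]; exact hxE) ?_
    rw [show k * y₁ * k⁻¹ = k * y₁ * k⁻¹ * y₁⁻¹ * y₁ by group]
    exact E.mul_mem (Subgroup.zpowers_le.2 hxE (hP.comm k hk y₁ hy₁P)) hyE
  have htM : t ∈ M := hnormE t (by rw [htx]; exact hxE) (by rw [hty₁]; exact E.inv_mem hyE)
  have huM : u ∈ M := hnormE u (by rw [hux]; exact E.inv_mem hxE) (by rw [hy₁]; exact hyE)
  set C := Subgroup.centralizer ({x} : Set G) with hC
  have hC54 := h.cent_fifty_four hG hx hxt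
  have hCM : C ≤ M := by
    have htC : t ∈ C := Subgroup.mem_centralizer_singleton_iff.2 hxt.symm
    have hPC : P ≤ C := fun v hv => Subgroup.mem_centralizer_singleton_iff.2 (hP.le v hv).eq
    have h54 : Nat.card C ∣ Nat.card (P ⊔ Subgroup.zpowers t : Subgroup G) := by
      rw [hC54]
      refine Nat.Coprime.mul_dvd_of_dvd_of_dvd (by norm_num : Nat.Coprime 27 2) ?_ ?_
      · exact hP.card ▸ Subgroup.card_dvd_of_le le_sup_left
      · exact h.inv ▸ Nat.card_zpowers t ▸ Subgroup.card_dvd_of_le le_sup_right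
    rw [← Subgroup.eq_of_le_of_card_ge (sup_le hPC (Subgroup.zpowers_le.2 htC))
      (Nat.le_of_dvd Nat.card_pos h54)]
    exact sup_le hPM (Subgroup.zpowers_le.2 htM)
  -- the second Sylow group
  obtain ⟨h'⟩ := h.conj hu
  obtain ⟨P', hP'⟩ := h'.core hG hy₁3 hy₁u.eq
  have hxP' : x ∈ P' := hP'.all x hxy (by rw [hx]; norm_num)
  have hP'M : P' ≤ M := fun k hk => by
    refine hnormE k ?_ (by rw [(hP'.le k hk).eq, mul_inv_cancel_right]; exact hyE)
    rw [show k * x * k⁻¹ = k * x * k⁻¹ * x⁻¹ * x by group]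
    exact E.mul_mem (Subgroup.zpowers_le.2 hyE (hP'.comm k hk x hxP')) hxE
  have hxy' : x ∉ Subgroup.zpowers y₁ := fun hm => by
    have he : Subgroup.zpowers x = Subgroup.zpowers y₁ := Subgroup.eq_of_le_of_card_ge
      (Subgroup.zpowers_le.2 hm) (by rw [Nat.card_zpowers, Nat.card_zpowers, hx, hy₁3])
    exact hy₁x (he.ge (Subgroup.mem_zpowers _))
  have hcoset' : ∀ j : ℕ, ∃ k ∈ M, k * x * k⁻¹ = y₁ ^ j * x := by
    intro j
    obtain ⟨k, hk, hne⟩ : ∃ k ∈ P', k * x * k⁻¹ ≠ x := by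
      by_contra hc
      push Not at hc
      exact hxy' (hP'.centre x hxP' fun w hw => mul_inv_eq_iff_eq_mul.1 (hc w hw))
    obtain ⟨n, hn⟩ := orbit_coset hy₁3 (hP'.le k hk) (hP'.comm k hk x hxP') hne j
    exact ⟨k ^ n, hP'M (P'.pow_mem hk n), hn⟩
  have horbit : ∀ v ∈ E, v ≠ 1 → ∃ g ∈ M, g * x * g⁻¹ = v := by
    intro v hv hv1
    obtain ⟨i, j, rfl⟩ := hform v hv
    -- every element with exponent one
    have h1 : ∀ j : ℕ, ∃ g ∈ M, g * x * g⁻¹ = x * y₁ ^ j := fun j => by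
      obtain ⟨g, hg, e⟩ := hcoset' j
      exact ⟨g, hg, e.trans (hxy.pow_right j).eq.symm⟩
    fin_cases i
    · by_cases hj : j = 0
      · subst hj; exact absurd (by simp) hv1
      · obtain ⟨g, hg, e⟩ := h1 (j : ℕ)
        obtain ⟨hnx, -⟩ := hpowne y₁ hy₁x hy₁3 j hj
        obtain ⟨k, hk, e'⟩ := hcoset _ (P.pow_mem hy₁P (j : ℕ)) hnx 1
        refine ⟨k⁻¹ * g, M.mul_mem (M.inv_mem (hPM hk)) hg, ?_⟩
        rw [pow_one] at e'
        simp only [pow_zero, one_mul]
        rw [show k⁻¹ * g * x * (k⁻¹ * g)⁻¹ = k⁻¹ * (g * x * g⁻¹) * k by group, e, ← e']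
        group
    · obtain ⟨g, hg, e⟩ := h1 (j : ℕ)
      exact ⟨g, hg, by simpa using e⟩
    · obtain ⟨g, hg, e⟩ := h1 (j : ℕ)
      refine ⟨u * g, M.mul_mem huM hg, ?_⟩
      simp only [hp2 hx]
      rw [show u * g * x * (u * g)⁻¹ = u * (g * x * g⁻¹) * u⁻¹ by group, e,
        show u * (x * y₁ ^ (j : ℕ)) * u⁻¹ = (u * x * u⁻¹) * (u * y₁ ^ (j : ℕ) * u⁻¹) by group, hux,
        ← MulAut.conj_apply, map_pow, MulAut.conj_apply, hy₁]
  have hM432 : Nat.card M = 432 := by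
    let sec : {v : E // v ≠ 1} → G := fun v =>
      Classical.choose (horbit v.1 v.1.2 (fun e => v.2 (Subtype.ext e)))
    have hsec : ∀ v, sec v ∈ M ∧ sec v * x * (sec v)⁻¹ = (v.1 : G) := fun v =>
      Classical.choose_spec (horbit v.1 v.1.2 (fun e => v.2 (Subtype.ext e)))
    have hbij : Function.Bijective (fun p : {v : E // v ≠ 1} × C =>
        (⟨sec p.1 * (p.2 : G), M.mul_mem (hsec p.1).1 (hCM p.2.2)⟩ : M)) := by
      constructor
      · rintro ⟨v, c⟩ ⟨w, d⟩ e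
        have e' : sec v * (c : G) = sec w * (d : G) := congrArg Subtype.val e
        have key : ∀ (v : {v : E // v ≠ 1}) (c : C), sec v * (c : G) * x * (sec v * (c : G))⁻¹ = (v.1 : G) := by
          intro v c
          rw [show sec v * (c : G) * x * (sec v * (c : G))⁻¹ = sec v * ((c : G) * x * (c : G)⁻¹) * (sec v)⁻¹ by
            group, Subgroup.mem_centralizer_singleton_iff.1 c.2, mul_inv_cancel_right, (hsec v).2]
        obtain rfl : v = w := Subtype.ext (Subtype.ext (by rw [← key v c, ← key w d, e']))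
        exact Prod.ext rfl (Subtype.ext (mul_left_cancel e'))
      · intro g
        have hgE : (g : G) * x * (g : G)⁻¹ ∈ E := (Subgroup.mem_normalizer_iff.1 g.2 x).1 hxE
        have hne : (⟨_, hgE⟩ : E) ≠ 1 := fun e => by
          have e1 : (g : G) * x * (g : G)⁻¹ = 1 := congrArg Subtype.val e
          rw [conj_eq_one_iff] at e1
          rw [e1, orderOf_one] at hx; norm_num at hx
        set v : {v : E // v ≠ 1} := ⟨⟨_, hgE⟩, hne⟩
        refine ⟨(v, ⟨(sec v)⁻¹ * g, Subgroup.mem_centralizer_singleton_iff.2 ?_⟩),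
          Subtype.ext (mul_inv_cancel_left _ _)⟩
        have e := (hsec v).2
        have e' : sec v * x * (sec v)⁻¹ = (g : G) * x * (g : G)⁻¹ := e
        calc (sec v)⁻¹ * (g : G) * x = (sec v)⁻¹ * ((g : G) * x * (g : G)⁻¹) * g := by group
          _ = x * ((sec v)⁻¹ * g) := by rw [← e']; group
    rw [← Nat.card_congr (Equiv.ofBijective _ hbij), Nat.card_prod, hC54]
    haveI := Fintype.ofFinite E
    rw [Nat.card_eq_fintype_card, Fintype.card_subtype_compl, Fintype.card_subtype_eq,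
      ← Nat.card_eq_fintype_card, hE]
  refine ⟨x, E, M, helx, hxE, hE, rfl, hM432, hEel, hEcomm, ?_⟩
  -- the Sylow groups of M
  let PM : Sylow 3 M := Sylow.ofCard (P.subgroupOf M) (by
    rw [Nat.card_congr (Subgroup.subgroupOfEquivOfLe hPM).toEquiv, hP.card, hM432,
      show (432 : ℕ) = 3 ^ 3 * 16 by norm_num, Nat.factorization_mul (by norm_num) (by norm_num),
      Finsupp.add_apply, Nat.Prime.factorization_pow Nat.prime_three, Finsupp.single_eq_same,
      Nat.factorization_eq_zero_of_not_dvd (by norm_num : ¬ 3 ∣ 16)]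
    norm_num)
  have hn3 : Nat.card (Sylow 3 M) = 4 := by
    have hmem := sylow_count_dvd (G := M) (p := 3) (k := 3) (m := 16) (by rw [hM432]; norm_num) (by norm_num)
    have hlist : ∀ n ∈ Nat.divisors 16, n % 3 = 1 → n ∈ ({1, 4, 16} : Finset ℕ) := by decide +kernel
    have hn := hlist _ (Nat.mem_divisors.2 ⟨hmem, by norm_num⟩) (sylow_count_mod 3)
    simp only [Finset.mem_insert, Finset.mem_singleton] at hn
    rcases hn with e | e | e
    · exfalso
      haveI := (Nat.card_eq_one_iff_unique.1 e).1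
      obtain ⟨g, hg, hgx⟩ := horbit y₁ hyE hy₁1
      have hnorm : ∀ v ∈ P, g * v * g⁻¹ ∈ P := by
        intro v hv
        have hsm : (⟨g, hg⟩ : M) • PM = PM := Subsingleton.elim _ _
        have := (Subgroup.mem_normalizer_iff.1 (Sylow.smul_eq_iff_mem_normalizer.1 hsm) ⟨v, hPM hv⟩).1 hv
        exact this
      refine hy₁x (hP.centre y₁ hy₁P fun w hw => ?_)
      have hmap : P.map (MulAut.conj g).toMonoidHom = P := Subgroup.eq_of_le_of_card_ge
        (by rintro _ ⟨v, hv, rfl⟩; exact hnorm v hv)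
        (le_of_eq (Subgroup.card_map_of_injective (MulAut.conj g).injective).symm)
      rw [← hmap] at hw
      obtain ⟨v, hv, rfl⟩ := hw
      rw [← hgx]
      show g * v * g⁻¹ * (g * x * g⁻¹) = g * x * g⁻¹ * (g * v * g⁻¹)
      rw [show g * v * g⁻¹ * (g * x * g⁻¹) = g * (v * x) * g⁻¹ by group, (hP.le v hv).eq]
      group
    · exact e
    · exfalso
      have hi := Sylow.card_eq_index_normalizer PM
      rw [e, ← PM.coe_coe] at hi
      have hc := Subgroup.card_mul_index (Subgroup.normalizer ((PM : Subgroup M) : Set M))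
      rw [← hi, hM432] at hc
      have htm : (⟨t, htM⟩ : M) ∈ Subgroup.normalizer ((PM : Subgroup M) : Set M) := by
        rw [Subgroup.mem_normalizer_iff]
        intro v
        show (v : G) ∈ P ↔ t * (v : G) * t⁻¹ ∈ P
        refine ⟨htn _, fun hv => ?_⟩
        have := htn _ hv
        rwa [inv_eq_self_of_orderOf_two h.inv, show t * (t * (v : G) * t) * t = (t * t) * (v : G) * (t * t) by
          group, ht2, one_mul, mul_one] at this
      have := (Subgroup.normalizer ((PM : Subgroup M) : Set M)).orderOf_dvd_natCard htm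
      rw [← Subgroup.orderOf_coe, h.inv] at this
      omega
  -- every Sylow group contains E
  haveI hEn : (E.subgroupOf M).Normal := Subgroup.normal_subgroupOf_iff_le_normalizer
    (Subgroup.le_normalizer) |>.2 le_rfl
  have hEQ : ∀ Q : Sylow 3 M, E.subgroupOf M ≤ Q := by
    intro Q
    obtain ⟨g, hg⟩ := MulAction.exists_smul_eq M PM Q
    intro v hv
    rw [← hg]
    exact ⟨g⁻¹ * v * g, hEP (by simpa [Subgroup.mem_subgroupOf] using hEn.conj_mem v hv g⁻¹ : ((g⁻¹ * v * g : M) : G) ∈ E),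
      by show g * (g⁻¹ * v * g) * g⁻¹ = v; group⟩
  have hQcard : ∀ Q : Sylow 3 M, Nat.card (Q : Subgroup M) = 27 := fun Q => by
    simpa using sylow_card (p := 3) (k := 3) (m := 16) (by rw [hM432]; norm_num) (by norm_num) Q
  have hEM9 : Nat.card (E.subgroupOf M) = 9 := by
    rw [Nat.card_congr (Subgroup.subgroupOfEquivOfLe Subgroup.le_normalizer).toEquiv, hE]
  have hinter : ∀ Q R : Sylow 3 M, Q ≠ R → ∀ v : M, v ∈ (Q : Subgroup M) → v ∈ (R : Subgroup M) →
      v ∈ E.subgroupOf M := by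
    intro Q R hne v hvQ hvR
    have hd := Subgroup.card_dvd_of_le (inf_le_left : (Q : Subgroup M) ⊓ R ≤ Q)
    rw [hQcard] at hd
    have hne27 : Nat.card ((Q : Subgroup M) ⊓ R : Subgroup M) ≠ 27 := fun e => hne (Sylow.ext (by
      have e1 : (Q : Subgroup M) ⊓ R = Q := Subgroup.eq_of_le_of_card_ge inf_le_left (by rw [e, hQcard])
      exact Subgroup.eq_of_le_of_card_ge (inf_eq_left.1 e1) (by rw [hQcard, hQcard])))
    have h9 := Subgroup.card_le_of_le (le_inf (hEQ Q) (hEQ R))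
    rw [hEM9] at h9
    have hd' : Nat.card ((Q : Subgroup M) ⊓ R : Subgroup M) ∈ Nat.divisors 27 :=
      Nat.mem_divisors.2 ⟨hd, by norm_num⟩
    rw [show Nat.divisors 27 = {1, 3, 9, 27} by decide +kernel] at hd'
    simp only [Finset.mem_insert, Finset.mem_singleton] at hd'
    rw [Subgroup.eq_of_le_of_card_ge (le_inf (hEQ Q) (hEQ R)) (by rw [hEM9]; omega)]
    exact ⟨hvQ, hvR⟩
  -- the three-elements of M lie in its Sylow groups
  have hcov : ∀ w : M, El (w : G) → ∃ Q : Sylow 3 M, w ∈ (Q : Subgroup M) := by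
    intro w hw
    obtain ⟨Q, hQ⟩ := (IsPGroup.of_card (p := 3) (n := 1) (G := Subgroup.zpowers w)
      (by rw [Nat.card_zpowers, ← Subgroup.orderOf_coe, hw.1, pow_one])).exists_le_sylow
    exact ⟨Q, hQ (Subgroup.mem_zpowers w)⟩
  let A := {w : G // El w ∧ w ∈ E}
  let B := fun Q : Sylow 3 M => {w : M // El (w : G) ∧ w ∈ (Q : Subgroup M) ∧ (w : G) ∉ E}
  let F : A ⊕ (Σ Q : Sylow 3 M, B Q) → {w : G // El w ∧ w ∈ M} := fun a =>
    Sum.elim (fun a => ⟨a.1, a.2.1, Subgroup.le_normalizer a.2.2⟩)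
      (fun b => ⟨(b.2.1 : G), b.2.2.1, b.2.1.2⟩) a
  have hF : Function.Bijective F := by
    constructor
    · rintro (⟨a, ha⟩ | ⟨Q, ⟨w, hw⟩⟩) (⟨a', ha'⟩ | ⟨R, ⟨w', hw'⟩⟩) e
      · exact congrArg Sum.inl (Subtype.ext (congrArg Subtype.val e :))
      · exact absurd (show (w' : G) ∈ E from (congrArg Subtype.val e : a = (w' : G)) ▸ ha.2) hw'.2.2
      · exact absurd (show (w : G) ∈ E from (congrArg Subtype.val e : (w : G) = a').symm ▸ ha'.2) hw.2.2
      · obtain rfl : w = w' := Subtype.ext (congrArg Subtype.val e :)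
        obtain rfl : Q = R := by
          by_contra hne
          exact hw.2.2 (hinter Q R hne w hw.2.1 hw'.2.1)
        rfl
    · rintro ⟨w, hw, hwM⟩
      by_cases hwE : w ∈ E
      · exact ⟨Sum.inl ⟨w, hw, hwE⟩, rfl⟩
      · obtain ⟨Q, hQ⟩ := hcov ⟨w, hwM⟩ hw
        exact ⟨Sum.inr ⟨Q, ⟨⟨w, hwM⟩, hw, hQ, hwE⟩⟩, rfl⟩
  have hA : Nat.card A = 8 := by
    have e : A ≃ {v : E // v ≠ 1} :=
      { toFun := fun a => ⟨⟨a.1, a.2.2⟩, fun e => by
          have := a.2.1.1
          rw [show a.1 = 1 from congrArg Subtype.val e, orderOf_one] at this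
          norm_num at this⟩
        invFun := fun v => ⟨v.1.1, hEel _ v.1.2 (fun e => v.2 (Subtype.ext e)), v.1.2⟩
        left_inv := fun _ => rfl
        right_inv := fun _ => rfl }
    haveI := Fintype.ofFinite E
    rw [Nat.card_congr e, Nat.card_eq_fintype_card, Fintype.card_subtype_compl, Fintype.card_subtype_eq,
      ← Nat.card_eq_fintype_card, hE]
  have hBeq : ∀ Q : Sylow 3 M, Nat.card (B Q) = Nat.card (B PM) := by
    intro Q
    obtain ⟨g, rfl⟩ := MulAction.exists_smul_eq M PM Q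
    refine (Nat.card_congr (Equiv.subtypeEquiv (MulAut.conj g).toEquiv fun w => ?_)).symm
    have hconj : ∀ v : G, v ∈ E ↔ (g : G) * v * (g : G)⁻¹ ∈ E := Subgroup.mem_normalizer_iff.1 g.2
    constructor
    · rintro ⟨h1, h2, h3⟩
      exact ⟨h1.conj g, ⟨w, h2, rfl⟩, fun h' => h3 ((hconj _).2 h')⟩
    · rintro ⟨h1, ⟨v, hv, e⟩, h3⟩
      obtain rfl : v = w := (MulAut.conj g).injective e
      refine ⟨?_, hv, fun h' => h3 ((hconj _).1 h')⟩
      have h1' := (show El ((g : G) * (v : G) * (g : G)⁻¹) from h1).conj ((g : G)⁻¹)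
      simpa [mul_assoc] using h1'
  -- the elements of P outside E
  let f : Fin 3 × Fin 3 × Fin 3 → P := fun p =>
    ⟨x ^ (p.1 : ℕ) * y₁ ^ (p.2.1 : ℕ) * y₂ ^ (p.2.2 : ℕ),
      P.mul_mem (P.mul_mem (P.pow_mem hP.mem _) (P.pow_mem hy₁P _)) (P.pow_mem hy₂P _)⟩
  have hy₂E : y₂ ∉ E := by
    intro hm
    obtain ⟨i, j, e⟩ := hform y₂ hm
    have h1 : u * y₂ * u⁻¹ = (x ^ (i : ℕ))⁻¹ * y₁ ^ (j : ℕ) := by
      rw [e, show u * (x ^ (i : ℕ) * y₁ ^ (j : ℕ)) * u⁻¹ =
        (u * x ^ (i : ℕ) * u⁻¹) * (u * y₁ ^ (j : ℕ) * u⁻¹) by group, ← MulAut.conj_apply,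
        ← MulAut.conj_apply, map_pow, map_pow, MulAut.conj_apply, MulAut.conj_apply, hux, hy₁, inv_pow]
    rw [huy₂, e, mul_inv_rev, ((hxy.pow_pow _ _).inv_inv.symm).eq] at h1
    have h2 : (y₁ ^ (j : ℕ))⁻¹ = y₁ ^ (j : ℕ) := mul_left_cancel h1
    by_cases hj : j = 0
    · subst hj
      rw [Fin.val_zero, pow_zero, mul_one] at e
      exact hy₂x (e ▸ Subgroup.npow_mem_zpowers _ _)
    · exact hinvne (((hpowne y₁ hy₁x hy₁3 j hj).2 hel₁).1) h2
  have hpowE : ∀ k : Fin 3, k ≠ 0 → y₂ ^ (k : ℕ) ∉ E := by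
    intro k hk
    fin_cases k
    · exact absurd rfl hk
    · simpa using hy₂E
    · show y₂ ^ 2 ∉ E
      rw [hp2 hy₂3]
      exact fun hm => hy₂E (by simpa using E.inv_mem hm)
  have hf : Function.Bijective f := by
    refine Function.Injective.bijective_of_nat_card_le ?_ (by rw [hP.card]; simp)
    rintro ⟨i, j, k⟩ ⟨i', j', k'⟩ e
    have e' : x ^ (i : ℕ) * y₁ ^ (j : ℕ) * y₂ ^ (k : ℕ) = x ^ (i' : ℕ) * y₁ ^ (j' : ℕ) * y₂ ^ (k' : ℕ) :=
      congrArg Subtype.val e
    have hm : y₂ ^ ((k : ℤ) - k') ∈ E := by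
      have : y₂ ^ (k : ℕ) * (y₂ ^ (k' : ℕ))⁻¹ =
          (x ^ (i : ℕ) * y₁ ^ (j : ℕ))⁻¹ * (x ^ (i' : ℕ) * y₁ ^ (j' : ℕ)) := by
        calc y₂ ^ (k : ℕ) * (y₂ ^ (k' : ℕ))⁻¹ = (x ^ (i : ℕ) * y₁ ^ (j : ℕ))⁻¹ *
            (x ^ (i : ℕ) * y₁ ^ (j : ℕ) * y₂ ^ (k : ℕ)) * (y₂ ^ (k' : ℕ))⁻¹ := by group
          _ = _ := by rw [e']; group
      rw [zpow_sub, zpow_natCast, zpow_natCast, this]
      exact E.mul_mem (E.inv_mem (E.mul_mem (E.pow_mem hxE _) (E.pow_mem hyE _)))
        (E.mul_mem (E.pow_mem hxE _) (E.pow_mem hyE _))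
    have hk : k = k' := by
      have h3 : y₂ ^ (3 : ℤ) = 1 := orderOf_dvd_iff_zpow_eq_one.1 (by rw [hy₂3]; norm_num)
      by_contra hne
      apply hy₂E
      have := k.isLt; have := k'.isLt
      have : (k : ℕ) ≠ k' := fun e => hne (Fin.ext e)
      rcases (show (k : ℤ) - k' = 1 ∨ (k : ℤ) - k' = -1 ∨ (k : ℤ) - k' = 2 ∨ (k : ℤ) - k' = -2 by omega)
        with e | e | e | e <;> rw [e] at hm
      · simpa using hm
      · simpa using hm
      · have := E.inv_mem hm
        rwa [← zpow_neg, show (-(2 : ℤ)) = 1 - 3 by norm_num, zpow_sub, h3, inv_one, mul_one, zpow_one] at this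
      · rwa [show (-2 : ℤ) = 1 - 3 by norm_num, zpow_sub, h3, inv_one, mul_one, zpow_one] at hm
    subst hk
    have hij := hspan.1 (a₁ := (i, j)) (a₂ := (i', j')) (Subtype.ext (mul_right_cancel e'))
    rw [Prod.mk.injEq] at hij
    rw [hij.1, hij.2]
  have hstat : ∀ i j k : Fin 3, k ≠ 0 →
      (El (x ^ (i : ℕ) * y₁ ^ (j : ℕ) * y₂ ^ (k : ℕ)) ↔ El (y₁ ^ (j : ℕ) * y₂ ^ (k : ℕ))) := by
    intro i j k hk
    have hw : y₁ ^ (j : ℕ) * y₂ ^ (k : ℕ) ∈ P := P.mul_mem (P.pow_mem hy₁P _) (P.pow_mem hy₂P _)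
    have hwx : y₁ ^ (j : ℕ) * y₂ ^ (k : ℕ) ∉ Subgroup.zpowers x := fun hm => hpowE k hk (by
      have := E.mul_mem (E.inv_mem (E.pow_mem hyE (j : ℕ))) (Subgroup.zpowers_le.2 hxE hm)
      simpa using this)
    obtain ⟨g, -, hg⟩ := hcoset _ hw hwx (i : ℕ)
    rw [mul_assoc, ← hg]
    refine ⟨fun he => ?_, fun he => he.conj g⟩
    have := he.conj g⁻¹
    simpa [mul_assoc] using this
  set c := El (y₁ * y₂) with hc
  have hconjprod : ∀ (s a b a' b' : G), s * a * s⁻¹ = a' → s * b * s⁻¹ = b' → El (a * b) → El (a' * b') := by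
    intro s a b a' b' h1 h2 he
    rw [← h1, ← h2, show s * a * s⁻¹ * (s * b * s⁻¹) = s * (a * b) * s⁻¹ by group]
    exact he.conj s
  have huu : ∀ {a b : G}, u * a * u⁻¹ = b → u * b * u⁻¹ = a := by
    intro a b e
    rw [← e, inv_eq_self_of_orderOf_two hu]
    calc u * (u * a * u) * u = (u * u) * a * (u * u) := by group
      _ = a := by rw [(orderOf_two_iff.1 hu).1, one_mul, mul_one]
  have htt : ∀ {a b : G}, t * a * t⁻¹ = b → t * b * t⁻¹ = a := by
    intro a b e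
    rw [← e, inv_eq_self_of_orderOf_two h.inv]
    calc t * (t * a * t) * t = (t * t) * a * (t * t) := by group
      _ = a := by rw [ht2, one_mul, mul_one]
  have hfour : ∀ j k : Fin 3, j ≠ 0 → k ≠ 0 → (El (y₁ ^ (j : ℕ) * y₂ ^ (k : ℕ)) ↔ c) := by
    intro j k hj hk
    fin_cases j <;> fin_cases k
    all_goals first
      | exact absurd rfl hj
      | exact absurd rfl hk
      | skip
    all_goals simp only [pow_one, hp2 hy₁3, hp2 hy₂3, hc]
    · exact ⟨hconjprod u _ _ _ _ hy₁ (huu huy₂), hconjprod u _ _ _ _ hy₁ huy₂⟩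
    · have hty₁' : t * y₁⁻¹ * t⁻¹ = y₁ := htt hty₁
      refine ⟨fun he => ?_, fun he => ?_⟩
      · exact hconjprod u _ _ _ _ hy₁ (huu huy₂) (hconjprod t _ _ _ _ hty₁' hty₂ he)
      · exact hconjprod t _ _ _ _ hty₁ (htt hty₂) (hconjprod u _ _ _ _ hy₁ huy₂ he)
    · exact ⟨hconjprod t _ _ _ _ (htt hty₁) (htt hty₂), hconjprod t _ _ _ _ hty₁ hty₂⟩
  have hBP : Nat.card (B PM) = Nat.card {p : Fin 3 × Fin 3 × Fin 3 // p.2.2 ≠ 0 ∧ (p.2.1 = 0 ∨ c)} := by
    refine (Nat.card_congr (Equiv.ofBijective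
      (fun p => (⟨⟨(f p.1 : G), hPM (f p.1).2⟩, ?_, Subgroup.mem_subgroupOf.2 (f p.1).2, ?_⟩ : B PM)) ⟨?_, ?_⟩)).symm
    · obtain ⟨⟨i, j, k⟩, hk, hjc⟩ := p
      show El (x ^ (i : ℕ) * y₁ ^ (j : ℕ) * y₂ ^ (k : ℕ))
      rw [hstat i j k hk]
      by_cases hj : j = 0
      · subst hj; rw [Fin.val_zero, pow_zero, one_mul]; exact (hpowne y₂ hy₂x hy₂3 k hk).2 hel₂
      · exact (hfour j k hj hk).2 (hjc.resolve_left hj)
    · obtain ⟨⟨i, j, k⟩, hk, -⟩ := p
      intro hm
      refine hpowE k hk ?_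
      have := E.mul_mem (E.inv_mem (E.mul_mem (E.pow_mem hxE (i : ℕ)) (E.pow_mem hyE (j : ℕ)))) hm
      simpa [f, mul_assoc] using this
    · intro p q e
      exact Subtype.ext (hf.1 (Subtype.ext (congrArg (fun b : B PM => ((b.1 : M) : G)) e)))
    · rintro ⟨w, hw, hwP, hwE⟩
      obtain ⟨⟨i, j, k⟩, e⟩ := hf.2 ⟨(w : G), hwP⟩
      have e' : x ^ (i : ℕ) * y₁ ^ (j : ℕ) * y₂ ^ (k : ℕ) = (w : G) := congrArg Subtype.val e
      have hk : k ≠ 0 := by
        rintro rfl
        rw [Fin.val_zero, pow_zero, mul_one] at e'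
        exact hwE (e' ▸ E.mul_mem (E.pow_mem hxE _) (E.pow_mem hyE _))
      refine ⟨⟨(i, j, k), hk, ?_⟩, Subtype.ext (Subtype.ext e')⟩
      rw [← e', hstat i j k hk] at hw
      by_cases hj : j = 0
      · exact Or.inl hj
      · exact Or.inr ((hfour j k hj hk).1 hw)
  haveI := Fintype.ofFinite (Sylow 3 M)
  rw [← Nat.card_congr (Equiv.ofBijective F hF), Nat.card_sum, Nat.card_sigma, hA,
    Finset.sum_congr rfl fun Q _ => hBeq Q, Finset.sum_const, Finset.card_univ, ← Nat.card_eq_fintype_card,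
    hn3, smul_eq_mul, hBP]
  by_cases hcc : c
  · right
    rw [Nat.card_congr (Equiv.subtypeEquivRight (q := fun p : Fin 3 × Fin 3 × Fin 3 => p.2.2 ≠ 0)
      fun p => ⟨fun hp => hp.1, fun hp => ⟨hp, Or.inr hcc⟩⟩), Nat.card_eq_fintype_card]
    rfl
  · left
    rw [Nat.card_congr (Equiv.subtypeEquivRight (q := fun p : Fin 3 × Fin 3 × Fin 3 => p.2.2 ≠ 0 ∧ p.2.1 = 0)
      fun p => ⟨fun hp => ⟨hp.1, hp.2.resolve_right hcc⟩, fun hp => ⟨hp.1, Or.inl hp.2⟩⟩),
      Nat.card_eq_fintype_card]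
    rfl

end Cfsg.Agent.Lib.Characters.LThreeThree
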