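import Cfsg.Agent.Lib.Characters.LThreeThree.Local
import Mathlib.GroupTheory.GroupAction.Jordan
import Mathlib.GroupTheory.SpecificGroups.Alternating

/-!
# The plane of order three
-/

set_option autoImplicit false
set_option linter.style.haveILetI false

namespace Cfsg.Agent.Lib.Characters.LThreeThree

open Cfsg Cfsg.Agent.Lib.Characters Cfsg.Agent.Lib.Characters.GLTwoThree
open MulAction

universe u

variable {G : Type u} [Group G] [Finite G]

/-- The data of a subgroup of index thirteen with its elements. -/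
structure Geo (E M : Subgroup G) : Prop where
  card : Nat.card G = 5616
  cardE : Nat.card E = 9
  cardM : Nat.card M = 432
  norm : M = Subgroup.normalizer (E : Set G)
  el : ∀ v ∈ E, v ≠ 1 → El v
  comm : ∀ v ∈ E, ∀ w ∈ E, Commute v w
  conj : ∀ v w : G, El v → El w → IsConj v w
  cent : ∀ v : G, El v → Nat.card (Subgroup.centralizer ({v} : Set G)) = 54
  count : Nat.card {w : G // El w ∧ w ∈ M} = 32 ∨ Nat.card {w : G // El w ∧ w ∈ M} = 80
  faithful : ∀ g : G, (∀ q : G ⧸ M, g • q = q) → g = 1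

variable {E M : Subgroup G}

/-- `w` is an elation with centre `q`. -/
def Cen (E M : Subgroup G) (q : G ⧸ M) (w : G) : Prop :=
  El w ∧ ∃ g : G, (g : G ⧸ M) = q ∧ g⁻¹ * w * g ∈ E

theorem cen_iff (h : Geo E M) (g w : G) : Cen E M (g : G ⧸ M) w ↔ El w ∧ g⁻¹ * w * g ∈ E := by
  refine ⟨fun ⟨hw, k, hk, hm⟩ => ⟨hw, ?_⟩, fun ⟨hw, hm⟩ => ⟨hw, g, rfl, hm⟩⟩
  have hkg : k⁻¹ * g ∈ M := QuotientGroup.eq.1 hk
  rw [h.norm] at hkg
  rw [Subgroup.mem_normalizer_iff.1 hkg (g⁻¹ * w * g)]
  rwa [show k⁻¹ * g * (g⁻¹ * w * g) * (k⁻¹ * g)⁻¹ = k⁻¹ * w * k by group]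

omit [Finite G] in
theorem fix_iff (g w : G) : w • (g : G ⧸ M) = (g : G ⧸ M) ↔ g⁻¹ * w * g ∈ M := by
  rw [MulAction.Quotient.smul_coe, smul_eq_mul, eq_comm, QuotientGroup.eq, mul_assoc]

theorem Cen.fix (h : Geo E M) {q : G ⧸ M} {w : G} (hw : Cen E M q w) : w • q = q := by
  obtain ⟨g, rfl⟩ := QuotientGroup.mk_surjective q
  rw [fix_iff, h.norm]
  exact Subgroup.le_normalizer ((cen_iff h g w).1 hw).2

theorem Cen.smul (h : Geo E M) {q : G ⧸ M} {w : G} (hw : Cen E M q w) (k : G) :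
    Cen E M (k • q) (k * w * k⁻¹) := by
  obtain ⟨g, rfl⟩ := QuotientGroup.mk_surjective q
  rw [MulAction.Quotient.smul_coe, smul_eq_mul, cen_iff h]
  obtain ⟨h1, h2⟩ := (cen_iff h g w).1 hw
  exact ⟨h1.conj k, by rwa [show (k * g)⁻¹ * (k * w * k⁻¹) * (k * g) = g⁻¹ * w * g by group]⟩

theorem card_points (h : Geo E M) : Nat.card (G ⧸ M) = 13 := by
  have := M.card_mul_index
  rw [h.card, h.cardM] at this
  show M.index = 13
  omega

theorem card_el (h : Geo E M) : Nat.card {w : G // El w} = 104 := by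
  obtain ⟨v, hv, hv1⟩ : ∃ v ∈ E, v ≠ (1 : G) := by
    haveI : Nontrivial E := Finite.one_lt_card_iff_nontrivial.1 (by rw [h.cardE]; norm_num)
    obtain ⟨v, hv⟩ := exists_ne (1 : E)
    exact ⟨v, v.2, fun e => hv (Subtype.ext e)⟩
  have hel := h.el v hv hv1
  rw [Nat.card_congr (Equiv.subtypeEquivRight (q := fun w => IsConj v w) fun w =>
    ⟨fun hw => h.conj v w hel hw, fun hc => by
      obtain ⟨g, rfl⟩ := isConj_iff.1 hc
      exact hel.conj g⟩)]
  have := card_conj_mul_card_centralizer v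
  rw [h.cent v hel, h.card] at this
  omega

theorem card_cen (h : Geo E M) (q : G ⧸ M) : Nat.card {w : G // Cen E M q w} = 8 := by
  classical
  obtain ⟨g, rfl⟩ := QuotientGroup.mk_surjective q
  have e : {w : G // Cen E M (g : G ⧸ M) w} ≃ {v : E // v ≠ 1} :=
    { toFun := fun w => ⟨⟨g⁻¹ * w.1 * g, ((cen_iff h g w.1).1 w.2).2⟩, fun e => by
        have e1 : g⁻¹ * w.1 * g = 1 := congrArg Subtype.val e
        have e2 : w.1 = 1 := by
          calc w.1 = g * (g⁻¹ * w.1 * g) * g⁻¹ := by group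
            _ = 1 := by rw [e1]; group
        have := w.2.1.1
        rw [e2, orderOf_one] at this
        norm_num at this⟩
      invFun := fun v => ⟨g * (v.1 : G) * g⁻¹, (cen_iff h g _).2
        ⟨(h.el _ v.1.2 fun e => v.2 (Subtype.ext e)).conj g, by
          rw [show g⁻¹ * (g * (v.1 : G) * g⁻¹) * g = (v.1 : G) by group]; exact v.1.2⟩⟩
      left_inv := fun w => Subtype.ext (by show g * (g⁻¹ * w.1 * g) * g⁻¹ = w.1; group)
      right_inv := fun v => Subtype.ext (Subtype.ext (by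
        show g⁻¹ * (g * (v.1 : G) * g⁻¹) * g = (v.1 : G); group)) }
  haveI := Fintype.ofFinite E
  rw [Nat.card_congr e, Nat.card_eq_fintype_card, Fintype.card_subtype_compl, Fintype.card_subtype_eq,
    ← Nat.card_eq_fintype_card, h.cardE]

theorem cen_existsUnique (h : Geo E M) {w : G} (hw : El w) : ∃! q : G ⧸ M, Cen E M q w := by
  classical
  haveI := Fintype.ofFinite (G ⧸ M)
  let f : (Σ q : G ⧸ M, {v : G // Cen E M q v}) → {v : G // El v} := fun p => ⟨p.2.1, p.2.2.1⟩
  have hs : Function.Surjective f := by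
    rintro ⟨v, hv⟩
    obtain ⟨u, hu, hu1⟩ : ∃ u ∈ E, u ≠ (1 : G) := by
      haveI : Nontrivial E := Finite.one_lt_card_iff_nontrivial.1 (by rw [h.cardE]; norm_num)
      obtain ⟨u, hu⟩ := exists_ne (1 : E)
      exact ⟨u, u.2, fun e => hu (Subtype.ext e)⟩
    obtain ⟨g, rfl⟩ := isConj_iff.1 (h.conj u v (h.el u hu hu1) hv)
    exact ⟨⟨(g : G ⧸ M), g * u * g⁻¹, (cen_iff h g _).2 ⟨hv, by
      rwa [show g⁻¹ * (g * u * g⁻¹) * g = u by group]⟩⟩, rfl⟩
  have hb := hs.bijective_of_nat_card_le (by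
    rw [Nat.card_sigma, Finset.sum_congr rfl fun q _ => card_cen h q, Finset.sum_const, Finset.card_univ,
      ← Nat.card_eq_fintype_card, card_points h, card_el h]
    norm_num)
  obtain ⟨⟨q, v, hv⟩, e⟩ := hs ⟨w, hw⟩
  obtain rfl : v = w := congrArg Subtype.val e
  refine ⟨q, hv, fun q' hq' => ?_⟩
  exact congrArg Sigma.fst (hb.1 (show f ⟨q', v, hq'⟩ = f ⟨q, v, hv⟩ from rfl))

theorem card_fixed (h : Geo E M) {w : G} (hw : El w) : Nat.card {q : G ⧸ M // w • q = q} = 4 := by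
  classical
  haveI := Fintype.ofFinite G
  haveI := Fintype.ofFinite (G ⧸ M)
  have hconst : ∀ v : {v : G // El v}, Nat.card {q : G ⧸ M // v.1 • q = q} =
      Nat.card {q : G ⧸ M // w • q = q} := by
    intro v
    obtain ⟨g, hg⟩ := isConj_iff.1 (h.conj w v.1 hw v.2)
    refine (Nat.card_congr (Equiv.subtypeEquiv (MulAction.toPerm g) fun q => ?_)).symm
    rw [← hg]
    show w • q = q ↔ (g * w * g⁻¹) • (g • q) = g • q
    rw [← mul_smul, inv_mul_cancel_right, mul_smul, smul_left_cancel_iff]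
  have hfib : ∀ q : G ⧸ M, Nat.card {v : {v : G // El v} // v.1 • q = q} =
      Nat.card {v : G // El v ∧ v ∈ M} := by
    intro q
    obtain ⟨g, rfl⟩ := QuotientGroup.mk_surjective q
    refine Nat.card_congr ((Equiv.subtypeSubtypeEquivSubtypeInter El (fun v => v • (g : G ⧸ M) = g)).trans
      (Equiv.subtypeEquiv (MulAut.conj g⁻¹).toEquiv fun v => ?_))
    show El v ∧ v • (g : G ⧸ M) = g ↔ El (g⁻¹ * v * g⁻¹⁻¹) ∧ g⁻¹ * v * g⁻¹⁻¹ ∈ M
    rw [fix_iff, inv_inv]
    refine and_congr_left fun _ => ⟨fun h1 => by simpa using h1.conj g⁻¹, fun h1 => ?_⟩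
    simpa [mul_assoc] using h1.conj g
  have h1 : Nat.card (Σ q : G ⧸ M, {v : {v : G // El v} // v.1 • q = q}) =
      Nat.card (Σ v : {v : G // El v}, {q : G ⧸ M // v.1 • q = q}) :=
    Nat.card_congr
      { toFun := fun p => ⟨p.2.1, p.1, p.2.2⟩
        invFun := fun p => ⟨p.2.1, p.1, p.2.2⟩
        left_inv := fun _ => rfl
        right_inv := fun _ => rfl }
  rw [Nat.card_sigma, Nat.card_sigma, Finset.sum_congr rfl fun q _ => hfib q,
    Finset.sum_congr rfl fun v _ => hconst v, Finset.sum_const, Finset.sum_const, Finset.card_univ,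
    Finset.card_univ, ← Nat.card_eq_fintype_card, ← Nat.card_eq_fintype_card, card_points h, card_el h,
    smul_eq_mul, smul_eq_mul] at h1
  rcases h.count with e | e
  · omega
  exfalso
  have h10 : Nat.card {q : G ⧸ M // w • q = q} = 10 := by omega
  let π := MulAction.toPermHom G (G ⧸ M)
  have hinj : Function.Injective π := (injective_iff_map_eq_one π).2 fun g hg =>
    h.faithful g fun q => Equiv.congr_fun hg q
  have hsupp : (π w).support.card = 3 := by
    rw [show (π w).support = (Finset.univ.filter fun q : G ⧸ M => w • q = q)ᶜ by ext q; simp [π],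
      Finset.card_compl, ← Fintype.card_subtype, ← Nat.card_eq_fintype_card, ← Nat.card_eq_fintype_card,
      h10, card_points h]
  haveI hpt : IsPretransitive π.range (G ⧸ M) := ⟨fun a b => by
    obtain ⟨g, hg⟩ := exists_smul_eq G a b
    exact ⟨⟨π g, g, rfl⟩, hg⟩⟩
  have hprim : IsPreprimitive π.range (G ⧸ M) :=
    IsPreprimitive.of_prime_card (by rw [card_points h]; norm_num)
  have hle := Equiv.Perm.alternatingGroup_le_of_isPreprimitive_of_isThreeCycle_mem hprim
    (card_support_eq_three_iff.1 hsupp) ⟨w, rfl⟩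
  haveI : Nontrivial (G ⧸ M) := Fintype.one_lt_card_iff_nontrivial.1 (by
    rw [← Nat.card_eq_fintype_card, card_points h]; norm_num)
  have := Subgroup.card_le_of_le hle
  rw [nat_card_alternatingGroup, card_points h, ← Nat.card_congr (π.ofInjective hinj).toEquiv, h.card] at this
  exact absurd this (by decide)

/-! ### Lines -/

/-- The points fixed by `w`. -/
noncomputable def fixSet (M : Subgroup G) (w : G) : Finset (G ⧸ M) :=
  letI := Classical.decEq (G ⧸ M)
  letI := Fintype.ofFinite (G ⧸ M)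
  Finset.univ.filter fun q => w • q = q

theorem mem_fixSet {w : G} {q : G ⧸ M} : q ∈ fixSet M w ↔ w • q = q := by
  simp [fixSet]

theorem card_fixSet (h : Geo E M) {w : G} (hw : El w) : (fixSet M w).card = 4 := by
  rw [← card_fixed h hw, ← Fintype.card_coe, ← Nat.card_eq_fintype_card]
  exact Nat.card_congr (Equiv.subtypeEquivRight fun q => mem_fixSet)

/-- Conjugates of `E` as subgroups. -/
theorem exists_block (h : Geo E M) (p : G ⧸ M) : ∃ A : Subgroup G, Nat.card A = 9 ∧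
    (∀ v : G, v ∈ A ∧ v ≠ 1 ↔ Cen E M p v) ∧ (∀ v ∈ A, ∀ w ∈ A, Commute v w) ∧
    ∀ k : G, k • p = p → ∀ v ∈ A, k * v * k⁻¹ ∈ A := by
  obtain ⟨g, rfl⟩ := QuotientGroup.mk_surjective p
  refine ⟨E.map (MulAut.conj g).toMonoidHom, by
    rw [Subgroup.card_map_of_injective (MulAut.conj g).injective, h.cardE], fun v => ?_, ?_, ?_⟩
  · rw [cen_iff h]
    constructor
    · rintro ⟨⟨e, he, rfl⟩, hv⟩
      refine ⟨(h.el e he ?_).conj g, ?_⟩
      · rintro rfl
        exact hv (map_one _)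
      · show g⁻¹ * (g * e * g⁻¹) * g ∈ E
        rwa [show g⁻¹ * (g * e * g⁻¹) * g = e by group]
    · rintro ⟨hv, hm⟩
      refine ⟨⟨_, hm, by show g * (g⁻¹ * v * g) * g⁻¹ = v; group⟩, fun e => ?_⟩
      have := hv.1; rw [e, orderOf_one] at this; norm_num at this
  · rintro _ ⟨a, ha, rfl⟩ _ ⟨b, hb, rfl⟩
    exact (h.comm a ha b hb).map _
  · intro k hk v hv
    obtain ⟨e, he, rfl⟩ := hv
    rw [fix_iff, h.norm] at hk
    refine ⟨(g⁻¹ * k * g) * e * (g⁻¹ * k * g)⁻¹, (Subgroup.mem_normalizer_iff.1 hk e).1 he, ?_⟩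
    show g * ((g⁻¹ * k * g) * e * (g⁻¹ * k * g)⁻¹) * g⁻¹ = k * (g * e * g⁻¹) * k⁻¹
    group

theorem Cen.center_unique (h : Geo E M) {p q : G ⧸ M} {w : G} (hp : Cen E M p w) (hq : Cen E M q w) :
    p = q := (cen_existsUnique h hp.1).unique hp hq

/-- Two elations with the same centre fixing another common point generate the same subgroup. -/
theorem same_group (h : Geo E M) {p q : G ⧸ M} (hpq : p ≠ q) {v w : G} (hv : Cen E M p v)
    (hvq : v • q = q) (hw : Cen E M p w) (hwq : w • q = q) : w = v ∨ w = v⁻¹ := by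
  obtain ⟨A, hA, hAm, -, -⟩ := exists_block h p
  obtain ⟨B, hB, hBm, -, hBn⟩ := exists_block h q
  set D := A ⊓ stabilizer G q with hD
  have hd : Nat.card D ∣ 9 := hA ▸ Subgroup.card_dvd_of_le inf_le_left
  have hne : Nat.card D ≠ 9 := by
    intro e
    have hle : A ≤ Subgroup.normalizer (B : Set G) := by
      intro k hk
      have hk' : k ∈ D := (Subgroup.eq_of_le_of_card_ge inf_le_left (by rw [e, hA]) : D = A).symm ▸ hk
      rw [Subgroup.mem_normalizer_iff]
      intro b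
      refine ⟨fun hb => hBn k hk'.2 b hb, fun hb => ?_⟩
      have := hBn k⁻¹ (inv_smul_eq_iff.2 (mem_stabilizer_iff.1 hk'.2).symm) _ hb
      simpa [mul_assoc] using this
    haveI : (B.subgroupOf (A ⊔ B)).Normal :=
      Subgroup.normal_subgroupOf_iff_le_normalizer le_sup_right |>.2 (sup_le hle Subgroup.le_normalizer)
    have hdisj : A ⊓ B = ⊥ := by
      rw [Subgroup.eq_bot_iff_forall]
      rintro k ⟨hkA, hkB⟩
      by_contra hk1
      exact hpq (Cen.center_unique h ((hAm k).1 ⟨hkA, hk1⟩) ((hBm k).1 ⟨hkB, hk1⟩))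
    let f : A × B → (A ⊔ B : Subgroup G) := fun x =>
      ⟨(x.1 : G) * x.2, Subgroup.mul_mem_sup x.1.2 x.2.2⟩
    have hf : Function.Injective f := fun x y e => Subgroup.mul_injective_of_disjoint
      (disjoint_iff.2 hdisj) (congrArg Subtype.val e)
    obtain ⟨S, hS⟩ : ∃ n, Nat.card (A ⊔ B : Subgroup G) = n := ⟨_, rfl⟩
    have hquot : Nat.card (A ⊔ B : Subgroup G) = 81 := by
      have hsurj : Function.Surjective f := by
        rintro ⟨g, hg⟩
        rw [← SetLike.mem_coe, Subgroup.coe_mul_of_left_le_normalizer_right _ _ hle] at hg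
        obtain ⟨a, ha, b, hb, rfl⟩ := hg
        exact ⟨(⟨a, ha⟩, ⟨b, hb⟩), rfl⟩
      rw [← Nat.card_congr (Equiv.ofBijective f ⟨hf, hsurj⟩), Nat.card_prod, hA, hB]
    have := (A ⊔ B).card_subgroup_dvd_card
    rw [hquot, h.card] at this
    norm_num at this
  have hvD : v ∈ D := ⟨((hAm v).2 hv).1, hvq⟩
  have hwD : w ∈ D := ⟨((hAm w).2 hw).1, hwq⟩
  have h3 : Nat.card D ≤ 3 := by
    have hdm : Nat.card D ∈ Nat.divisors 9 := Nat.mem_divisors.2 ⟨hd, by norm_num⟩
    rw [show Nat.divisors 9 = {1, 3, 9} by decide +kernel] at hdm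
    simp only [Finset.mem_insert, Finset.mem_singleton] at hdm
    omega
  have he : Subgroup.zpowers v = D := Subgroup.eq_of_le_of_card_ge (Subgroup.zpowers_le.2 hvD)
    (by rw [Nat.card_zpowers, hv.1.1]; exact h3)
  obtain ⟨i, hi⟩ := he.ge hwD
  have hi' : v ^ i = w := hi
  rw [← zpow_mod_orderOf, hv.1.1] at hi'
  rcases (show i % 3 = 0 ∨ i % 3 = 1 ∨ i % 3 = 2 by omega) with e | e | e <;>
    simp only [Nat.cast_ofNat, e, zpow_zero, zpow_one] at hi'
  · exfalso
    have := hw.1.1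
    rw [← hi', orderOf_one] at this
    norm_num at this
  · exact Or.inl hi'.symm
  · right
    rw [← hi', zpow_two, eq_inv_iff_mul_eq_one, ← pow_three', ← hv.1.1, pow_orderOf_eq_one]

theorem exists_elation (h : Geo E M) {p q : G ⧸ M} (hpq : p ≠ q) :
    ∃ w, Cen E M p w ∧ w • q = q := by
  classical
  haveI := Fintype.ofFinite (G ⧸ M)
  haveI := Fintype.ofFinite G
  by_contra hc
  push Not at hc
  -- count incidences
  set S := {w : G // Cen E M p w}
  have h1 : Nat.card (Σ r : {r : G ⧸ M // r ≠ p}, {w : S // w.1 • r.1 = r.1}) = 24 := by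
    rw [Nat.card_congr (β := Σ w : S, {r : G ⧸ M // r ≠ p ∧ w.1 • r = r})
      { toFun := fun x => ⟨x.2.1, x.1.1, x.1.2, x.2.2⟩
        invFun := fun x => ⟨⟨x.2.1, x.2.2.1⟩, x.1, x.2.2.2⟩
        left_inv := fun _ => rfl
        right_inv := fun _ => rfl }, Nat.card_sigma]
    rw [Finset.sum_congr rfl (g := fun _ => 3) fun w _ => ?_, Finset.sum_const, Finset.card_univ,
      ← Nat.card_eq_fintype_card, card_cen h, smul_eq_mul]
    rw [Nat.card_eq_fintype_card, Fintype.card_subtype,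
      show (Finset.univ.filter fun r => r ≠ p ∧ w.1 • r = r) = (fixSet M w.1).erase p by
        ext r; simp [mem_fixSet],
      Finset.card_erase_of_mem (mem_fixSet.2 (w.2.fix h)), card_fixSet h w.2.1]
  have hle : ∀ r : {r : G ⧸ M // r ≠ p}, Nat.card {w : S // w.1 • r.1 = r.1} ≤ 2 := by
    intro r
    by_cases hne : Nonempty {w : S // w.1 • r.1 = r.1}
    · obtain ⟨v⟩ := hne
      refine le_trans (Nat.card_le_card_of_injective
        (fun w : {w : S // w.1 • r.1 = r.1} => decide (w.1.1 = v.1.1)) ?_) (by simp)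
      intro a b e
      simp only [decide_eq_decide] at e
      refine Subtype.ext (Subtype.ext ?_)
      rcases same_group h (Ne.symm r.2) v.1.2 v.2 a.1.2 a.2 with ea | ea <;>
        rcases same_group h (Ne.symm r.2) v.1.2 v.2 b.1.2 b.2 with eb | eb
      · rw [ea, eb]
      · rw [ea, e.1 ea]
      · rw [e.2 eb, eb]
      · rw [ea, eb]
    · rw [not_nonempty_iff] at hne
      rw [Nat.card_of_isEmpty]
      norm_num
  rw [Nat.card_sigma] at h1
  have hz : Nat.card {w : S // w.1 • q = q} = 0 := by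
    haveI : IsEmpty {w : S // w.1 • q = q} := ⟨fun w => hc _ w.1.2 w.2⟩
    exact Nat.card_of_isEmpty
  have hlt : ∑ r : {r : G ⧸ M // r ≠ p}, Nat.card {w : S // w.1 • r.1 = r.1} <
      ∑ _r : {r : G ⧸ M // r ≠ p}, 2 :=
    Finset.sum_lt_sum (fun r _ => hle r) ⟨⟨q, hpq.symm⟩, Finset.mem_univ _, by rw [hz]; norm_num⟩
  rw [h1, Finset.sum_const, Finset.card_univ, Fintype.card_subtype_compl, Fintype.card_subtype_eq,
    ← Nat.card_eq_fintype_card, card_points h] at hlt
  norm_num at hlt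

omit [Finite G] in
theorem El.pow_three {w : G} (hw : El w) : w * (w * w) = 1 := by
  rw [← _root_.pow_three, ← hw.1, pow_orderOf_eq_one]

/-- Two elations, each fixing the other's centre, commute and have the same fixed points. -/
theorem crossed (h : Geo E M) {p q : G ⧸ M} (hpq : p ≠ q) {v w : G} (hv : Cen E M p v)
    (hvq : v • q = q) (hw : Cen E M q w) (hwp : w • p = p) :
    Commute v w ∧ fixSet M v = fixSet M w := by
  classical
  have h1 := hw.smul h v
  rw [hvq] at h1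
  have h2 : (v * w * v⁻¹) • p = p := by
    rw [mul_smul, mul_smul, inv_smul_eq_iff.2 (hv.fix h).symm, hwp, hv.fix h]
  have hc : v * w * v⁻¹ = w := by
    refine (same_group h hpq.symm hw hwp h1 h2).resolve_right fun e => ?_
    have e2 : ∀ {x : G}, v * x * v⁻¹ = w⁻¹ → v * (v * x * v⁻¹) * v⁻¹ = (v * w * v⁻¹)⁻¹ := by
      intro x hx; rw [hx]; group
    have h2' := e2 e
    rw [e, inv_inv] at h2'
    have h3 : v * (v * (v * w * v⁻¹) * v⁻¹) * v⁻¹ = w⁻¹ := by
      rw [show v * (v * w * v⁻¹) * v⁻¹ = w from by rw [e]; exact h2', e]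
    have h4 : v * (v * (v * w * v⁻¹) * v⁻¹) * v⁻¹ = w := by
      calc v * (v * (v * w * v⁻¹) * v⁻¹) * v⁻¹ = (v * (v * v)) * w * (v * (v * v))⁻¹ := by group
        _ = w := by rw [hv.1.pow_three]; group
    rw [h4] at h3
    have : orderOf w ∣ 2 := orderOf_dvd_iff_pow_eq_one.2 (by rw [sq]; exact eq_inv_iff_mul_eq_one.1 h3)
    rw [hw.1.1] at this
    norm_num at this
  have hcomm : Commute v w := mul_inv_eq_iff_eq_mul.1 hc
  refine ⟨hcomm, ?_⟩
  have hinv : ∀ r ∈ fixSet M v, w • r ∈ fixSet M v := fun r hr => by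
    rw [mem_fixSet] at hr ⊢
    rw [← mul_smul, hcomm.eq, mul_smul, hr]
  refine Finset.eq_of_subset_of_card_le (fun r hr => mem_fixSet.2 ?_)
    (by rw [card_fixSet h hw.1, card_fixSet h hv.1])
  by_contra hne
  have hpF : p ∈ fixSet M v := mem_fixSet.2 (hv.fix h)
  have hqF : q ∈ fixSet M v := mem_fixSet.2 hvq
  have hw3 : w • (w • (w • r)) = r := by rw [← mul_smul, ← mul_smul, mul_assoc, hw.1.pow_three, one_smul]
  have d1 : w • (w • r) ≠ r := fun e => by rw [e] at hw3; exact hne hw3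
  have d2 : w • (w • r) ≠ w • r := fun e => hne (smul_left_cancel w e)
  have notfix : ∀ s, w • s = s → r ≠ s ∧ w • r ≠ s ∧ w • (w • r) ≠ s := fun s hs =>
    ⟨fun e => hne (e ▸ hs), fun e => hne (smul_left_cancel w (by rw [e, hs])),
     fun e => d2 (smul_left_cancel w (by rw [e, hs]))⟩
  obtain ⟨a1, a2, a3⟩ := notfix p hwp
  obtain ⟨b1, b2, b3⟩ := notfix q (hw.fix h)
  have hsub : ({p, q, r, w • r, w • (w • r)} : Finset (G ⧸ M)) ⊆ fixSet M v := by
    intro s hs
    simp only [Finset.mem_insert, Finset.mem_singleton] at hs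
    rcases hs with rfl | rfl | rfl | rfl | rfl
    exacts [hpF, hqF, hr, hinv _ hr, hinv _ (hinv _ hr)]
  have := Finset.card_le_card hsub
  rw [card_fixSet h hv.1, Finset.card_insert_of_notMem (by simp [hpq, Ne.symm a1, Ne.symm a2, Ne.symm a3]),
    Finset.card_insert_of_notMem (by simp [Ne.symm b1, Ne.symm b2, Ne.symm b3]),
    Finset.card_insert_of_notMem (by simp [Ne.symm hne, Ne.symm d1]),
    Finset.card_insert_of_notMem (by simp [Ne.symm d2]), Finset.card_singleton] at this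
  omega

theorem line_eq_aux (h : Geo E M) {v w : G} {a b : G ⧸ M} (hab : a ≠ b) (hv : Cen E M a v)
    (hvb : v • b = b) (hw : El w) (hwa : w • a = a) (hwb : w • b = b) : fixSet M w = fixSet M v := by
  have hsame : ∀ {x : G}, Cen E M a x → x • b = b → fixSet M x = fixSet M v := by
    intro x hx hxb
    rcases same_group h hab hv hvb hx hxb with e | e
    · rw [e]
    · ext r; rw [e, mem_fixSet, mem_fixSet, inv_smul_eq_iff, eq_comm]
  obtain ⟨p, hp, -⟩ := cen_existsUnique h hw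
  by_cases hpa : p = a
  · exact hsame (hpa ▸ hp) hwb
  obtain ⟨v', hv', hv'p⟩ := exists_elation h (Ne.symm hpa)
  have e := (crossed h (Ne.symm hpa) hv' hv'p hp hwa).2
  rw [← e]
  exact hsame hv' (mem_fixSet.1 (e ▸ mem_fixSet.2 hwb))

/-- Two points lie on one line. -/
theorem line_unique (h : Geo E M) {v w : G} (hv : El v) (hw : El w) {a b : G ⧸ M} (hab : a ≠ b)
    (hva : a ∈ fixSet M v) (hvb : b ∈ fixSet M v) (hwa : a ∈ fixSet M w) (hwb : b ∈ fixSet M w) :
    fixSet M v = fixSet M w := by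
  obtain ⟨x, hx, hxb⟩ := exists_elation h hab
  rw [line_eq_aux h hab hx hxb hv (mem_fixSet.1 hva) (mem_fixSet.1 hvb),
    line_eq_aux h hab hx hxb hw (mem_fixSet.1 hwa) (mem_fixSet.1 hwb)]

/-! ### The model -/

/-- Directions. -/
def dirs : Fin 4 → Fin 3 × Fin 3 := ![(1, 0), (0, 1), (1, 1), (1, 2)]

/-- Index of an affine point. -/
def aidx (v : Fin 3 × Fin 3) : Fin 13 := ⟨v.1.val + 3 * v.2.val, by omega⟩

/-- Index of an ideal point. -/
def iidx (d : Fin 4) : Fin 13 := ⟨9 + d.val, by omega⟩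

/-- Coordinates. -/
def vec (n : Fin 13) : ℕ × ℕ × ℕ :=
  if n.val < 9 then (n.val % 3, n.val / 3, 1)
  else ![(1, 0, 0), (0, 1, 0), (1, 1, 0), (1, 2, 0)] ⟨(n.val - 9) % 4, Nat.mod_lt _ (by norm_num)⟩

/-- The coordinate vector. -/
def col (n : Fin 13) : Fin 3 → ZMod 3 := ![((vec n).1 : ZMod 3), ((vec n).2.1 : ZMod 3), ((vec n).2.2 : ZMod 3)]

/-- Collinearity. -/
def detB (i j k : Fin 13) : Bool :=
  decide (col i 0 * (col j 1 * col k 2 - col j 2 * col k 1) - col i 1 * (col j 0 * col k 2 - col j 2 * col k 0)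
    + col i 2 * (col j 0 * col k 1 - col j 1 * col k 0) = 0)

/-- Points of a standard line. -/
def stdLine (d : Fin 4) (v : Fin 3 × Fin 3) (m : Fin 4) : Fin 13 :=
  ![iidx d, aidx v, aidx (v.1 + (dirs d).1, v.2 + (dirs d).2),
    aidx (v.1 + 2 * (dirs d).1, v.2 + 2 * (dirs d).2)] m

/-- Three points on a standard line. -/
def onLine (i j k : Fin 13) : Bool :=
  (decide (9 ≤ i.val) && decide (9 ≤ j.val) && decide (9 ≤ k.val)) ||
    (List.finRange 4).any fun d => (List.finRange 3).any fun a => (List.finRange 3).any fun b =>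
      ((List.finRange 4).any fun m => stdLine d (a, b) m == i) &&
      ((List.finRange 4).any fun m => stdLine d (a, b) m == j) &&
      ((List.finRange 4).any fun m => stdLine d (a, b) m == k)

set_option maxRecDepth 100000 in
theorem detB_onLine : ∀ i j k : Fin 13, i ≠ j → i ≠ k → j ≠ k → (detB i j k = onLine i j k) := by
  decide +kernel

set_option maxRecDepth 100000 in
theorem exists_third : ∀ i j : Fin 13, i ≠ j → ∃ k l : Fin 13, k ≠ i ∧ k ≠ j ∧ l ≠ i ∧ l ≠ j ∧ k ≠ l ∧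
    detB i j k = true ∧ detB i j l = true := by decide +kernel

theorem idx_cases : ∀ n : Fin 13, (∃ v, aidx v = n) ∨ ∃ d, iidx d = n := by decide +kernel

/-- Collinearity in the group's plane. -/
def Coll (M : Subgroup G) (a b c : G ⧸ M) : Prop :=
  ∃ w : G, El w ∧ a ∈ fixSet M w ∧ b ∈ fixSet M w ∧ c ∈ fixSet M w

theorem exists_coordinates (h : Geo E M) : ∃ ψ : Fin 13 ≃ G ⧸ M, ∀ i j k : Fin 13, i ≠ j → i ≠ k → j ≠ k →
    (detB i j k = true ↔ Coll M (ψ i) (ψ j) (ψ k)) := by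
  classical
  haveI := Fintype.ofFinite (G ⧸ M)
  have hnt : Nontrivial (G ⧸ M) := Finite.one_lt_card_iff_nontrivial.1 (by rw [card_points h]; norm_num)
  obtain ⟨r₁, r₂, hr⟩ := exists_pair_ne (G ⧸ M)
  obtain ⟨a, ha, har⟩ := exists_elation h hr
  obtain ⟨b, hb, hbr⟩ := exists_elation h hr.symm
  obtain ⟨hab, hL⟩ := crossed h hr ha har hb hbr
  set L := fixSet M a with hLdef
  obtain ⟨o, ho⟩ : ∃ o, o ∉ L := by
    by_contra hc
    push Not at hc
    have := Finset.card_le_card (fun x (_ : x ∈ (Finset.univ : Finset (G ⧸ M))) => hc x)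
    rw [Finset.card_univ, ← Nat.card_eq_fintype_card, card_points h, card_fixSet h ha.1] at this
    omega
  have hr₁L : r₁ ∈ L := mem_fixSet.2 (ha.fix h)
  have hr₂L : r₂ ∈ L := mem_fixSet.2 har
  -- translations
  let T : Fin 3 × Fin 3 → G := fun v => a ^ (v.1 : ℕ) * b ^ (v.2 : ℕ)
  have ha3 : a ^ 3 = 1 := ha.1.1 ▸ pow_orderOf_eq_one a
  have hb3 : b ^ 3 = 1 := hb.1.1 ▸ pow_orderOf_eq_one b
  have hmul : ∀ v w : Fin 3 × Fin 3, T v * T w = T (v.1 + w.1, v.2 + w.2) := by
    intro v w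
    show a ^ (v.1 : ℕ) * b ^ (v.2 : ℕ) * (a ^ (w.1 : ℕ) * b ^ (w.2 : ℕ)) = _
    rw [(hab.pow_pow _ _).symm.mul_mul_mul_comm, ← pow_add, ← pow_add, pow_eq_pow_mod _ ha3,
      pow_eq_pow_mod (v.2.val + w.2.val) hb3]
    show _ = a ^ ((v.1 + w.1 : Fin 3) : ℕ) * b ^ ((v.2 + w.2 : Fin 3) : ℕ)
    rw [Fin.val_add, Fin.val_add]
  have hfixT : ∀ v, ∀ r ∈ L, T v • r = r := by
    intro v r hr'
    have hA : a • r = r := mem_fixSet.1 hr'
    have hB : b • r = r := mem_fixSet.1 (hL ▸ hr')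
    show (a ^ (v.1 : ℕ) * b ^ (v.2 : ℕ)) • r = r
    rw [mul_smul, show b ^ (v.2 : ℕ) • r = r from (stabilizer G r).pow_mem hB _,
      show a ^ (v.1 : ℕ) • r = r from (stabilizer G r).pow_mem hA _]
  have hline_smul : ∀ (g : G) {w : G}, El w → ∀ r, r ∈ fixSet M w → g • r ∈ fixSet M (g * w * g⁻¹) := by
    intro g w _ r hr'
    rw [mem_fixSet] at hr' ⊢
    rw [← mul_smul, inv_mul_cancel_right, mul_smul, hr']
  have hpref : ∀ {r : G ⧸ M} {d : G}, Cen E M r d → ∀ v : G ⧸ M, v ≠ r →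
      ∀ c, Cen E M r c → c • v = v → d • v ∈ fixSet M c := by
    intro r d hd v _ c hc hcv
    obtain ⟨A, -, hAm, hAc, -⟩ := exists_block h r
    have := hAc d ((hAm d).2 hd).1 c ((hAm c).2 hc).1
    rw [mem_fixSet, ← mul_smul, ← this.eq, mul_smul, hcv]
  -- lines through r₁ and r₂
  have hline : ∀ {r : G ⧸ M} {d : G}, Cen E M r d → ∀ v : G ⧸ M, v ≠ r →
      ∃ w, El w ∧ r ∈ fixSet M w ∧ v ∈ fixSet M w ∧ d • v ∈ fixSet M w := by
    intro r d hd v hv
    obtain ⟨c, hc, hcv⟩ := exists_elation h hv.symm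
    exact ⟨c, hc.1, mem_fixSet.2 (hc.fix h), mem_fixSet.2 hcv, hpref hd v hv c hc hcv⟩
  have hoff : ∀ v, T v • o ∉ L := by
    intro v hm
    apply ho
    obtain ⟨i, j⟩ := v
    have e : T (-i, -j) • (T (i, j) • o) = o := by
      rw [← mul_smul, hmul, neg_add_cancel, neg_add_cancel]
      simp [T]
    rw [← e, hfixT _ _ hm]
    exact hm
  have hTinj : Function.Injective (fun v => T v • o) := by
    intro v w e
    have e' : T v • o = T w • o := e
    obtain ⟨i, j⟩ := v; obtain ⟨k, l⟩ := w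
    have e2 : T (i - k, j - l) • o = o := by
      have := congrArg (fun s => T (-k, -l) • s) e'
      simp only [← mul_smul, hmul] at this
      rw [show (-k + i, -l + j) = (i - k, j - l) by simp [sub_eq_add_neg, add_comm],
        neg_add_cancel, neg_add_cancel] at this
      rw [this]; simp [T]
    set m := i - k with hm
    set n := j - l with hn
    by_cases hmz : m = 0
    · by_cases hnz : n = 0
      · rw [sub_eq_zero.1 (hm.symm.trans hmz), sub_eq_zero.1 (hn.symm.trans hnz)]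
      · exfalso
        have hel : El (b ^ (n : ℕ)) := by
          have hn' : (n : ℕ) = 1 ∨ (n : ℕ) = 2 := by have := n.isLt; have : (n : ℕ) ≠ 0 := fun e => hnz (Fin.ext e); omega
          rcases hn' with e | e <;> rw [e]
          · simpa using hb.1
          · rw [show b ^ 2 = b⁻¹ by rw [eq_inv_iff_mul_eq_one, ← pow_succ]; exact hb3]; exact hb.1.inv
        apply ho
        have hfix : b ^ (n : ℕ) • o = o := by simpa [T, hmz] using e2
        have : fixSet M (b ^ (n : ℕ)) = L := by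
          refine line_unique h hel ha.1 hr ?_ ?_ hr₁L hr₂L
          · exact mem_fixSet.2 ((stabilizer G r₁).pow_mem hbr _)
          · exact mem_fixSet.2 ((stabilizer G r₂).pow_mem (hb.fix h) _)
        rw [← this]; exact mem_fixSet.2 hfix
    · exfalso
      -- the point moved along two directions
      have e3 : a ^ (m : ℕ) • o = T (0, -n) • o := by
        have := congrArg (fun s => T (0, -n) • s) e2
        simp only [← mul_smul, hmul, zero_add, neg_add_cancel] at this
        rw [← this]; simp [T]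
      have hm' : (m : ℕ) = 1 ∨ (m : ℕ) = 2 := by have := m.isLt; have : (m : ℕ) ≠ 0 := fun e => hmz (Fin.ext e); omega
      have hcenA : Cen E M r₁ (a ^ (m : ℕ)) := by
        rcases hm' with e | e <;> rw [e]
        · simpa using ha
        · rw [show a ^ 2 = a⁻¹ by rw [eq_inv_iff_mul_eq_one, ← pow_succ]; exact ha3]
          obtain ⟨A, -, hAm, -, -⟩ := exists_block h r₁
          obtain ⟨h1, h2⟩ := (hAm a).2 ha
          exact (hAm a⁻¹).1 ⟨A.inv_mem h1, inv_ne_one.2 h2⟩
      set o' := a ^ (m : ℕ) • o with ho'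
      have hfixA : fixSet M (a ^ (m : ℕ)) = L := by
        refine line_unique h hcenA.1 ha.1 hr ?_ ?_ hr₁L hr₂L
        · exact mem_fixSet.2 (hcenA.fix h)
        · exact mem_fixSet.2 ((stabilizer G r₂).pow_mem har _)
      have hoo : o ≠ o' := fun e => ho (hfixA ▸ mem_fixSet.2 e.symm)
      have hne1 : o ≠ r₁ := fun e => ho (e ▸ hr₁L)
      obtain ⟨w1, hw1, a1, a2, a3⟩ := hline hcenA o hne1
      have hne2 : o ≠ r₂ := fun e => ho (e ▸ hr₂L)
      by_cases hnz : n = 0
      · apply hoo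
        rw [ho'] at e3 ⊢
        rw [e3, hnz]; simp [T]
      have hn' : ((-n : Fin 3) : ℕ) = 1 ∨ ((-n : Fin 3) : ℕ) = 2 := by
        have := (-n : Fin 3).isLt
        have : ((-n : Fin 3) : ℕ) ≠ 0 := fun e => hnz (neg_eq_zero.1 (Fin.ext e))
        omega
      have hcenB : Cen E M r₂ (b ^ ((-n : Fin 3) : ℕ)) := by
        rcases hn' with e | e <;> rw [e]
        · simpa using hb
        · rw [show b ^ 2 = b⁻¹ by rw [eq_inv_iff_mul_eq_one, ← pow_succ]; exact hb3]
          obtain ⟨A, -, hAm, -, -⟩ := exists_block h r₂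
          obtain ⟨h1, h2⟩ := (hAm b).2 hb
          exact (hAm b⁻¹).1 ⟨A.inv_mem h1, inv_ne_one.2 h2⟩
      obtain ⟨w2, hw2, b1, b2, b3⟩ := hline hcenB o hne2
      have e4 : b ^ ((-n : Fin 3) : ℕ) • o = o' := by rw [e3]; simp [T]
      rw [e4] at b3
      have hw12 := line_unique h hw1 hw2 hoo a2 a3 b2 b3
      have := line_unique h hw1 ha.1 hr a1 (hw12 ▸ b1) hr₁L hr₂L
      exact ho (hLdef ▸ this ▸ a2)
  -- every line through o meets L
  have hmeet : ∀ v, v ∉ L → v ≠ o → ∃ r ∈ L, ∃ w, El w ∧ o ∈ fixSet M w ∧ v ∈ fixSet M w ∧ r ∈ fixSet M w := by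
    intro v hvL hvo
    have hsel : ∀ r ∈ L, ∃ w, El w ∧ o ∈ fixSet M w ∧ r ∈ fixSet M w := fun r hr' => by
      obtain ⟨c, hc, hco⟩ := exists_elation h (fun e => ho (e ▸ hr') : r ≠ o)
      exact ⟨c, hc.1, mem_fixSet.2 hco, mem_fixSet.2 (hc.fix h)⟩
    choose! c hc using hsel
    let U := L.biUnion fun r => (fixSet M (c r)).erase o
    have hU : U.card = 12 := by
      rw [Finset.card_biUnion, Finset.sum_congr rfl (g := fun _ => 3) fun r hr' => by
        rw [Finset.card_erase_of_mem (hc r hr').2.1, card_fixSet h (hc r hr').1],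
        Finset.sum_const, card_fixSet h ha.1, smul_eq_mul]
      intro r hr' s hs hne
      rw [Function.onFun, Finset.disjoint_left]
      intro x hx hx'
      rw [Finset.mem_erase] at hx hx'
      have e := line_unique h (hc r hr').1 (hc s hs).1 hx.1 hx.2 (hc r hr').2.1 hx'.2 (hc s hs).2.1
      have e2 := line_unique h (hc r hr').1 ha.1 hne (hc r hr').2.2 (e ▸ (hc s hs).2.2) hr' hs
      exact ho (hLdef ▸ e2 ▸ (hc r hr').2.1)
    have hUe : U = Finset.univ.erase o := Finset.eq_of_subset_of_card_le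
      (fun x hx => by
        obtain ⟨r, -, hx⟩ := Finset.mem_biUnion.1 hx
        exact Finset.mem_erase.2 ⟨(Finset.mem_erase.1 hx).1, Finset.mem_univ _⟩)
      (by rw [hU, Finset.card_erase_of_mem (Finset.mem_univ _), Finset.card_univ,
        ← Nat.card_eq_fintype_card, card_points h])
    obtain ⟨r, hr', hv⟩ := Finset.mem_biUnion.1 (hUe.ge (Finset.mem_erase.2 ⟨hvo, Finset.mem_univ _⟩) : v ∈ U)
    exact ⟨r, hr', c r, (hc r hr').1, (hc r hr').2.1, (Finset.mem_erase.1 hv).2, (hc r hr').2.2⟩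
  have hdne : ∀ d : Fin 4, dirs d ≠ (0, 0) := by decide
  have hTo : T (0, 0) • o = o := by simp [T]
  choose R hR using fun d : Fin 4 => hmeet (T (dirs d) • o) (hoff _)
    (fun e => hdne d (hTinj (e.trans hTo.symm)))
  -- standard lines
  have hstd : ∀ (d : Fin 4) (v : Fin 3 × Fin 3), ∃ w, El w ∧ R d ∈ fixSet M w ∧ T v • o ∈ fixSet M w ∧
      T (v.1 + (dirs d).1, v.2 + (dirs d).2) • o ∈ fixSet M w := by
    intro d v
    obtain ⟨hRL, w, hw, h1, h2, h3⟩ := hR d
    refine ⟨T v * w * (T v)⁻¹, hw.conj _, ?_, hline_smul _ hw _ h1, ?_⟩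
    · have := hline_smul (T v) hw _ h3
      rwa [hfixT v _ hRL] at this
    · have := hline_smul (T v) hw _ h2
      rwa [← mul_smul, hmul] at this
  have hfour : ∀ (d : Fin 4) (v : Fin 3 × Fin 3), ∃ w, El w ∧ R d ∈ fixSet M w ∧ T v • o ∈ fixSet M w ∧
      T (v.1 + (dirs d).1, v.2 + (dirs d).2) • o ∈ fixSet M w ∧
      T (v.1 + 2 * (dirs d).1, v.2 + 2 * (dirs d).2) • o ∈ fixSet M w := by
    intro d v
    obtain ⟨w, hw, h1, h2, h3⟩ := hstd d v
    obtain ⟨w', hw', h1', h2', h3'⟩ := hstd d (v.1 + (dirs d).1, v.2 + (dirs d).2)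
    have hne : R d ≠ T (v.1 + (dirs d).1, v.2 + (dirs d).2) • o := fun e => hoff _ (e ▸ (hR d).1)
    have e := line_unique h hw hw' hne h1 h3 h1' h2'
    refine ⟨w, hw, h1, h2, h3, ?_⟩
    rw [e]
    have two : ∀ x : Fin 3, 2 * x = x + x := by decide
    simpa [two, add_assoc] using h3'
  -- distinct ideal points
  have hsep : ∀ d d' : Fin 4, d ≠ d' → R d ≠ R d' := by
    intro d d' hdd e
    obtain ⟨w, hw, h1, h2, h3, h4⟩ := hfour d (0, 0)
    obtain ⟨w', hw', h1', h2', h3', h4'⟩ := hfour d' (0, 0)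
    have e' := line_unique h hw hw' (show R d ≠ T (0, 0) • o from fun e0 => hoff (0, 0) (e0 ▸ (hR d).1)) h1 h2 (by rw [e]; exact h1') h2'
    rw [← e'] at h3'
    have hsub : ({R d, T (0, 0) • o, T (0 + (dirs d).1, 0 + (dirs d).2) • o,
        T (0 + 2 * (dirs d).1, 0 + 2 * (dirs d).2) • o, T (0 + (dirs d').1, 0 + (dirs d').2) • o} :
        Finset (G ⧸ M)) ⊆ fixSet M w := by
      intro s hs
      simp only [Finset.mem_insert, Finset.mem_singleton] at hs
      rcases hs with rfl | rfl | rfl | rfl | rfl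
      exacts [h1, h2, h3, h4, h3']
    have hne : ∀ v, R d ≠ T v • o := fun v e0 => hoff v (e0 ▸ (hR d).1)
    have hd : ∀ d d' : Fin 4, d ≠ d' → ((0, 0) : Fin 3 × Fin 3) ≠ (0 + (dirs d).1, 0 + (dirs d).2) ∧
        ((0, 0) : Fin 3 × Fin 3) ≠ (0 + 2 * (dirs d).1, 0 + 2 * (dirs d).2) ∧
        ((0, 0) : Fin 3 × Fin 3) ≠ (0 + (dirs d').1, 0 + (dirs d').2) ∧
        (0 + (dirs d).1, 0 + (dirs d).2) ≠ (0 + 2 * (dirs d).1, 0 + 2 * (dirs d).2) ∧
        (0 + (dirs d).1, 0 + (dirs d).2) ≠ (0 + (dirs d').1, 0 + (dirs d').2) ∧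
        (0 + 2 * (dirs d).1, 0 + 2 * (dirs d).2) ≠ (0 + (dirs d').1, 0 + (dirs d').2) := by decide
    obtain ⟨n1, n2, n3, n4, n5, n6⟩ := hd d d' hdd
    have := Finset.card_le_card hsub
    rw [card_fixSet h hw, Finset.card_insert_of_notMem (by simp [hne]),
      Finset.card_insert_of_notMem (by
        simp only [Finset.mem_insert, Finset.mem_singleton, not_or]
        exact ⟨hTinj.ne n1, hTinj.ne n2, hTinj.ne n3⟩),
      Finset.card_insert_of_notMem (by
        simp only [Finset.mem_insert, Finset.mem_singleton, not_or]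
        exact ⟨hTinj.ne n4, hTinj.ne n5⟩),
      Finset.card_insert_of_notMem (by
        simp only [Finset.mem_singleton]
        exact hTinj.ne n6), Finset.card_singleton] at this
    omega
  let φ : Fin 13 → G ⧸ M := fun n =>
    if hn : n.val < 9 then T (⟨n.val % 3, Nat.mod_lt _ (by norm_num)⟩, ⟨n.val / 3, by omega⟩) • o
    else R ⟨n.val - 9, by omega⟩
  have hφa : ∀ v, φ (aidx v) = T v • o := by
    intro v
    obtain ⟨i, j⟩ := v
    have hi := i.isLt; have hj := j.isLt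
    show (if hn : i.val + 3 * j.val < 9 then _ else _) = _
    rw [dif_pos (by omega)]
    congr 2
    exact Prod.ext (Fin.ext (by show (i.val + 3 * j.val) % 3 = i.val; omega))
      (Fin.ext (by show (i.val + 3 * j.val) / 3 = j.val; omega))
  have hφi : ∀ d, φ (iidx d) = R d := by
    intro d
    show (if hn : 9 + d.val < 9 then _ else _) = _
    rw [dif_neg (by omega)]
    congr 1
    exact Fin.ext (by show 9 + d.val - 9 = d.val; omega)
  have hφinj : Function.Injective φ := by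
    intro n m e
    rcases idx_cases n with ⟨v, rfl⟩ | ⟨d, rfl⟩ <;> rcases idx_cases m with ⟨v', rfl⟩ | ⟨d', rfl⟩
    · rw [hφa, hφa] at e; rw [hTinj e]
    · rw [hφa, hφi] at e; exact absurd (e ▸ (hR d').1) (hoff v)
    · rw [hφa, hφi] at e; exact absurd (e ▸ (hR d).1) (hoff v')
    · rw [hφi, hφi] at e
      by_contra hne
      exact hsep d d' (fun e0 => hne (by rw [e0])) e
  have hφb : Function.Bijective φ := hφinj.bijective_of_nat_card_le (by
    rw [card_points h, Nat.card_fin])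
  refine ⟨Equiv.ofBijective φ hφb, fun i j k hij hik hjk => ?_⟩
  show detB i j k = true ↔ Coll M (φ i) (φ j) (φ k)
  have hfwd : ∀ i j k, i ≠ j → i ≠ k → j ≠ k → detB i j k = true → Coll M (φ i) (φ j) (φ k) := by
    intro i j k hij hik hjk hd
    rw [detB_onLine i j k hij hik hjk] at hd
    simp only [onLine, Bool.or_eq_true, Bool.and_eq_true, decide_eq_true_eq, List.any_eq_true, beq_iff_eq,
      List.mem_finRange, true_and] at hd
    rcases hd with ⟨⟨h1, h2⟩, h3⟩ | ⟨d, a', b', ⟨⟨m1, e1⟩, ⟨m2, e2⟩⟩, ⟨m3, e3⟩⟩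
    · have key : ∀ n : Fin 13, 9 ≤ n.val → φ n ∈ L := fun n hn => by
        rcases idx_cases n with ⟨v, rfl⟩ | ⟨d, rfl⟩
        · exfalso; simp [aidx] at hn; omega
        · rw [hφi]; exact (hR d).1
      exact ⟨a, ha.1, key i h1, key j h2, key k h3⟩
    · obtain ⟨w, hw, k1, k2, k3, k4⟩ := hfour d (a', b')
      have key : ∀ m : Fin 4, φ (stdLine d (a', b') m) ∈ fixSet M w := by
        intro m
        fin_cases m
        · show φ (iidx d) ∈ _; rw [hφi]; exact k1
        · show φ (aidx _) ∈ _; rw [hφa]; exact k2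
        · show φ (aidx _) ∈ _; rw [hφa]; exact k3
        · show φ (aidx _) ∈ _; rw [hφa]; exact k4
      exact ⟨w, hw, e1 ▸ key m1, e2 ▸ key m2, e3 ▸ key m3⟩
  refine ⟨hfwd i j k hij hik hjk, fun hc => ?_⟩
  obtain ⟨p, q, hpi, hpj, hqi, hqj, hpq, hp, hq⟩ := exists_third i j hij
  by_contra hne
  rw [Bool.not_eq_true] at hne
  have hkp : k ≠ p := fun e => by rw [e, hp] at hne; exact Bool.noConfusion hne
  have hkq : k ≠ q := fun e => by rw [e, hq] at hne; exact Bool.noConfusion hne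
  obtain ⟨w, hw, w1, w2, w3⟩ := hc
  obtain ⟨u, hu, u1, u2, u3⟩ := hfwd i j p hij (Ne.symm hpi) (Ne.symm hpj) hp
  obtain ⟨v, hv, v1, v2, v3⟩ := hfwd i j q hij (Ne.symm hqi) (Ne.symm hqj) hq
  have e1 := line_unique h hw hu (hφinj.ne hij) w1 w2 u1 u2
  have e2 := line_unique h hw hv (hφinj.ne hij) w1 w2 v1 v2
  have hsub : ({φ i, φ j, φ k, φ p, φ q} : Finset (G ⧸ M)) ⊆ fixSet M w := by
    intro s hs
    simp only [Finset.mem_insert, Finset.mem_singleton] at hs
    rcases hs with rfl | rfl | rfl | rfl | rfl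
    exacts [w1, w2, w3, e1 ▸ u3, e2 ▸ v3]
  have := Finset.card_le_card hsub
  rw [card_fixSet h hw, Finset.card_insert_of_notMem (by simp [hφinj.ne hij, hφinj.ne hik, hφinj.ne (Ne.symm hpi), hφinj.ne (Ne.symm hqi)]),
    Finset.card_insert_of_notMem (by simp [hφinj.ne hjk, hφinj.ne (Ne.symm hpj), hφinj.ne (Ne.symm hqj)]),
    Finset.card_insert_of_notMem (by simp [hφinj.ne hkp, hφinj.ne hkq]),
    Finset.card_insert_of_notMem (by simp [hφinj.ne hpq]), Finset.card_singleton] at this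
  omega

end Cfsg.Agent.Lib.Characters.LThreeThree
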