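import Cfsg.Agent.Lib.Characters.LThreeThree.Facts
import Cfsg.Agent.Lib.SylowCounting.Counting
import Cfsg.Agent.Lib.SylowCounting.Tools

/-!
# The three-local structure in order 5616
-/

set_option autoImplicit false
set_option linter.style.haveILetI false

namespace Cfsg.Agent.Lib.Characters.LThreeThree

open Cfsg Cfsg.Agent.Lib.Characters Cfsg.Agent.Lib.Characters.GLTwoThree
open Cfsg.Agent.Lib.SylowCounting

variable {G : Type*} [Group G] [Finite G] {t : G}

/-- Elements of order three with centraliser of even order. -/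
def El (w : G) : Prop := orderOf w = 3 ∧ ∃ s : G, orderOf s = 2 ∧ Commute s w

omit [Finite G] in
theorem El.conj {w : G} (hw : El w) (g : G) : El (g * w * g⁻¹) := by
  obtain ⟨h3, s, hs, hc⟩ := hw
  refine ⟨(orderOf_conj' g w).trans h3, g * s * g⁻¹, (orderOf_conj' g s).trans hs, ?_⟩
  show g * s * g⁻¹ * (g * w * g⁻¹) = g * w * g⁻¹ * (g * s * g⁻¹)
  rw [show g * s * g⁻¹ * (g * w * g⁻¹) = g * (s * w) * g⁻¹ by group, hc.eq]
  group

omit [Finite G] in
theorem El.inv {w : G} (hw : El w) : El w⁻¹ := by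
  obtain ⟨h3, s, hs, hc⟩ := hw
  exact ⟨by rw [orderOf_inv, h3], s, hs, hc.inv_right⟩

theorem Hyp.model_of_three (h : Hyp G t) {w : G} (hw : orderOf w = 3) (hc : w * t = t * w) :
    ∃ q : G23, cls q = 6 ∧ h.ι q = w := by
  obtain ⟨q, rfl⟩ := h.exists_ι hc
  refine ⟨q, order_three_class q (h.ι_injective ?_) (fun e => ?_), rfl⟩
  · rw [map_mul, map_mul, map_one, ← pow_three', ← hw, pow_orderOf_eq_one]
  · rw [e, map_one, orderOf_one] at hw
    norm_num at hw

theorem Hyp.el_conj (h : Hyp G t) {v w : G} (hv : El v) (hw : El w) : IsConj v w := by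
  have key : ∀ {v : G}, El v → ∃ q : G23, cls q = 6 ∧ IsConj v (h.ι q) := by
    rintro v ⟨h3, s, hs, hc⟩
    obtain ⟨g, hg⟩ := isConj_iff.1 (h.involutions hs).symm
    obtain ⟨q, hq, hqe⟩ := h.model_of_three (w := g * v * g⁻¹) ((orderOf_conj' g v).trans h3) (by
      rw [← hg, show g * v * g⁻¹ * (g * s * g⁻¹) = g * (v * s) * g⁻¹ by group, ← hc.eq]
      group)
    exact ⟨q, hq, hqe.symm ▸ isConj_iff.2 ⟨g, rfl⟩⟩
  obtain ⟨q, hq, e1⟩ := key hv
  obtain ⟨r, hr, e2⟩ := key hw
  obtain ⟨a, ha⟩ := exists_conj_rep q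
  obtain ⟨b, hb⟩ := exists_conj_rep r
  rw [hq] at ha; rw [hr] at hb
  refine e1.trans (IsConj.trans ?_ e2.symm)
  rw [← ha, ← hb]
  exact h.ι.map_isConj (((isConj_iff.2 ⟨a, rfl⟩ : IsConj (rep 6) _).symm).trans
    (isConj_iff.2 ⟨b, rfl⟩))

set_option synthInstance.maxSize 4096 in
set_option synthInstance.maxHeartbeats 400000 in
theorem three_cases : ∀ q p : G23, cls q = 6 → p * q = q * p →
    (∃ k : Fin 3, p = q ^ (k : ℕ)) ∨ (∃ k : Fin 3, p = neg1 * q ^ (k : ℕ)) := by decide +kernel

/-- The three-part of an involution centraliser. -/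
theorem Hyp.fixed_three (h : Hyp G t) {x w : G} (hx : orderOf x = 3) (hxt : x * t = t * x)
    (hwx : Commute w x) (hwt : w * t = t * w) : w ∈ Subgroup.zpowers x ∨ ∃ v ∈ Subgroup.zpowers x, w = t * v := by
  classical
  obtain ⟨q, hq, rfl⟩ := h.model_of_three hx hxt
  obtain ⟨p, rfl⟩ := h.exists_ι hwt
  have hc : p * q = q * p := h.ι_injective (by rw [map_mul, map_mul]; exact hwx.eq)
  rcases three_cases q p hq hc with ⟨k, rfl⟩ | ⟨k, rfl⟩
  · left; rw [map_pow]; exact Subgroup.npow_mem_zpowers _ _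
  · right
    refine ⟨h.ι q ^ (k : ℕ), Subgroup.npow_mem_zpowers _ _, ?_⟩
    rw [map_mul, map_pow, h.ι_neg]

section Order

variable [IsSimpleGroup G]

theorem Hyp.noncomm (h : Hyp G t) : ¬ IsMulCommutative G := fun hc =>
  GLTwoThree.noncomm (h.ι_injective (by rw [map_mul, map_mul]; exact hc.is_comm.comm _ _))

theorem Hyp.sylow_three_card (h : Hyp G t) (hG : Nat.card G = 5616) [Fact (Nat.Prime 3)]
    (P : Sylow 3 G) : Nat.card (P : Subgroup G) = 27 := by
  simpa using sylow_card (p := 3) (k := 3) (m := 208) (by rw [hG]; norm_num) (by norm_num) P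

set_option maxHeartbeats 1600000 in
/-- An element of order three commutes with no element of order thirteen. -/
theorem Hyp.no_thirteen (h : Hyp G t) (hG : Nat.card G = 5616) {w d : G} (hw : orderOf w = 3)
    (hd : orderOf d = 13) : ¬ Commute w d := by
  classical
  intro hc
  haveI : Fact (Nat.Prime 13) := ⟨by norm_num⟩
  obtain ⟨P, hP⟩ := (IsPGroup.of_card (p := 13) (n := 1) (G := Subgroup.zpowers d)
    (by rw [Nat.card_zpowers, hd, pow_one])).exists_le_sylow
  have hPc : Nat.card (P : Subgroup G) = 13 := by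
    simpa using sylow_card (p := 13) (k := 1) (m := 432) (by rw [hG]; norm_num) (by norm_num) P
  have hPe : Subgroup.zpowers d = (P : Subgroup G) :=
    Subgroup.eq_of_le_of_card_ge hP (by rw [Nat.card_zpowers, hd, hPc])
  obtain ⟨e, c, hN, he1, he, h13c, hcc⟩ := normalizer_card_eq h.noncomm P hPc
  have hidx := Subgroup.card_mul_index (Subgroup.normalizer ((P : Subgroup G) : Set G))
  rw [hN, hG] at hidx
  have hn := Sylow.card_eq_index_normalizer P
  rw [← P.coe_coe] at hn
  rw [← hn] at hidx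
  have hmem : Nat.card (Sylow 13 G) ∈ Nat.divisors 432 :=
    Nat.mem_divisors.2 ⟨sylow_count_dvd (p := 13) (k := 1) (m := 432) (by rw [hG]; norm_num) (by norm_num),
      by norm_num⟩
  have hlist : ∀ n ∈ Nat.divisors 432, n % 13 = 1 → n ∈ ({1, 27, 144} : Finset ℕ) := by decide +kernel
  have hn' := hlist _ hmem (sylow_count_mod 13)
  simp only [Finset.mem_insert, Finset.mem_singleton] at hn'
  have hw' : 3 ∣ c := by
    rw [hcc, ← hw]
    refine Subgroup.orderOf_dvd_natCard _ (Subgroup.mem_centralizer_iff.2 fun v hv => ?_)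
    rw [SetLike.mem_coe, ← hPe] at hv
    obtain ⟨i, rfl⟩ := hv
    exact ((hc.zpow_right i).eq).symm
  have hev : ¬ 2 ∣ c := by
    rw [hcc]
    intro h2
    haveI : Fact (Nat.Prime 2) := ⟨Nat.prime_two⟩
    obtain ⟨⟨s, hs⟩, hso⟩ := exists_prime_orderOf_dvd_card' 2 h2
    rw [Subgroup.orderOf_mk] at hso
    obtain ⟨h'⟩ := h.conj hso
    have hmem : d ∈ Subgroup.centralizer ({s} : Set G) := Subgroup.mem_centralizer_singleton_iff.2
      (Subgroup.mem_centralizer_iff.1 hs d (hP (Subgroup.mem_zpowers d)))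
    have := Subgroup.orderOf_dvd_natCard _ hmem
    rw [hd, h'.card_cent] at this
    norm_num at this
  obtain ⟨c', rfl⟩ := h13c
  have he12 : e ∈ Nat.divisors 12 := Nat.mem_divisors.2 ⟨he, by norm_num⟩
  rw [show Nat.divisors 12 = {1, 2, 3, 4, 6, 12} by decide +kernel] at he12
  simp only [Finset.mem_insert, Finset.mem_singleton] at he12
  rcases hn' with e1 | e1 | e1 <;> rw [e1] at hidx <;>
    rcases he12 with rfl | rfl | rfl | rfl | rfl | rfl <;> omega

/-- The centraliser of an element of order three in an involution centraliser. -/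
theorem Hyp.cent_card (h : Hyp G t) (hG : Nat.card G = 5616) {x : G} (hx : orderOf x = 3)
    (hxt : x * t = t * x) : ∃ a : ℕ, 2 ≤ a ∧ a ≤ 3 ∧
      Nat.card (Subgroup.centralizer ({x} : Set G)) = 2 * 3 ^ a := by
  classical
  haveI : Fact (Nat.Prime 2) := ⟨Nat.prime_two⟩
  haveI : Fact (Nat.Prime 3) := ⟨Nat.prime_three⟩
  haveI : Fact (Nat.Prime 13) := ⟨by norm_num⟩
  set C := Subgroup.centralizer ({x} : Set G) with hC
  have hCd : Nat.card C ∣ 5616 := hG ▸ C.card_subgroup_dvd_card
  have h13 : ¬ 13 ∣ Nat.card C := fun h13 => by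
    obtain ⟨⟨d, hd⟩, hdo⟩ := exists_prime_orderOf_dvd_card' 13 h13
    rw [Subgroup.orderOf_mk] at hdo
    exact h.no_thirteen hG hx hdo (Subgroup.mem_centralizer_singleton_iff.1 hd).symm
  have htC : t ∈ C := Subgroup.mem_centralizer_singleton_iff.2 hxt.symm
  have h2C : 2 ∣ Nat.card C := h.inv ▸ C.orderOf_dvd_natCard htC
  have h4C : ¬ 4 ∣ Nat.card C := by
    intro h4
    obtain ⟨T, hT⟩ := (IsPGroup.of_card (p := 2) (n := 1) (G := Subgroup.zpowers (⟨t, htC⟩ : C))
      (by rw [Nat.card_zpowers, ← Subgroup.orderOf_coe, h.inv, pow_one])).exists_le_sylow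
    haveI : Nontrivial (T : Subgroup C) := by
      rw [← Finite.one_lt_card_iff_nontrivial]
      exact Nat.lt_of_lt_of_le Nat.one_lt_two (Nat.le_of_dvd Nat.card_pos (T.dvd_card_of_dvd_card h2C))
    haveI := T.2.center_nontrivial
    obtain ⟨z, hz⟩ := exists_prime_orderOf_dvd_card' 2 (G := Subgroup.center (T : Subgroup C)) (by
      obtain ⟨j, hj⟩ := IsPGroup.iff_card.1 (T.2.to_subgroup (Subgroup.center (T : Subgroup C)))
      rcases j with - | j
      · exact absurd hj (by simpa using (Finite.one_lt_card (α := Subgroup.center (T : Subgroup C))).ne')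
      · exact ⟨2 ^ j, by rw [hj, pow_succ, mul_comm]⟩)
    set z' : G := (((z : (T : Subgroup C)) : C) : G) with hz'
    have hz2 : orderOf z' = 2 := by
      rw [hz', Subgroup.orderOf_coe, Subgroup.orderOf_coe, Subgroup.orderOf_coe, hz]
    have hzx : Commute z' x := Subgroup.mem_centralizer_singleton_iff.1 ((z : (T : Subgroup C)) : C).2
    have hcomm : ∀ v ∈ (T : Subgroup C), (v : G) * z' = z' * (v : G) := fun v hv =>
      congrArg (fun u : (T : Subgroup C) => ((u : C) : G)) (Subgroup.mem_center_iff.1 z.2 ⟨v, hv⟩)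
    have hzt : z' * t = t * z' := (hcomm ⟨t, htC⟩ (hT (Subgroup.mem_zpowers _))).symm
    have hz1 : z' = t := by
      rcases h.fixed_three hx hxt hzx hzt with hm | ⟨v, hv, e⟩
      · exfalso
        have := (Subgroup.zpowers x).orderOf_dvd_natCard hm
        rw [Nat.card_zpowers, hx, hz2] at this
        norm_num at this
      · have hvt : Commute t v := by
          obtain ⟨i, rfl⟩ := hv
          exact Commute.zpow_right (show Commute t x from hxt.symm) i
        have hv2 : v * v = 1 := by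
          have := (orderOf_two_iff.1 hz2).1
          rw [e, show t * v * (t * v) = t * (v * t) * v by group, ← hvt.eq,
            show t * (t * v) * v = (t * t) * (v * v) by group, (orderOf_two_iff.1 h.inv).1, one_mul] at this
          exact this
        have hv3 : orderOf v ∣ 3 := by
          have := (Subgroup.zpowers x).orderOf_dvd_natCard hv
          rwa [Nat.card_zpowers, hx] at this
        have hv1 : v = 1 := orderOf_eq_one_iff.1 (Nat.eq_one_of_dvd_coprimes (by norm_num : Nat.Coprime 2 3)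
          (orderOf_dvd_iff_pow_eq_one.2 (by rw [sq]; exact hv2)) hv3)
        rw [e, hv1, mul_one]
    have h4T : 4 ∣ Nat.card (T : Subgroup C) := T.pow_dvd_card_of_pow_dvd_card (n := 2) h4
    let S' := (T : Subgroup C).map C.subtype
    have hle : S' ≤ C ⊓ Subgroup.centralizer ({t} : Set G) := by
      rintro _ ⟨v, hv, rfl⟩
      exact ⟨v.2, Subgroup.mem_centralizer_singleton_iff.2 (hz1 ▸ hcomm v hv)⟩
    have hfin : Nat.card (C ⊓ Subgroup.centralizer ({t} : Set G) : Subgroup G) ≤ 6 := by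
      obtain ⟨q, hq, hqx⟩ := h.model_of_three hx hxt
      let f : (C ⊓ Subgroup.centralizer ({t} : Set G) : Subgroup G) → {p : G23 // p * q = q * p} := fun v =>
        ⟨Classical.choose (h.exists_ι (Subgroup.mem_centralizer_singleton_iff.1 v.2.2)), h.ι_injective (by
          rw [map_mul, map_mul, Classical.choose_spec (h.exists_ι (Subgroup.mem_centralizer_singleton_iff.1 v.2.2)),
            hqx]
          exact Subgroup.mem_centralizer_singleton_iff.1 v.2.1)⟩
      have hf : Function.Injective f := fun v w e => Subtype.ext (by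
        rw [← Classical.choose_spec (h.exists_ι (Subgroup.mem_centralizer_singleton_iff.1 v.2.2)),
          ← Classical.choose_spec (h.exists_ι (Subgroup.mem_centralizer_singleton_iff.1 w.2.2))]
        exact congrArg (fun u : {p : G23 // p * q = q * p} => h.ι u.1) e)
      have h1 := Nat.card_le_card_of_injective f hf
      rwa [Nat.card_eq_fintype_card (α := {p : G23 // p * q = q * p}), Fintype.card_subtype,
        three_centralizer q hq] at h1
    have h4' : 4 ∣ Nat.card S' := by
      rwa [Subgroup.card_map_of_injective C.subtype_injective]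
    have hd6 := h4'.trans (Subgroup.card_dvd_of_le hle)
    have h6 : 6 ∣ Nat.card (C ⊓ Subgroup.centralizer ({t} : Set G) : Subgroup G) := by
      refine Nat.Coprime.mul_dvd_of_dvd_of_dvd (by norm_num : Nat.Coprime 2 3) ?_ ?_
      · exact h.inv ▸ Subgroup.orderOf_dvd_natCard _
          ⟨htC, Subgroup.mem_centralizer_singleton_iff.2 rfl⟩
      · exact hx ▸ Subgroup.orderOf_dvd_natCard _
          ⟨Subgroup.mem_centralizer_singleton_iff.2 rfl, Subgroup.mem_centralizer_singleton_iff.2 hxt⟩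
    have := Nat.le_of_dvd Nat.card_pos (Nat.lcm_dvd hd6 h6)
    rw [show Nat.lcm 4 6 = 12 from rfl] at this
    omega
  -- nine divides the order
  have h9 : 9 ∣ Nat.card C := by
    obtain ⟨P, hP⟩ := (IsPGroup.of_card (p := 3) (n := 1) (G := Subgroup.zpowers x)
      (by rw [Nat.card_zpowers, hx, pow_one])).exists_le_sylow
    have hPc := h.sylow_three_card hG P
    haveI : Nontrivial (P : Subgroup G) := Finite.one_lt_card_iff_nontrivial.1 (by rw [hPc]; norm_num)
    haveI := P.2.center_nontrivial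
    by_cases hz : x ∈ (Subgroup.center (P : Subgroup G)).map (P : Subgroup G).subtype
    · obtain ⟨⟨x', hx'⟩, hc', hxe⟩ := hz
      have hle : (P : Subgroup G) ≤ C := fun v hv => Subgroup.mem_centralizer_singleton_iff.2 (by
        rw [← hxe]; exact congrArg Subtype.val (Subgroup.mem_center_iff.1 hc' ⟨v, hv⟩))
      exact (by norm_num : 9 ∣ 27).trans (hPc ▸ Subgroup.card_dvd_of_le hle)
    · obtain ⟨z, hz1⟩ := exists_ne (1 : Subgroup.center (P : Subgroup G))
      set z' : G := ((z : (P : Subgroup G)) : G) with hz'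
      have hzx : Commute z' x :=
        (congrArg Subtype.val (Subgroup.mem_center_iff.1 z.2 ⟨x, hP (Subgroup.mem_zpowers x)⟩)).symm
      let H : Subgroup G := Subgroup.closure {x, z'}
      have hHC : H ≤ C := (Subgroup.closure_le _).2 (by
        rintro v (rfl | rfl)
        · exact Subgroup.mem_centralizer_singleton_iff.2 rfl
        · exact Subgroup.mem_centralizer_singleton_iff.2 hzx.eq)
      have hHP : H ≤ P := (Subgroup.closure_le _).2 (by
        rintro v (rfl | rfl)
        · exact hP (Subgroup.mem_zpowers _)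
        · exact (z : (P : Subgroup G)).2)
      obtain ⟨j, hj⟩ := IsPGroup.iff_card.1 (P.2.to_le hHP)
      have hx2 : Subgroup.zpowers x ≤ H := Subgroup.zpowers_le.2 (Subgroup.subset_closure (Set.mem_insert _ _))
      have h3le : 3 ∣ Nat.card H := by
        rw [← hx, ← Nat.card_zpowers]; exact Subgroup.card_dvd_of_le hx2
      rcases Nat.lt_or_ge j 2 with hj2 | hj2
      · exfalso
        have hHe : Subgroup.zpowers x = H := Subgroup.eq_of_le_of_card_ge hx2 (by
          rw [hj, Nat.card_zpowers, hx]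
          calc 3 ^ j ≤ 3 ^ 1 := Nat.pow_le_pow_right (by norm_num) (by omega)
            _ = 3 := pow_one 3)
        have hzm : z' ∈ Subgroup.zpowers x := hHe.ge (Subgroup.subset_closure (Set.mem_insert_of_mem _ rfl))
        have hz1' : z' ≠ 1 := fun e => hz1 (Subtype.ext (Subtype.ext e))
        have he : Subgroup.zpowers z' = Subgroup.zpowers x := by
          refine Subgroup.eq_of_le_of_card_ge (Subgroup.zpowers_le.2 hzm) ?_
          rw [Nat.card_zpowers, Nat.card_zpowers, hx]
          have := (Subgroup.zpowers x).orderOf_dvd_natCard hzm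
          rw [Nat.card_zpowers, hx] at this
          rcases (Nat.dvd_prime Nat.prime_three).1 this with e | e
          · exact absurd (orderOf_eq_one_iff.1 e) hz1'
          · rw [e]
        obtain ⟨i, hi⟩ := he.ge (Subgroup.mem_zpowers x)
        apply hz
        exact ⟨(z : (P : Subgroup G)) ^ i, Subgroup.zpow_mem _ z.2 i, by simpa using hi⟩
      · exact ((pow_dvd_pow 3 hj2).trans (dvd_of_eq hj.symm)).trans (Subgroup.card_dvd_of_le hHC)
  obtain ⟨c, hc⟩ := h2C
  have hc' : c ∣ 2808 := by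
    have h1 : 2 * c ∣ 2 * 2808 := hc ▸ hCd
    exact Nat.dvd_of_mul_dvd_mul_left (by norm_num) h1
  have hlist : ∀ d ∈ Nat.divisors 2808, ¬ 2 ∣ d → ¬ 13 ∣ d → 9 ∣ d → d = 3 ^ 2 ∨ d = 3 ^ 3 := by
    decide +kernel
  rcases hlist c (Nat.mem_divisors.2 ⟨hc', by norm_num⟩)
      (fun h2 => h4C (hc ▸ by obtain ⟨m, rfl⟩ := h2; exact ⟨m, by ring⟩))
      (fun h13' => h13 (hc ▸ h13'.mul_left 2))
      ((Nat.Coprime.dvd_mul_left (by norm_num : Nat.Coprime 9 2)).1 (hc ▸ h9)) with e | e
  · exact ⟨2, le_rfl, by norm_num, by rw [hc, e]⟩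
  · exact ⟨3, by norm_num, le_rfl, by rw [hc, e]⟩

omit [IsSimpleGroup G] in
/-- An involution normalising a subgroup of odd order fixes a nontrivial element or inverts it. -/
theorem fixed_or_inverts {s : G} (hs : orderOf s = 2) (N : Subgroup G)
    (hN : ∀ n ∈ N, s * n * s⁻¹ ∈ N) :
    (∃ n ∈ N, n ≠ 1 ∧ s * n * s⁻¹ = n) ∨ ∀ n ∈ N, s * n * s⁻¹ = n⁻¹ := by
  by_contra hc
  push Not at hc
  obtain ⟨hfree, n, hn, hne⟩ := hc
  let φ : N →* N :=
    { toFun := fun x => ⟨s * x * s⁻¹, hN _ x.2⟩
      map_one' := Subtype.ext (by simp)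
      map_mul' := fun x y => Subtype.ext (by simp [mul_assoc]) }
  have hφ : MonoidHom.FixedPointFree φ := fun x hx => by
    by_contra h1
    exact hfree x x.2 (fun e => h1 (Subtype.ext e)) (congrArg Subtype.val hx)
  have h2 : Function.Involutive φ := fun x => Subtype.ext (by
    show s * (s * (x : G) * s⁻¹) * s⁻¹ = x
    rw [inv_eq_self_of_orderOf_two hs]
    calc s * (s * (x : G) * s) * s = (s * s) * x * (s * s) := by group
      _ = x := by rw [(orderOf_two_iff.1 hs).1, one_mul, mul_one])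
  exact hne (congrArg Subtype.val (congrFun (hφ.coe_eq_inv_of_involutive h2) ⟨n, hn⟩))

omit [IsSimpleGroup G] in
theorem card_cent_conj {v w : G} (h : IsConj v w) :
    Nat.card (Subgroup.centralizer ({v} : Set G)) = Nat.card (Subgroup.centralizer ({w} : Set G)) := by
  have e1 := card_conj_mul_card_centralizer v
  have e2 := card_conj_mul_card_centralizer w
  have e : Nat.card {a : G // IsConj v a} = Nat.card {a : G // IsConj w a} :=
    Nat.card_congr (Equiv.subtypeEquivRight fun a => ⟨fun h' => h.symm.trans h', fun h' => h.trans h'⟩)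
  rw [← e2, ← e] at e1
  haveI : Nonempty {a : G // IsConj v a} := ⟨⟨v, IsConj.refl v⟩⟩
  exact Nat.eq_of_mul_eq_mul_left Nat.card_pos e1

/-- The set up: an element of order three in the involution centraliser and an inverter. -/
theorem Hyp.exists_pair (h : Hyp G t) : ∃ x u : G, orderOf x = 3 ∧ x * t = t * x ∧
    orderOf u = 2 ∧ u * t = t * u ∧ orderOf (u * t) = 2 ∧ u * x * u⁻¹ = x⁻¹ := by
  have hq : cls (rep 6) = 6 := cls_rep 6
  obtain ⟨p, hp2, hp1, hpn, hpq⟩ := three_inverter _ hq
  have hq3 : rep 6 * rep 6 * rep 6 = 1 ∧ rep 6 ≠ 1 := by decide +kernel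
  refine ⟨h.ι (rep 6), h.ι p, ?_, h.ι_comm _, ?_, h.ι_comm _, ?_, ?_⟩
  · refine orderOf_eq_prime ?_ fun e => hq3.2 (h.ι_injective (e.trans (map_one _).symm))
    rw [pow_three', ← map_mul, ← map_mul, hq3.1, map_one]
  · exact orderOf_two_iff.2 ⟨by rw [← map_mul, hp2, map_one], fun e => hp1 (h.ι_injective (e.trans (map_one _).symm))⟩
  · obtain ⟨ht2, -⟩ := orderOf_two_iff.1 h.inv
    refine orderOf_two_iff.2 ⟨?_, fun e => hpn (h.ι_injective ?_)⟩
    · rw [show h.ι p * t * (h.ι p * t) = h.ι p * (t * h.ι p) * t by group, ← h.ι_comm p,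
        show h.ι p * (h.ι p * t) * t = h.ι p * h.ι p * (t * t) by group, ht2, mul_one, ← map_mul, hp2,
        map_one]
    · rw [h.ι_neg, mul_eq_one_iff_eq_inv.1 e, inv_eq_self_of_orderOf_two h.inv]
  · have hpi : p⁻¹ = p := inv_eq_of_mul_eq_one_right hp2
    rw [← map_inv, hpi, ← map_mul, ← map_mul, hpq, map_inv]

/-- The odd part of the centraliser of an element of order three. -/
theorem Hyp.exists_core (h : Hyp G t) (hG : Nat.card G = 5616) {x : G} (hx : orderOf x = 3)
    (hxt : x * t = t * x) : ∃ (O : Subgroup G) (a : ℕ), 2 ≤ a ∧ a ≤ 3 ∧ Nat.card O = 3 ^ a ∧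
      O ≤ Subgroup.centralizer ({x} : Set G) ∧ x ∈ O ∧
      Nat.card (Subgroup.centralizer ({x} : Set G)) = 2 * 3 ^ a ∧
      (∀ g ∈ Subgroup.centralizer ({x} : Set G), orderOf g ∣ 27 → g ∈ O) ∧
      ∀ g : G, (g * x * g⁻¹ = x ∨ g * x * g⁻¹ = x⁻¹) → ∀ v ∈ O, g * v * g⁻¹ ∈ O := by
  haveI : Fact (Nat.Prime 3) := ⟨Nat.prime_three⟩
  obtain ⟨a, ha2, ha3, hC⟩ := h.cent_card hG hx hxt
  set C := Subgroup.centralizer ({x} : Set G) with hCdef
  let T : Sylow 3 C := default
  have hT : Nat.card (T : Subgroup C) = 3 ^ a :=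
    sylow_card (p := 3) (k := a) (m := 2) (by rw [hC, mul_comm]) (by norm_num) T
  have hTi : (T : Subgroup C).index = 2 := by
    have := (T : Subgroup C).card_mul_index
    rw [hT, hC, mul_comm 2 (3 ^ a)] at this
    exact Nat.eq_of_mul_eq_mul_left (pow_pos (by norm_num) a) this
  haveI : (T : Subgroup C).Normal := Subgroup.normal_of_index_eq_two hTi
  have hall : ∀ g ∈ C, orderOf g ∣ 27 → g ∈ (T : Subgroup C).map C.subtype := by
    intro g hg hd
    refine ⟨⟨g, hg⟩, ?_, rfl⟩
    rw [SetLike.mem_coe, ← QuotientGroup.eq_one_iff, ← orderOf_eq_one_iff]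
    refine Nat.eq_one_of_dvd_coprimes (by norm_num : Nat.Coprime 27 2)
      ((orderOf_map_dvd (QuotientGroup.mk' (T : Subgroup C)) ⟨g, hg⟩).trans
        (by rwa [← Subgroup.orderOf_coe])) ?_
    rw [← hTi]; exact orderOf_dvd_natCard _
  refine ⟨(T : Subgroup C).map C.subtype, a, ha2, ha3,
    by rw [Subgroup.card_map_of_injective C.subtype_injective, hT], Subgroup.map_subtype_le _,
    hall x (Subgroup.mem_centralizer_singleton_iff.2 rfl) (hx ▸ by norm_num), hC, hall, ?_⟩
  intro g hg v hv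
  obtain ⟨w, hw, rfl⟩ := hv
  refine hall _ (Subgroup.mem_centralizer_singleton_iff.2 ?_) ?_
  · have hwx : Commute (w : G) x := Subgroup.mem_centralizer_singleton_iff.1 w.2
    have h1 : Commute (g * (w : G) * g⁻¹) (g * x * g⁻¹) := by
      show g * (w : G) * g⁻¹ * (g * x * g⁻¹) = g * x * g⁻¹ * (g * (w : G) * g⁻¹)
      rw [show g * (w : G) * g⁻¹ * (g * x * g⁻¹) = g * ((w : G) * x) * g⁻¹ by group, hwx.eq]
      group
    rcases hg with e | e <;> rw [e] at h1
    · exact h1.eq
    · exact (Commute.inv_right_iff.1 h1).eq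
  · have hd : orderOf (w : G) ∣ 3 ^ a := by
      rw [Subgroup.orderOf_coe]; exact hT ▸ (T : Subgroup C).orderOf_dvd_natCard hw
    rw [show C.subtype w = (w : G) from rfl, orderOf_conj']
    exact hd.trans (pow_dvd_pow 3 ha3)

/-- The centraliser has order fifty-four. -/
theorem Hyp.cent_fifty_four (h : Hyp G t) (hG : Nat.card G = 5616) {x : G} (hx : orderOf x = 3)
    (hxt : x * t = t * x) : Nat.card (Subgroup.centralizer ({x} : Set G)) = 54 := by
  classical
  haveI : Fact (Nat.Prime 3) := ⟨Nat.prime_three⟩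
  obtain ⟨x', u, hx', hxt', hu, hut, hut2, hux⟩ := h.exists_pair
  have hel : ∀ {w : G}, orderOf w = 3 → w * t = t * w → El w := fun hw hc =>
    ⟨hw, t, h.inv, hc.symm⟩
  rw [card_cent_conj (h.el_conj (hel hx hxt) (hel hx' hxt'))]
  clear hx hxt x
  obtain ⟨O, a, ha2, ha3, hO, hOC, hxO, hC, hall, hnorm⟩ := h.exists_core hG hx' hxt'
  rcases Nat.lt_or_ge a 3 with ha | ha
  swap
  · rw [hC, show a = 3 by omega]; norm_num
  exfalso
  obtain rfl : a = 2 := by omega
  have hO9 : Nat.card O = 9 := hO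
  have htn : ∀ v ∈ O, t * v * t⁻¹ ∈ O := hnorm t (Or.inl (by
    rw [← hxt', mul_inv_cancel_right]))
  have hun : ∀ v ∈ O, u * v * u⁻¹ ∈ O := hnorm u (Or.inr hux)
  have hutx : u * t * x' * (u * t)⁻¹ = x'⁻¹ := by
    calc u * t * x' * (u * t)⁻¹ = u * (t * x' * t⁻¹) * u⁻¹ := by group
      _ = x'⁻¹ := by rw [← hxt', mul_inv_cancel_right, hux]
  have hutn : ∀ v ∈ O, u * t * v * (u * t)⁻¹ ∈ O := hnorm (u * t) (Or.inr hutx)
  have hord : ∀ v ∈ O, orderOf v ∣ 3 := by
    intro v hv
    by_contra h3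
    have hd : orderOf v ∣ 3 ^ 2 := hO ▸ O.orderOf_dvd_natCard hv
    obtain ⟨i, hi, e⟩ := (Nat.dvd_prime_pow Nat.prime_three).1 hd
    rw [e] at h3
    interval_cases i <;> norm_num at h3
    have hcyc : Subgroup.zpowers v = O := Subgroup.eq_of_le_of_card_ge (Subgroup.zpowers_le.2 hv)
      (by rw [Nat.card_zpowers, e, hO])
    -- an element of order nine cannot have x among its powers and an inverter fixing a point
    rcases fixed_or_inverts h.inv O htn with ⟨n, hn, hn1, hfix⟩ | hinv
    · obtain ⟨i, hi⟩ := hcyc.ge hn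
      have h1 : t * v * t⁻¹ ∈ Subgroup.zpowers v := hcyc.ge (htn v hv)
      obtain ⟨m, hm⟩ := h1
      have hvC : Commute v x' := Subgroup.mem_centralizer_singleton_iff.1 (hOC hv)
      obtain ⟨j, hj⟩ := hcyc.ge hxO
      have hfix' : (v ^ j) ^ m = v ^ j := by
        rw [← zpow_mul, mul_comm, zpow_mul, show v ^ m = t * v * t⁻¹ from hm, ← MulAut.conj_apply,
          ← map_zpow, MulAut.conj_apply, show v ^ j = x' from hj, ← hxt', mul_inv_cancel_right]
      have hj9 : ¬ (9 : ℤ) ∣ j := fun hd => by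
        rw [show x' = 1 by rw [← hj]; exact orderOf_dvd_iff_zpow_eq_one.1 (by rw [e]; exact_mod_cast hd),
          orderOf_one] at hx'
        norm_num at hx'
      have hmj : (9 : ℤ) ∣ j * (m - 1) := by
        have h2 : v ^ (j * m - j) = 1 := by rw [zpow_sub, zpow_mul, hfix', mul_inv_cancel]
        have := orderOf_dvd_iff_zpow_eq_one.2 h2
        rw [e] at this
        have h9 : ((3 ^ 2 : ℕ) : ℤ) = 9 := by norm_num
        rw [h9] at this
        rwa [show j * (m - 1) = j * m - j by ring]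
      have hm2 : v ^ (m * m) = v := by
        rw [zpow_mul, show v ^ m = t * v * t⁻¹ from hm, ← MulAut.conj_apply, ← map_zpow,
          show v ^ m = t * v * t⁻¹ from hm, MulAut.conj_apply, inv_eq_self_of_orderOf_two h.inv]
        calc t * (t * v * t) * t = (t * t) * v * (t * t) := by group
          _ = v := by rw [(orderOf_two_iff.1 h.inv).1, one_mul, mul_one]
      have hm9 : (9 : ℤ) ∣ m * m - 1 := by
        have h2 : v ^ (m * m - 1) = 1 := by rw [zpow_sub, hm2, zpow_one, mul_inv_cancel]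
        have := orderOf_dvd_iff_zpow_eq_one.2 h2
        rw [e] at this
        exact_mod_cast this
      have hm1 : (9 : ℤ) ∣ m - 1 := by
        have h3m : (3 : ℤ) ∣ m - 1 := by
          rcases (Int.prime_three.dvd_mul).1 ((by norm_num : (3 : ℤ) ∣ 9).trans hmj) with hh | hh
          · obtain ⟨k, hk⟩ := hh
            have h3k : ¬ (3 : ℤ) ∣ k := fun h' => hj9 (hk ▸ by obtain ⟨l, rfl⟩ := h'; exact ⟨l, by ring⟩)
            rw [hk, show (9 : ℤ) = 3 * 3 by norm_num, mul_assoc] at hmj
            exact ((Int.prime_three.dvd_mul).1 (Int.dvd_of_mul_dvd_mul_left (by norm_num) hmj)).resolve_left h3k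
          · exact hh
        have hcop : IsCoprime (9 : ℤ) (m + 1) := by
          rw [show (9 : ℤ) = 3 ^ 2 by norm_num]
          refine IsCoprime.pow_left ((Int.prime_three.coprime_iff_not_dvd).2 fun h' => ?_)
          have := Int.dvd_sub h' h3m
          norm_num at this
        exact hcop.dvd_of_dvd_mul_left (by rw [show (m + 1) * (m - 1) = m * m - 1 by ring]; exact hm9)
      have hvt : v * t = t * v := by
        have h2 : v ^ m = v := by
          obtain ⟨k, hk⟩ := hm1
          rw [show m = 9 * k + 1 by linarith, zpow_add, zpow_mul, zpow_one,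
            show v ^ (9 : ℤ) = 1 from orderOf_dvd_iff_zpow_eq_one.1 (by rw [e]; norm_num), one_zpow, one_mul]
        rw [show v ^ m = t * v * t⁻¹ from hm] at h2
        exact (mul_inv_eq_iff_eq_mul.1 h2).symm
      rcases h.fixed_three hx' hxt' hvC hvt with hm' | ⟨w, hw, ew⟩
      · have := (Subgroup.zpowers x').orderOf_dvd_natCard hm'
        rw [Nat.card_zpowers, hx', e] at this
        norm_num at this
      · have ht' : t ∈ O := by
          rw [show t = v * w⁻¹ by rw [ew, mul_inv_cancel_right]]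
          exact O.mul_mem hv (O.inv_mem (Subgroup.zpowers_le.2 hxO hw))
        have := O.orderOf_dvd_natCard ht'
        rw [h.inv, hO9] at this
        norm_num at this
    · have := hinv x' hxO
      rw [← hxt', mul_inv_cancel_right] at this
      have h2 : orderOf x' ∣ 2 := orderOf_dvd_iff_pow_eq_one.2 (by
        rw [sq]; exact (eq_inv_iff_mul_eq_one.1 this))
      rw [hx'] at h2; norm_num at h2
  -- a second element fixed by an involution
  obtain ⟨s, hs, hst, hsx, hsn, y, hyO, hy1, hys⟩ : ∃ s : G, orderOf s = 2 ∧ s * t = t * s ∧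
      s * x' * s⁻¹ = x'⁻¹ ∧ (∀ v ∈ O, s * v * s⁻¹ ∈ O) ∧
      ∃ y ∈ O, y ≠ 1 ∧ s * y * s⁻¹ = y := by
    rcases fixed_or_inverts hu O hun with hf | hi
    · exact ⟨u, hu, hut, hux, hun, hf⟩
    · rcases fixed_or_inverts hut2 O hutn with hf | hi'
      · exact ⟨u * t, hut2, by rw [mul_assoc, ← mul_assoc t u t, ← hut, mul_assoc u t t], hutx, hutn, hf⟩
      · exfalso
        have hle : ∀ v ∈ O, v ∈ Subgroup.zpowers x' := by
          intro v hv
          have e1 : t * v * t⁻¹ = v := by
            have a1 := hi' v hv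
            have a2 := hi _ (htn v hv)
            rw [show u * t * v * (u * t)⁻¹ = u * (t * v * t⁻¹) * u⁻¹ by group, a2] at a1
            exact inv_injective a1
          rcases h.fixed_three hx' hxt' (Subgroup.mem_centralizer_singleton_iff.1 (hOC hv))
            (mul_inv_eq_iff_eq_mul.1 e1).symm with hm | ⟨w, hw, rfl⟩
          · exact hm
          · exfalso
            have ht' : t ∈ O := by
              rw [show t = t * w * w⁻¹ by group]
              exact O.mul_mem hv (O.inv_mem (Subgroup.zpowers_le.2 hxO hw))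
            have := O.orderOf_dvd_natCard ht'
            rw [h.inv, hO9] at this
            norm_num at this
        have := Subgroup.card_le_of_le (show O ≤ Subgroup.zpowers x' from hle)
        rw [hO9, Nat.card_zpowers, hx'] at this
        omega
  have hy3 : orderOf y = 3 :=
    ((Nat.dvd_prime Nat.prime_three).1 (hord y hyO)).resolve_left fun e => hy1 (orderOf_eq_one_iff.1 e)
  have hyel : El y := ⟨hy3, s, hs, mul_inv_eq_iff_eq_mul.1 hys⟩
  have hxel : El x' := hel hx' hxt'
  have hxy : Commute x' y := (Subgroup.mem_centralizer_singleton_iff.1 (hOC hyO)).symm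
  have hcomm : ∀ v ∈ O, ∀ w ∈ O, Commute v w := by
    have := IsPGroup.commutative_of_card_eq_prime_sq (p := 3) (G := O) hO
    exact fun v hv w hw => congrArg Subtype.val (this ⟨v, hv⟩ ⟨w, hw⟩)
  have hyx : y ∉ Subgroup.zpowers x' := by
    rintro ⟨i, rfl⟩
    rw [← MulAut.conj_apply, map_zpow, MulAut.conj_apply, hsx, inv_zpow] at hys
    have : orderOf (x' ^ i) ∣ 2 := orderOf_dvd_iff_pow_eq_one.2 (by
      rw [sq]; exact eq_inv_iff_mul_eq_one.1 hys.symm)
    rw [hy3] at this; norm_num at this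
  have hty : t * y * t⁻¹ = y⁻¹ := by
    have hmem := htn y hyO
    have hfix : s * (t * y * t⁻¹) * s⁻¹ = t * y * t⁻¹ := by
      calc s * (t * y * t⁻¹) * s⁻¹ = (s * t) * y * (s * t)⁻¹ := by group
        _ = t * (s * y * s⁻¹) * t⁻¹ := by rw [hst]; group
        _ = t * y * t⁻¹ := by rw [hys]
    -- inside the involution centraliser of s there is one subgroup of order three fixed by x'
    obtain ⟨h'⟩ := h.conj hs
    rcases h'.fixed_three hy3 (mul_inv_eq_iff_eq_mul.1 hys).symm (hcomm _ hmem _ hyO)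
      (mul_inv_eq_iff_eq_mul.1 hfix).symm with hm | ⟨w, hw, e⟩
    · obtain ⟨i, hi⟩ := hm
      have hi' : t * y * t⁻¹ = y ^ i := hi.symm
      rcases (show i % 3 = 0 ∨ i % 3 = 1 ∨ i % 3 = 2 by omega) with e3 | e3 | e3 <;>
        rw [← zpow_mod_orderOf y i, hy3] at hi' <;> simp only [Nat.cast_ofNat, e3, zpow_zero, zpow_one] at hi'
      · exact absurd (conj_eq_one_iff.1 hi') hy1
      · exfalso
        rcases h.fixed_three hx' hxt' hxy.symm (mul_inv_eq_iff_eq_mul.1 hi').symm with hm | ⟨w, hw, e⟩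
        · exact hyx hm
        · have ht' : t ∈ O := by
            rw [show t = y * w⁻¹ by rw [e, mul_inv_cancel_right]]
            exact O.mul_mem hyO (O.inv_mem (Subgroup.zpowers_le.2 hxO hw))
          have := O.orderOf_dvd_natCard ht'
          rw [h.inv, hO9] at this
          norm_num at this
      · rw [hi', zpow_two, eq_inv_iff_mul_eq_one, ← pow_three', ← hy3, pow_orderOf_eq_one]
    · exfalso
      have hs' : s ∈ O := by
        rw [show s = t * y * t⁻¹ * w⁻¹ by rw [e, mul_inv_cancel_right]]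
        exact O.mul_mem hmem (O.inv_mem (Subgroup.zpowers_le.2 hyO hw))
      have := O.orderOf_dvd_natCard hs'
      rw [hs, hO9] at this
      norm_num at this
  -- a central element of a Sylow group in O
  obtain ⟨P, hP⟩ := (IsPGroup.of_card (p := 3) (n := 2) hO).exists_le_sylow
  have hPc := h.sylow_three_card hG P
  haveI : Nontrivial (P : Subgroup G) := Finite.one_lt_card_iff_nontrivial.1 (by rw [hPc]; norm_num)
  haveI := P.2.center_nontrivial
  obtain ⟨⟨⟨z, hzP⟩, hzc⟩, hz1⟩ := exists_ne (1 : Subgroup.center (P : Subgroup G))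
  have hzP' : ∀ v ∈ (P : Subgroup G), v * z = z * v := fun v hv =>
    congrArg Subtype.val (Subgroup.mem_center_iff.1 hzc ⟨v, hv⟩)
  have hzC : z ∈ Subgroup.centralizer ({x'} : Set G) :=
    Subgroup.mem_centralizer_singleton_iff.2 (hzP' x' (hP hxO)).symm
  have hzO : z ∈ O := hall z hzC (hPc ▸ (P : Subgroup G).orderOf_dvd_natCard hzP)
  have hz1' : z ≠ 1 := fun e => hz1 (Subtype.ext (Subtype.ext e))
  have hznel : ¬ El z := fun hz => by
    have h27 : (P : Subgroup G) ≤ Subgroup.centralizer ({z} : Set G) := fun v hv =>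
      Subgroup.mem_centralizer_singleton_iff.2 (hzP' v hv)
    have h18 := Subgroup.card_le_of_le h27
    rw [← card_cent_conj (h.el_conj hxel hz), hC, hPc] at h18
    norm_num at h18
  have hspan : ∀ v ∈ O, ∃ i j : Fin 3, v = x' ^ (i : ℕ) * y ^ (j : ℕ) := by
    intro v hv
    let f : Fin 3 × Fin 3 → O := fun p => ⟨x' ^ (p.1 : ℕ) * y ^ (p.2 : ℕ),
      O.mul_mem (O.pow_mem hxO _) (O.pow_mem hyO _)⟩
    have hf : Function.Injective f := by
      rintro ⟨i, j⟩ ⟨k, l⟩ e
      have e' : x' ^ (i : ℕ) * y ^ (j : ℕ) = x' ^ (k : ℕ) * y ^ (l : ℕ) := congrArg Subtype.val e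
      have h1 : y ^ ((j : ℤ) - l) ∈ Subgroup.zpowers x' := ⟨(k : ℤ) - i, by
        show x' ^ ((k : ℤ) - i) = y ^ ((j : ℤ) - l)
        rw [zpow_sub, zpow_sub, zpow_natCast, zpow_natCast, zpow_natCast, zpow_natCast]
        calc x' ^ (k : ℕ) * (x' ^ (i : ℕ))⁻¹ = (x' ^ (i : ℕ))⁻¹ * x' ^ (k : ℕ) :=
              ((Commute.refl x').pow_pow _ _).inv_right.eq
          _ = (x' ^ (i : ℕ))⁻¹ * (x' ^ (i : ℕ) * y ^ (j : ℕ) * (y ^ (l : ℕ))⁻¹) := by
              rw [e', mul_inv_cancel_right]
          _ = y ^ (j : ℕ) * (y ^ (l : ℕ))⁻¹ := by group⟩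
      have hjl : j = l := by
        by_contra hne
        apply hyx
        have hd : ¬ (3 : ℤ) ∣ (j : ℤ) - l := by
          intro hd
          exact hne (Fin.ext (by omega))
        obtain ⟨r, hr⟩ : ∃ r : ℤ, (3 : ℤ) ∣ ((j : ℤ) - l) * r - 1 := by
          refine ⟨(j : ℤ) - l, ?_⟩
          have := j.isLt; have := l.isLt
          have : (j : ℤ) - l = 1 ∨ (j : ℤ) - l = 2 ∨ (j : ℤ) - l = -1 ∨ (j : ℤ) - l = -2 := by omega
          rcases this with e | e | e | e <;> rw [e] <;> norm_num
        have := (Subgroup.zpowers x').zpow_mem h1 r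
        rwa [← zpow_mul, show ((j : ℤ) - l) * r = (((j : ℤ) - l) * r - 1) + 1 by ring, zpow_add, zpow_one,
          orderOf_dvd_iff_zpow_eq_one.1 (by rw [hy3]; exact_mod_cast hr), one_mul] at this
      subst hjl
      have hik : x' ^ (i : ℕ) = x' ^ (k : ℕ) := mul_right_cancel e'
      rw [pow_eq_pow_iff_modEq, hx'] at hik
      refine Prod.ext (Fin.ext ?_) rfl
      show (i : ℕ) = (k : ℕ)
      unfold Nat.ModEq at hik
      rwa [Nat.mod_eq_of_lt i.isLt, Nat.mod_eq_of_lt k.isLt] at hik
    obtain ⟨⟨i, j⟩, hij⟩ := (hf.bijective_of_nat_card_le (by rw [hO9]; simp)).2 ⟨v, hv⟩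
    exact ⟨i, j, (congrArg Subtype.val hij).symm⟩
  have hp2 : ∀ {w : G}, orderOf w = 3 → w ^ 2 = w⁻¹ := fun hw => by
    rw [eq_inv_iff_mul_eq_one, ← pow_succ, show 2 + 1 = orderOf _ from hw.symm, pow_orderOf_eq_one]
  have hdiag : (¬ El (x' * y) ∧ ¬ El (x' * y⁻¹)) := by
    have htd : t * (x' * y) * t⁻¹ = x' * y⁻¹ := by
      calc t * (x' * y) * t⁻¹ = (t * x' * t⁻¹) * (t * y * t⁻¹) := by group
        _ = x' * y⁻¹ := by rw [← hxt', mul_inv_cancel_right, hty]
    have key : ¬ El (x' * y) := by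
      intro hd
      have hd' : El (x' * y⁻¹) := htd ▸ hd.conj t
      obtain ⟨i, j, hij⟩ := hspan z hzO
      apply hznel
      rw [hij]
      fin_cases i <;> fin_cases j <;> simp only [pow_zero, pow_one, one_mul, mul_one, hp2 hx', hp2 hy3]
      · exact absurd (by rw [hij]; simp) hz1'
      · exact hyel
      · exact hyel.inv
      · exact hxel
      · exact hd
      · exact hd'
      · exact hxel.inv
      · have := hd'.inv
        rwa [mul_inv_rev, inv_inv, (hxy.inv_left).symm.eq] at this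
      · have := hd.inv
        rwa [mul_inv_rev, (hxy.inv_inv).symm.eq] at this
    refine ⟨key, fun hd' => key ?_⟩
    have := hd'.conj t
    rwa [show t * (x' * y⁻¹) * t⁻¹ = x' * y by
      calc t * (x' * y⁻¹) * t⁻¹ = (t * x' * t⁻¹) * (t * y * t⁻¹)⁻¹ := by group
        _ = x' * y := by rw [← hxt', mul_inv_cancel_right, hty, inv_inv]] at this
  have hY : ∀ v ∈ O, El v → v = x' ∨ v = x'⁻¹ ∨ v = y ∨ v = y⁻¹ := by
    intro v hv hvel
    obtain ⟨i, j, rfl⟩ := hspan v hv
    have hne : x' ^ (i : ℕ) * y ^ (j : ℕ) ≠ 1 := fun e => by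
      have := hvel.1; rw [e, orderOf_one] at this; norm_num at this
    revert hvel hne
    fin_cases i <;> fin_cases j <;> simp only [pow_zero, pow_one, one_mul, mul_one, hp2 hx', hp2 hy3] <;>
      intro hvel hne
    · exact absurd rfl hne
    · simp
    · simp
    · simp
    · exact absurd hvel hdiag.1
    · exact absurd hvel hdiag.2
    · simp
    · refine absurd ?_ hdiag.2
      have := hvel.inv
      rwa [mul_inv_rev, inv_inv, (hxy.inv_right).symm.eq] at this
    · refine absurd ?_ hdiag.1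
      have := hvel.inv
      rwa [mul_inv_rev, inv_inv, inv_inv, hxy.symm.eq] at this
  -- a Sylow element moving x'
  obtain ⟨k, hkP, hk⟩ : ∃ k ∈ (P : Subgroup G), k * x' * k⁻¹ ≠ x' := by
    by_contra hc
    push Not at hc
    have h27 : (P : Subgroup G) ≤ Subgroup.centralizer ({x'} : Set G) := fun v hv =>
      Subgroup.mem_centralizer_singleton_iff.2 (mul_inv_eq_iff_eq_mul.1 (hc v hv))
    have := Subgroup.card_dvd_of_le h27
    rw [hC, hPc] at this
    norm_num at this
  have hOn : ∀ v ∈ O, k * v * k⁻¹ ∈ O := by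
    have hi : (O.subgroupOf P).index = 3 := by
      have := (O.subgroupOf P).card_mul_index
      rw [Nat.card_congr (Subgroup.subgroupOfEquivOfLe hP).toEquiv, hO, hPc] at this
      omega
    haveI : (O.subgroupOf P).Normal := Subgroup.normal_of_index_eq_minFac_card (by
      rw [hi, hPc]; norm_num [Nat.minFac_eq])
    intro v hv
    exact Subgroup.Normal.conj_mem ‹_› (⟨v, hP hv⟩ : (P : Subgroup G)) hv ⟨k, hkP⟩
  let c : G → G := fun v => k * v * k⁻¹
  have hk3 : c (c (c x')) = x' := by
    have hk3O : k ^ 3 ∈ O := by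
      have hi : (O.subgroupOf P).index = 3 := by
        have := (O.subgroupOf P).card_mul_index
        rw [Nat.card_congr (Subgroup.subgroupOfEquivOfLe hP).toEquiv, hO, hPc] at this
        omega
      haveI : (O.subgroupOf P).Normal := Subgroup.normal_of_index_eq_minFac_card (by
        rw [hi, hPc]; norm_num [Nat.minFac_eq])
      have := (O.subgroupOf P).pow_index_mem (⟨k, hkP⟩ : (P : Subgroup G))
      rw [hi] at this
      exact this
    have := (hcomm _ hk3O _ hxO).eq
    show k * (k * (k * x' * k⁻¹) * k⁻¹) * k⁻¹ = x'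
    calc k * (k * (k * x' * k⁻¹) * k⁻¹) * k⁻¹ = k ^ 3 * x' * (k ^ 3)⁻¹ := by
          simp [pow_succ, mul_assoc, mul_inv_rev]
      _ = x' := by rw [this, mul_inv_cancel_right]
  have hcinv : ∀ v, c v⁻¹ = (c v)⁻¹ := fun v => by show k * v⁻¹ * k⁻¹ = (k * v * k⁻¹)⁻¹; group
  have hinvne : ∀ {w : G}, orderOf w = 3 → w⁻¹ ≠ w := fun {w} hw e => by
    have : orderOf w ∣ 2 := orderOf_dvd_iff_pow_eq_one.2 (by rw [sq]; exact eq_inv_iff_mul_eq_one.1 e.symm)
    rw [hw] at this; norm_num at this
  have h1 := hY (c x') (hOn _ hxO) (hxel.conj k)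
  have h2 := hY (c (c x')) (hOn _ (hOn _ hxO)) ((hxel.conj k).conj k)
  -- a cube root of the identity has no orbit of even length
  have hno : ∀ v, c (c (c v)) = v → c v ≠ v⁻¹ ∨ v⁻¹ = v := by
    intro v hv
    by_contra hcon
    push Not at hcon
    obtain ⟨e, hne⟩ := hcon
    rw [e, hcinv, e, inv_inv, e] at hv
    exact hne hv
  have hx1 : c x' = y ∨ c x' = y⁻¹ := by
    rcases h1 with e | e | e | e
    · exact absurd e hk
    · exact absurd e ((hno x' hk3).resolve_right (hinvne hx'))
    · exact Or.inl e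
    · exact Or.inr e
  have hc3 : c (c (c (c x'))) = c x' := by rw [hk3]
  have hord1 : orderOf (c x') = 3 := (orderOf_conj' k x').trans hx'
  rcases h2 with e | e | e | e
  · rw [e] at hk3; exact hk hk3
  · rw [e, hcinv] at hk3
    exact (hno x' (by rw [e, hcinv, hk3])).resolve_right (hinvne hx') (by rw [← inv_inv (c x'), hk3])
  · rcases hx1 with e1 | e1
    · rw [← e1] at e
      exact hk (by rw [e] at hk3; rw [e] at hk3; exact hk3)
    · exact (hno (c x') hc3).resolve_right (hinvne hord1) (by rw [e, e1, inv_inv])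
  · rcases hx1 with e1 | e1
    · exact (hno (c x') hc3).resolve_right (hinvne hord1) (by rw [e, e1])
    · rw [← e1] at e
      exact hk (by rw [e] at hk3; rw [e] at hk3; exact hk3)

end Order

end Cfsg.Agent.Lib.Characters.LThreeThree
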